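-- helper8: the symplectic group Sp_2m(F) over a field acts on F^(2m); transvections as group
-- elements; Sp_2m(F) is generated by symplectic transvections; transitivity on nonzero vectors.
import Mathlib
import Cfsg.Agent.Lib.Helper13.Symp

set_option autoImplicit false

namespace Cfsg.Agent.Lib.Helper8

open Matrix
open Cfsg.Agent.Lib.Helper13

variable {F : Type*} [Field F] {m : ℕ}

/-- the action of the symplectic group on vectors -/
def spAct (g : Matrix.symplecticGroup (Fin m) F) (x : Fin m ⊕ Fin m → F) : Fin m ⊕ Fin m → F :=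
  g.1 *ᵥ x

theorem spAct_mul (g h : Matrix.symplecticGroup (Fin m) F) (x : Fin m ⊕ Fin m → F) :
    spAct (g * h) x = spAct g (spAct h x) := by
  unfold spAct
  rw [mulVec_mulVec]; rfl

theorem spAct_one (x : Fin m ⊕ Fin m → F) :
    spAct (1 : Matrix.symplecticGroup (Fin m) F) x = x := by
  unfold spAct
  exact one_mulVec x

theorem spAct_inv_act (g : Matrix.symplecticGroup (Fin m) F) (x : Fin m ⊕ Fin m → F) :
    spAct g⁻¹ (spAct g x) = x := by
  rw [← spAct_mul, inv_mul_cancel, spAct_one]

theorem spAct_act_inv (g : Matrix.symplecticGroup (Fin m) F) (x : Fin m ⊕ Fin m → F) :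
    spAct g (spAct g⁻¹ x) = x := by
  rw [← spAct_mul, mul_inv_cancel, spAct_one]

theorem spAct_add (g : Matrix.symplecticGroup (Fin m) F) (x y : Fin m ⊕ Fin m → F) :
    spAct g (x + y) = spAct g x + spAct g y := by
  unfold spAct; exact mulVec_add _ _ _

theorem spAct_sub (g : Matrix.symplecticGroup (Fin m) F) (x y : Fin m ⊕ Fin m → F) :
    spAct g (x - y) = spAct g x - spAct g y := by
  unfold spAct; exact mulVec_sub _ _ _

theorem spAct_smul (g : Matrix.symplecticGroup (Fin m) F) (c : F)
    (x : Fin m ⊕ Fin m → F) : spAct g (c • x) = c • spAct g x := by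
  unfold spAct; exact mulVec_smul _ _ _

theorem spAct_zero (g : Matrix.symplecticGroup (Fin m) F) :
    spAct g (0 : Fin m ⊕ Fin m → F) = 0 := by
  unfold spAct; exact mulVec_zero _

theorem sympForm_spAct (g : Matrix.symplecticGroup (Fin m) F) (x y : Fin m ⊕ Fin m → F) :
    Cfsg.sympForm m F (spAct g x) (spAct g y) = Cfsg.sympForm m F x y :=
  sympForm_mulVec_of_mem m g.2 x y

theorem sp_ext {g h : Matrix.symplecticGroup (Fin m) F} (H : ∀ x, spAct g x = spAct h x) :
    g = h :=
  Subtype.ext (Matrix.ext_iff_mulVec.2 H)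

/-- the symplectic transvection `x ↦ x + c f(x, v) v` as an element of the symplectic group -/
def spT (v : Fin m ⊕ Fin m → F) (c : F) : Matrix.symplecticGroup (Fin m) F :=
  ⟨Cfsg.sympTransvection m v c, sympTransvection_mem m v c⟩

theorem spAct_spT (v : Fin m ⊕ Fin m → F) (c : F) (x : Fin m ⊕ Fin m → F) :
    spAct (spT v c) x = x + (c * Cfsg.sympForm m F x v) • v :=
  sympTransvection_mulVec m v c x

theorem spAct_spT_of_orth {v x : Fin m ⊕ Fin m → F} (c : F) (h : Cfsg.sympForm m F x v = 0) :
    spAct (spT v c) x = x := by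
  rw [spAct_spT, h, mul_zero, zero_smul, add_zero]

theorem spT_zero_right (v : Fin m ⊕ Fin m → F) : spT v (0 : F) = 1 := by
  apply sp_ext
  intro x
  rw [spAct_spT, spAct_one, zero_mul, zero_smul, add_zero]

theorem spT_zero_left (c : F) : spT (0 : Fin m ⊕ Fin m → F) c = 1 := by
  apply sp_ext
  intro x
  rw [spAct_spT, spAct_one, smul_zero, add_zero]

theorem spT_mul (v : Fin m ⊕ Fin m → F) (c d : F) : spT v c * spT v d = spT v (c + d) := by
  apply sp_ext
  intro x
  rw [spAct_mul, spAct_spT, spAct_spT, spAct_spT, sympForm_add_left, sympForm_smul_left,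
    sympForm_self, mul_zero, add_zero, add_assoc, ← add_smul]
  congr 2
  ring

theorem spT_inv (v : Fin m ⊕ Fin m → F) (c : F) : (spT v c)⁻¹ = spT v (-c) := by
  apply inv_eq_of_mul_eq_one_left
  rw [spT_mul, neg_add_cancel, spT_zero_right]

theorem conj_spT (g : Matrix.symplecticGroup (Fin m) F) (v : Fin m ⊕ Fin m → F) (c : F) :
    g * spT v c * g⁻¹ = spT (spAct g v) c := by
  apply sp_ext
  intro x
  rw [spAct_mul, spAct_mul, spAct_spT, spAct_add, spAct_smul, spAct_act_inv, spAct_spT]
  have h := sympForm_spAct g (spAct g⁻¹ x) v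
  rw [spAct_act_inv] at h
  rw [h]

theorem spT_smul (a : F) (v : Fin m ⊕ Fin m → F) (c : F) : spT (a • v) c = spT v (a * a * c) := by
  apply sp_ext
  intro x
  rw [spAct_spT, spAct_spT, sympForm_smul_right, smul_smul]
  congr 2
  ring

/-- the form is non-degenerate -/
theorem exists_sympForm_ne_zero {u : Fin m ⊕ Fin m → F} (hu : u ≠ 0) :
    ∃ z, Cfsg.sympForm m F u z ≠ 0 := by
  obtain ⟨i, hi⟩ : ∃ i, u i ≠ 0 := by
    by_contra h; push Not at h; exact hu (funext h)
  refine ⟨(-Matrix.J (Fin m) F) *ᵥ Pi.single i 1, ?_⟩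
  unfold Cfsg.sympForm
  rw [mulVec_mulVec, mul_neg, Matrix.J_squared, neg_neg, one_mulVec, dotProduct_single, mul_one]
  exact hi

theorem exists_sympForm_both {a b : Fin m ⊕ Fin m → F} (ha : a ≠ 0) (hb : b ≠ 0) :
    ∃ z, Cfsg.sympForm m F a z ≠ 0 ∧ Cfsg.sympForm m F b z ≠ 0 := by
  obtain ⟨z1, h1⟩ := exists_sympForm_ne_zero ha
  obtain ⟨z2, h2⟩ := exists_sympForm_ne_zero hb
  by_cases h3 : Cfsg.sympForm m F b z1 = 0
  · by_cases h4 : Cfsg.sympForm m F a z2 = 0
    · refine ⟨z1 + z2, ?_, ?_⟩
      · rw [sympForm_add_right, h4, add_zero]; exact h1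
      · rw [sympForm_add_right, h3, zero_add]; exact h2
    · exact ⟨z2, h4, h2⟩
  · exact ⟨z1, h1, h3⟩

/-- if `f(p, q) ≠ 0` a transvection moves `q` to `p` -/
theorem spAct_spT_move {p q : Fin m ⊕ Fin m → F} (h : Cfsg.sympForm m F p q ≠ 0) :
    spAct (spT (q - p) (-(Cfsg.sympForm m F p q)⁻¹)) q = p := by
  rw [spAct_spT, sympForm_sub_right, sympForm_self, zero_sub, sympForm_swap m q p, neg_neg,
    neg_mul, inv_mul_cancel₀ h, neg_smul, one_smul]
  abel

/-- the set of symplectic transvections -/
def spTSet (m : ℕ) (F : Type*) [Field F] : Set (Matrix.symplecticGroup (Fin m) F) :=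
  {A | ∃ (w : Fin m ⊕ Fin m → F) (c : F),
    (A : Matrix (Fin m ⊕ Fin m) (Fin m ⊕ Fin m) F) = Cfsg.sympTransvection m w c}

theorem spT_mem_spTSet (v : Fin m ⊕ Fin m → F) (c : F) : spT v c ∈ spTSet m F :=
  ⟨v, c, rfl⟩

theorem spT_mem_closure (v : Fin m ⊕ Fin m → F) (c : F) :
    spT v c ∈ Subgroup.closure (spTSet m F) :=
  Subgroup.subset_closure (spT_mem_spTSet v c)

/-- transvections act transitively on non-zero vectors -/
theorem exists_spAct_eq {a b : Fin m ⊕ Fin m → F} (ha : a ≠ 0) (hb : b ≠ 0) :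
    ∃ g ∈ Subgroup.closure (spTSet m F), spAct g a = b := by
  by_cases h : Cfsg.sympForm m F b a = 0
  · obtain ⟨z, hz1, hz2⟩ := exists_sympForm_both ha hb
    have hz1' : Cfsg.sympForm m F z a ≠ 0 := by
      rw [sympForm_swap]; exact neg_ne_zero.2 hz1
    refine ⟨spT (z - b) (-(Cfsg.sympForm m F b z)⁻¹) * spT (a - z) (-(Cfsg.sympForm m F z a)⁻¹),
      mul_mem (spT_mem_closure _ _) (spT_mem_closure _ _), ?_⟩
    rw [spAct_mul, spAct_spT_move hz1', spAct_spT_move hz2]
  · exact ⟨spT (a - b) (-(Cfsg.sympForm m F b a)⁻¹), spT_mem_closure _ _, spAct_spT_move h⟩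

/-- the key reduction step: a non-identity element can be multiplied by a product of
transvections so as to enlarge its fixed space -/
theorem exists_reduce (g : Matrix.symplecticGroup (Fin m) F) (hg : g ≠ 1) :
    ∃ h ∈ Subgroup.closure (spTSet m F), ∃ v : Fin m ⊕ Fin m → F, spAct g v ≠ v ∧
      spAct (h * g) v = v ∧ ∀ x, spAct g x = x → spAct (h * g) x = x := by
  obtain ⟨v, hv⟩ : ∃ v, spAct g v ≠ v := by
    by_contra h
    push Not at h
    exact hg (sp_ext (fun x => by rw [h x, spAct_one]))
  have hab : v - spAct g v ≠ 0 := fun h => hv (sub_eq_zero.1 h).symm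
  -- vectors `g w - w` are orthogonal to the fixed vectors
  have hfix : ∀ w x, spAct g x = x → Cfsg.sympForm m F x (spAct g w - w) = 0 := by
    intro w x hx
    have h1 := sympForm_spAct g x w
    rw [hx] at h1
    rw [sympForm_sub_right, h1, sub_self]
  by_cases h : Cfsg.sympForm m F v (spAct g v) = 0
  · have h1 : spAct g⁻¹ v - v ≠ 0 := by
      intro h2
      apply hv
      have h3 : spAct g (spAct g⁻¹ v) = v := spAct_act_inv g v
      rw [sub_eq_zero.1 h2] at h3
      exact h3
    obtain ⟨w, hw1, hw2⟩ := exists_sympForm_both h1 hab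
    -- z = v + (g w - w)
    have hz1 : Cfsg.sympForm m F v (v + (spAct g w - w)) ≠ 0 := by
      have h2 := sympForm_spAct g (spAct g⁻¹ v) w
      rw [spAct_act_inv] at h2
      rw [sympForm_add_right, sympForm_self, zero_add, sympForm_sub_right, h2,
        ← sympForm_sub_left]
      exact hw1
    have hz2 : Cfsg.sympForm m F (v + (spAct g w - w)) (spAct g v) ≠ 0 := by
      rw [sympForm_add_left, h, zero_add, sympForm_sub_left, sympForm_spAct,
        sympForm_swap m w v, sympForm_swap m w (spAct g v)]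
      have h3 : -Cfsg.sympForm m F v w - -Cfsg.sympForm m F (spAct g v) w
          = - Cfsg.sympForm m F (v - spAct g v) w := by
        rw [sympForm_sub_left]; ring
      rw [h3]
      exact neg_ne_zero.2 hw2
    refine ⟨spT ((v + (spAct g w - w)) - v) (-(Cfsg.sympForm m F v (v + (spAct g w - w)))⁻¹)
        * spT (spAct g v - (v + (spAct g w - w)))
          (-(Cfsg.sympForm m F (v + (spAct g w - w)) (spAct g v))⁻¹),
      mul_mem (spT_mem_closure _ _) (spT_mem_closure _ _), v, hv, ?_, ?_⟩
    · rw [spAct_mul, spAct_mul, spAct_spT_move hz2, spAct_spT_move hz1]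
    · intro x hx
      have e1 : Cfsg.sympForm m F x (spAct g v - (v + (spAct g w - w))) = 0 := by
        have h2 : spAct g v - (v + (spAct g w - w)) = (spAct g v - v) - (spAct g w - w) := by
          abel
        rw [h2, sympForm_sub_right, hfix v x hx, hfix w x hx, sub_zero]
      have e2 : Cfsg.sympForm m F x ((v + (spAct g w - w)) - v) = 0 := by
        rw [add_sub_cancel_left, hfix w x hx]
      rw [spAct_mul, spAct_mul, hx, spAct_spT_of_orth _ e1, spAct_spT_of_orth _ e2]
  · refine ⟨spT (spAct g v - v) (-(Cfsg.sympForm m F v (spAct g v))⁻¹), spT_mem_closure _ _,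
      v, hv, ?_, ?_⟩
    · rw [spAct_mul, spAct_spT_move h]
    · intro x hx
      rw [spAct_mul, hx, spAct_spT_of_orth _ (hfix v x hx)]

/-- the fixed space of an element -/
def spFix (g : Matrix.symplecticGroup (Fin m) F) : Submodule F (Fin m ⊕ Fin m → F) :=
  LinearMap.ker (Matrix.mulVecLin (g.1 - 1))

theorem mem_spFix (g : Matrix.symplecticGroup (Fin m) F) (x : Fin m ⊕ Fin m → F) :
    x ∈ spFix g ↔ spAct g x = x := by
  unfold spFix spAct
  rw [LinearMap.mem_ker, Matrix.mulVecLin_apply, sub_mulVec, one_mulVec, sub_eq_zero]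

theorem mem_closure_of_finrank :
    ∀ (k : ℕ) (g : Matrix.symplecticGroup (Fin m) F),
      Module.finrank F (Fin m ⊕ Fin m → F) ≤ Module.finrank F (spFix g) + k →
      g ∈ Subgroup.closure (spTSet m F) := by
  intro k
  induction k with
  | zero =>
    intro g hg
    have h1 : spFix g = ⊤ :=
      Submodule.eq_top_of_finrank_eq (le_antisymm (Submodule.finrank_le _) (by omega))
    have h2 : g = 1 := by
      apply sp_ext
      intro x
      rw [spAct_one, ← mem_spFix, h1]
      exact Submodule.mem_top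
    rw [h2]
    exact one_mem _
  | succ k ih =>
    intro g hg
    by_cases h1 : g = 1
    · rw [h1]; exact one_mem _
    · obtain ⟨h, hh, v, hv, hv2, hfix⟩ := exists_reduce g h1
      have hlt : spFix g < spFix (h * g) := by
        rw [lt_iff_le_and_ne]
        refine ⟨fun x hx => (mem_spFix _ _).2 (hfix x ((mem_spFix _ _).1 hx)), ?_⟩
        intro heq
        apply hv
        rw [← mem_spFix, heq, mem_spFix]
        exact hv2
      have h2 := Submodule.finrank_lt_finrank_of_lt hlt
      have h3 := ih (h * g) (by omega)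
      have h4 : g = h⁻¹ * (h * g) := by group
      rw [h4]
      exact mul_mem (inv_mem hh) h3

/-- the symplectic group is generated by the symplectic transvections -/
theorem closure_spTSet : Subgroup.closure (spTSet m F) = ⊤ := by
  rw [eq_top_iff]
  intro g _
  exact mem_closure_of_finrank _ g (Nat.le_add_left _ _)

end Cfsg.Agent.Lib.Helper8
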