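import Mathlib
import Cfsg.Agent.Lib.Helper14.Spinor
import Cfsg.Agent.Lib.Helper14.Spinor2
import Cfsg.Agent.Lib.Helper14.Centre
import Cfsg.Agent.Lib.Helper14.ReflGen
import Cfsg.Agent.Lib.Helper14.OmegaInv
import Cfsg.Agent.Lib.Helper44.PgoInn
import Cfsg.Agent.Lib.Helper44.PgoAut

/-!
# Rotations centralizing a class-interchanging similarity with scalar square

For a similarity `A` of a nondegenerate quadratic form in even dimension `2k ≥ 8` over a finite
field of odd characteristic with `A² ` scalar and `det A = -c^k` (`c` the multiplier), there are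
two nonsingular vectors `x, y` with `Q x * Q y` a non-square such that the product of the two
reflections commutes with `A`.
-/

set_option autoImplicit false

namespace Cfsg.Agent.Lib.Helper8.GraphInvCore

open Matrix Module Polynomial Cfsg.Agent.Lib.Helper14 Cfsg.Agent.Lib.Helper44

section core

variable {ι : Type} [Fintype ι] [DecidableEq ι] {F : Type*} [Field F]
variable (Q : QuadraticForm F (ι → F))

/-- In dimension `2k ≥ 6` there is a nonsingular vector orthogonal to two given vectors. -/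
theorem exists_nonsing_perp (hQ : (QuadraticMap.polarBilin Q).Nondegenerate) (k : ℕ)
    (hk : Fintype.card ι = 2 * k) (hk3 : 3 ≤ k) (u₁ u₂ : ι → F) :
    ∃ v, Q v ≠ 0 ∧ QuadraticMap.polar ⇑Q u₁ v = 0 ∧ QuadraticMap.polar ⇑Q u₂ v = 0 := by
  by_contra hcon
  push Not at hcon
  let f : (ι → F) →ₗ[F] (Fin 2 → F) :=
    LinearMap.pi ![QuadraticMap.polarBilin Q u₁, QuadraticMap.polarBilin Q u₂]
  have hW : ∀ x ∈ LinearMap.ker f, Q x = 0 := by
    intro x hx
    by_contra hne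
    rw [LinearMap.mem_ker] at hx
    have h1 : QuadraticMap.polar ⇑Q u₁ x = 0 := congrFun hx 0
    have h2 : QuadraticMap.polar ⇑Q u₂ x = 0 := congrFun hx 1
    exact hcon x hne h1 h2
  have h1 := two_mul_finrank_le_of_ts hQ hW
  have h2 := LinearMap.finrank_range_add_finrank_ker f
  have h3 : finrank F (LinearMap.range f) ≤ 2 := by
    have h := Submodule.finrank_le (LinearMap.range f)
    rwa [Module.finrank_fintype_fun_eq_card, Fintype.card_fin] at h
  rw [Module.finrank_fintype_fun_eq_card, hk] at h1 h2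
  omega

variable {Q}

theorem polar_sim {A : Matrix ι ι F} {c : F} (hA : ∀ x, Q (A *ᵥ x) = c * Q x) (x y : ι → F) :
    QuadraticMap.polar ⇑Q (A *ᵥ x) (A *ᵥ y) = c * QuadraticMap.polar ⇑Q x y := by
  unfold QuadraticMap.polar
  rw [← mulVec_add, hA, hA, hA]
  ring

theorem sq_mulVec {A : Matrix ι ι F} {lam : F} (hsq : A * A = lam • (1 : Matrix ι ι F))
    (x : ι → F) : A *ᵥ (A *ᵥ x) = lam • x := by
  rw [Matrix.mulVec_mulVec, hsq, Matrix.smul_mulVec, Matrix.one_mulVec]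

/-- A similarity with multiplier `c` and square `c` is self-adjoint. -/
theorem self_adj {A : Matrix ι ι F} {c : F} (hc : c ≠ 0) (hA : ∀ x, Q (A *ᵥ x) = c * Q x)
    (hsq : A * A = c • (1 : Matrix ι ι F)) (x y : ι → F) :
    QuadraticMap.polar ⇑Q (A *ᵥ x) y = QuadraticMap.polar ⇑Q x (A *ᵥ y) := by
  have h1 := polar_sim hA x (A *ᵥ y)
  rw [sq_mulVec hsq, QuadraticMap.polar_smul_right, smul_eq_mul] at h1
  exact mul_left_cancel₀ hc h1

theorem refl_comm_of_perp {a b : ι → F} (hb : Q b ≠ 0) (hab : QuadraticMap.polar ⇑Q b a = 0) :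
    Cfsg.reflectionMatrix ⇑Q b * Cfsg.reflectionMatrix ⇑Q a =
      Cfsg.reflectionMatrix ⇑Q a * Cfsg.reflectionMatrix ⇑Q b := by
  have h := refl_conj_sim Q (Cfsg.reflectionMatrix ⇑Q b) 1 one_ne_zero
    (fun x => by rw [one_mul]; exact reflectionMatrix_isometry Q hb x) a
  rw [reflectionMatrix_mulVec, hab, mul_zero, zero_smul, sub_zero] at h
  exact h

/-- The reflection in an eigenvector of a similarity commutes with it. -/
theorem refl_comm_of_eigen {A : Matrix ι ι F} {c : F} (hc : c ≠ 0)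
    (hA : ∀ x, Q (A *ᵥ x) = c * Q x) {x : ι → F} {μ : F} (hμ : μ ≠ 0) (hx : A *ᵥ x = μ • x) :
    A * Cfsg.reflectionMatrix ⇑Q x = Cfsg.reflectionMatrix ⇑Q x * A := by
  rw [refl_conj_sim Q A c hc hA x, hx, reflectionMatrix_smul Q x hμ]

/-- The product of the reflections in `a` and `A a`, for `a ⊥ A a`, commutes with `A`. -/
theorem comm_refl_swap {A : Matrix ι ι F} {c : F} (hc : c ≠ 0) (hA : ∀ x, Q (A *ᵥ x) = c * Q x)
    (hsq : A * A = c • (1 : Matrix ι ι F)) {a : ι → F} (ha : Q a ≠ 0)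
    (hperp : QuadraticMap.polar ⇑Q a (A *ᵥ a) = 0) :
    Cfsg.reflectionMatrix ⇑Q a * Cfsg.reflectionMatrix ⇑Q (A *ᵥ a) * A =
      A * (Cfsg.reflectionMatrix ⇑Q a * Cfsg.reflectionMatrix ⇑Q (A *ᵥ a)) := by
  have h1 : A * Cfsg.reflectionMatrix ⇑Q a = Cfsg.reflectionMatrix ⇑Q (A *ᵥ a) * A :=
    refl_conj_sim Q A c hc hA a
  have h2 : A * Cfsg.reflectionMatrix ⇑Q (A *ᵥ a) = Cfsg.reflectionMatrix ⇑Q a * A := by
    rw [refl_conj_sim Q A c hc hA (A *ᵥ a), sq_mulVec hsq, reflectionMatrix_smul Q a hc]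
  have h3 := refl_comm_of_perp ha hperp
  calc Cfsg.reflectionMatrix ⇑Q a * Cfsg.reflectionMatrix ⇑Q (A *ᵥ a) * A
      = Cfsg.reflectionMatrix ⇑Q (A *ᵥ a) * (Cfsg.reflectionMatrix ⇑Q a * A) := by
        rw [h3, Matrix.mul_assoc]
    _ = Cfsg.reflectionMatrix ⇑Q (A *ᵥ a) * (A * Cfsg.reflectionMatrix ⇑Q (A *ᵥ a)) := by
        rw [h2]
    _ = A * (Cfsg.reflectionMatrix ⇑Q a * Cfsg.reflectionMatrix ⇑Q (A *ᵥ a)) := by
        rw [← Matrix.mul_assoc, ← h1, Matrix.mul_assoc]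

/-- A similarity with multiplier `c` and square `-c` has determinant `c^k`. -/
theorem det_of_sq_neg (hQ : (QuadraticMap.polarBilin Q).Nondegenerate) (k : ℕ)
    (hk : Fintype.card ι = 2 * k) (h2 : (2 : F) ≠ 0) (A : Matrix ι ι F) (c : F) (hc : c ≠ 0)
    (hA : ∀ x, Q (A *ᵥ x) = c * Q x) (hsq : A * A = (-c) • (1 : Matrix ι ι F)) :
    A.det = c ^ k := by
  obtain ⟨M, hMdef⟩ : ∃ M : Matrix ι ι F,
      M = LinearMap.BilinForm.toMatrix' (QuadraticMap.polarBilin Q) := ⟨_, rfl⟩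
  have hMdet : M.det ≠ 0 := by
    rw [hMdef]
    exact Matrix.nondegenerate_iff_det_ne_zero.mp
      (LinearMap.BilinForm.nondegenerate_toMatrix'_iff.mpr hQ)
  have hcomp : LinearMap.BilinForm.comp (QuadraticMap.polarBilin Q) (Matrix.toLin' A)
      (Matrix.toLin' A) = c • QuadraticMap.polarBilin Q := by
    refine LinearMap.ext fun x => LinearMap.ext fun y => ?_
    rw [LinearMap.BilinForm.comp_apply, Matrix.toLin'_apply, Matrix.toLin'_apply,
      LinearMap.smul_apply, LinearMap.smul_apply,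
      QuadraticMap.polarBilin_apply_apply, QuadraticMap.polarBilin_apply_apply, smul_eq_mul]
    exact polar_sim hA x y
  have hM := LinearMap.BilinForm.toMatrix'_comp (QuadraticMap.polarBilin Q) (Matrix.toLin' A)
    (Matrix.toLin' A)
  rw [hcomp, LinearMap.toMatrix'_toLin', map_smul, ← hMdef] at hM
  -- skew-adjointness
  have hskew : Aᵀ * M = -(M * A) := by
    have h1 : Aᵀ * M * A * A = c • (M * A) := by rw [← hM, Matrix.smul_mul]
    rw [Matrix.mul_assoc, hsq, Matrix.mul_smul, Matrix.mul_one] at h1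
    have h3 : c • (Aᵀ * M + M * A) = 0 := by
      rw [smul_add, ← h1, neg_smul, add_neg_cancel]
    rcases smul_eq_zero.mp h3 with h4 | h4
    · exact absurd h4 hc
    · exact eq_neg_of_add_eq_zero_left h4
  -- polynomial matrices
  obtain ⟨A', hA'⟩ : ∃ A' : Matrix ι ι F[X], A' = A.map C := ⟨_, rfl⟩
  obtain ⟨M', hM'⟩ : ∃ M' : Matrix ι ι F[X], M' = M.map C := ⟨_, rfl⟩
  have e1 : charmatrix A = (X : F[X]) • (1 : Matrix ι ι F[X]) - A' := by
    rw [hA', Matrix.smul_one_eq_diagonal]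
    rfl
  have hmapmul : ∀ B D : Matrix ι ι F, (B * D).map C = B.map C * D.map C := fun B D =>
    Matrix.map_mul (f := (C : F →+* F[X]))
  have ha : ((X : F[X]) • (1 : Matrix ι ι F[X]) + A')ᵀ * M' =
      M' * ((X : F[X]) • (1 : Matrix ι ι F[X]) - A') := by
    have h1 : A'ᵀ * M' = -(M' * A') := by
      have e3 : (-(M * A)).map C = -((M * A).map (C : F → F[X])) := by
        ext i j
        simp only [Matrix.map_apply, Matrix.neg_apply, map_neg]
      rw [hA', hM', ← Matrix.transpose_map, ← hmapmul Aᵀ M, hskew, e3, hmapmul]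
    rw [Matrix.transpose_add, Matrix.transpose_smul, Matrix.transpose_one, Matrix.add_mul,
      Matrix.mul_sub, h1, smul_mul_assoc, Matrix.one_mul, mul_smul_comm, Matrix.mul_one]
    abel
  have hb : ((X : F[X]) • (1 : Matrix ι ι F[X]) - A') * ((X : F[X]) • (1 : Matrix ι ι F[X]) + A') =
      ((X : F[X]) ^ 2 + C c) • (1 : Matrix ι ι F[X]) := by
    have h1 : A' * A' = (-(C c : F[X])) • (1 : Matrix ι ι F[X]) := by
      rw [hA', ← hmapmul, hsq]
      ext i j
      by_cases hij : i = j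
      · subst hij
        simp
      · simp [hij]
    rw [Matrix.sub_mul, Matrix.mul_add, Matrix.mul_add, h1, smul_mul_assoc, Matrix.one_mul,
      smul_mul_assoc, Matrix.one_mul, mul_smul_comm, Matrix.mul_one, smul_smul, add_smul,
      neg_smul, ← pow_two]
    abel
  obtain ⟨P, hP⟩ : ∃ P : F[X], P = ((X : F[X]) • (1 : Matrix ι ι F[X]) - A').det := ⟨_, rfl⟩
  have hPchar : P = A.charpoly := by
    rw [hP, Matrix.charpoly, e1]
  have hdetM' : M'.det ≠ 0 := by
    rw [hM', ← RingHom.mapMatrix_apply, ← RingHom.map_det]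
    intro h
    exact hMdet (C_eq_zero.mp h)
  have hd1 : ((X : F[X]) • (1 : Matrix ι ι F[X]) + A').det = P := by
    have h1 := congrArg Matrix.det ha
    rw [Matrix.det_mul, Matrix.det_mul, Matrix.det_transpose, ← hP] at h1
    have h3 : (((X : F[X]) • (1 : Matrix ι ι F[X]) + A').det - P) * M'.det = 0 := by
      linear_combination h1
    rcases mul_eq_zero.mp h3 with h4 | h4
    · exact sub_eq_zero.mp h4
    · exact absurd h4 hdetM'
  have hd2 : P ^ 2 = (((X : F[X]) ^ 2 + C c) ^ k) ^ 2 := by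
    have h1 := congrArg Matrix.det hb
    rw [Matrix.det_mul, hd1, ← hP, Matrix.det_smul, Matrix.det_one, mul_one, hk] at h1
    rw [pow_two, h1, ← pow_mul, mul_comm k 2]
  have hmon : (((X : F[X]) ^ 2 + C c) ^ k).Monic :=
    (monic_X_pow_add_C c (by norm_num)).pow k
  have hPeq : P = ((X : F[X]) ^ 2 + C c) ^ k := by
    rcases eq_or_eq_neg_of_sq_eq_sq _ _ hd2 with h | h
    · exact h
    · exfalso
      have hl1 : P.leadingCoeff = 1 := by
        rw [hPchar]
        exact (Matrix.charpoly_monic A).leadingCoeff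
      rw [h, leadingCoeff_neg, hmon.leadingCoeff] at hl1
      apply h2
      linear_combination -hl1
  rw [Matrix.det_eq_sign_charpoly_coeff, ← hPchar, hPeq, hk, coeff_zero_eq_eval_zero]
  simp only [eval_pow, eval_add, eval_X, eval_C]
  rw [pow_mul]
  have hk0 : k ≠ 0 ∨ k = 0 := (em (k = 0)).symm
  simp

end core

section fin

variable {ι : Type} [Fintype ι] [DecidableEq ι] {F : Type*} [Field F] [Fintype F]
variable {Q : QuadraticForm F (ι → F)}

/-- A binary diagonal form represents a non-square multiple of a given value. -/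
theorem finish_pair (hodd : Odd (Fintype.card F)) {p q t : ι → F} (hp : Q p ≠ 0) (hq : Q q ≠ 0)
    (ht : Q t ≠ 0) (hpq : QuadraticMap.polar ⇑Q p q = 0) :
    ∃ s₁ s₂ : F, ¬ IsSquare (Q t * Q (s₁ • p + s₂ • q)) := by
  have h2 : (2 : F) ≠ 0 := two_ne_zero_of_card_odd hodd
  obtain ⟨ε, hε⟩ := exists_not_isSquare h2
  have hf : (C (Q p) * X ^ 2 : F[X]).degree = 2 := by
    rw [degree_C_mul_X_pow 2 hp]
    rfl
  have hg : (C (Q q) * X ^ 2 - C (ε * Q t) : F[X]).degree = 2 := by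
    rw [degree_sub_C (by rw [degree_C_mul_X_pow 2 hq]; norm_num), degree_C_mul_X_pow 2 hq]
    rfl
  obtain ⟨s₁, s₂, hs⟩ := FiniteField.exists_root_sum_quadratic hf hg (Nat.odd_iff.mp hodd)
  refine ⟨s₁, s₂, ?_⟩
  have hQw : Q (s₁ • p + s₂ • q) = ε * Q t := by
    rw [QuadraticMap.map_add Q, QuadraticMap.map_smul, QuadraticMap.map_smul,
      QuadraticMap.polar_smul_left, QuadraticMap.polar_smul_right, hpq]
    simp only [eval_add, eval_sub, eval_mul, eval_C, eval_pow, eval_X] at hs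
    simp only [smul_eq_mul]
    linear_combination hs
  rw [hQw]
  rintro ⟨r, hr⟩
  apply hε
  refine ⟨r / Q t, ?_⟩
  field_simp
  linear_combination hr

/-- Nonsingular eigenvectors of an isometry involution orthogonal to two given eigenvectors. -/
theorem exists_eigen (hQ : (QuadraticMap.polarBilin Q).Nondegenerate) (k : ℕ)
    (hk : Fintype.card ι = 2 * k) (hk3 : 3 ≤ k) (h2 : (2 : F) ≠ 0) {A : Matrix ι ι F}
    (hA : ∀ x, Q (A *ᵥ x) = Q x) (hsq : A * A = 1) (u₁ u₂ : ι → F) (ε₁ ε₂ : F)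
    (hu₁ : A *ᵥ u₁ = ε₁ • u₁) (hu₂ : A *ᵥ u₂ = ε₂ • u₂) :
    ∃ (e : ι → F) (ε : F), (ε = 1 ∨ ε = -1) ∧ A *ᵥ e = ε • e ∧ Q e ≠ 0 ∧
      QuadraticMap.polar ⇑Q u₁ e = 0 ∧ QuadraticMap.polar ⇑Q u₂ e = 0 := by
  obtain ⟨v, hv, h1, h2'⟩ := exists_nonsing_perp Q hQ k hk hk3 u₁ u₂
  have hAA : ∀ x, A *ᵥ (A *ᵥ x) = x := fun x => by
    rw [Matrix.mulVec_mulVec, hsq, Matrix.one_mulVec]
  have hpol : ∀ x y, QuadraticMap.polar ⇑Q (A *ᵥ x) (A *ᵥ y) = QuadraticMap.polar ⇑Q x y :=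
    polar_mulVec Q A hA
  have h1' : QuadraticMap.polar ⇑Q u₁ (A *ᵥ v) = 0 := by
    have h := hpol u₁ (A *ᵥ v)
    rw [hAA, hu₁, QuadraticMap.polar_smul_left, h1, smul_zero] at h
    exact h.symm
  have h2'' : QuadraticMap.polar ⇑Q u₂ (A *ᵥ v) = 0 := by
    have h := hpol u₂ (A *ᵥ v)
    rw [hAA, hu₂, QuadraticMap.polar_smul_left, h2', smul_zero] at h
    exact h.symm
  have hsum : Q (v + A *ᵥ v) + Q (v - A *ᵥ v) = 4 * Q v := by
    have e1 : v - A *ᵥ v = v + (-1 : F) • (A *ᵥ v) := by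
      rw [neg_one_smul, sub_eq_add_neg]
    rw [e1, QuadraticMap.map_add Q, QuadraticMap.map_add Q, QuadraticMap.map_smul,
      QuadraticMap.polar_smul_right, hA]
    simp only [smul_eq_mul]
    ring
  by_cases hp : Q (v + A *ᵥ v) = 0
  · refine ⟨v - A *ᵥ v, -1, Or.inr rfl, ?_, ?_, ?_, ?_⟩
    · rw [Matrix.mulVec_sub, hAA, neg_one_smul, neg_sub]
    · intro h
      rw [hp, h, zero_add] at hsum
      have h4 : (4 : F) ≠ 0 := by
        have e4 : (4 : F) = 2 * 2 := by norm_num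
        rw [e4]
        exact mul_ne_zero h2 h2
      rcases mul_eq_zero.mp hsum.symm with h5 | h5
      · exact h4 h5
      · exact hv h5
    · rw [QuadraticMap.polar_sub_right, h1, h1', sub_zero]
    · rw [QuadraticMap.polar_sub_right, h2', h2'', sub_zero]
  · refine ⟨v + A *ᵥ v, 1, Or.inl rfl, ?_, hp, ?_, ?_⟩
    · rw [Matrix.mulVec_add, hAA, one_smul, add_comm]
    · rw [QuadraticMap.polar_add_right, h1, h1', add_zero]
    · rw [QuadraticMap.polar_add_right, h2', h2'', add_zero]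

/-- For an isometry involution there are two nonsingular eigenvectors whose norms have a
non-square product. -/
theorem exists_pair_square (hQ : (QuadraticMap.polarBilin Q).Nondegenerate)
    (hodd : Odd (Fintype.card F)) (k : ℕ) (hk : Fintype.card ι = 2 * k) (hk3 : 3 ≤ k)
    {A : Matrix ι ι F} (hA : ∀ x, Q (A *ᵥ x) = Q x) (hsq : A * A = 1) :
    ∃ x y : ι → F, Q x ≠ 0 ∧ Q y ≠ 0 ∧ ¬ IsSquare (Q x * Q y) ∧
      (∃ μ : F, μ ≠ 0 ∧ A *ᵥ x = μ • x) ∧ (∃ μ : F, μ ≠ 0 ∧ A *ᵥ y = μ • y) := by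
  have h2 := two_ne_zero_of_card_odd hodd
  obtain ⟨z, εz, hεz, hz1, hz2, -, -⟩ := exists_eigen hQ k hk hk3 h2 hA hsq 0 0 1 1
    (by simp) (by simp)
  obtain ⟨x, εx, hεx, hx1, hx2, hzx, -⟩ := exists_eigen hQ k hk hk3 h2 hA hsq z z εz εz hz1 hz1
  obtain ⟨y, εy, hεy, hy1, hy2, hzy, hxy⟩ :=
    exists_eigen hQ k hk hk3 h2 hA hsq z x εz εx hz1 hx1
  have key : ∀ (p q t : ι → F) (ε εt : F), (ε = 1 ∨ ε = -1) → (εt = 1 ∨ εt = -1) →
      A *ᵥ p = ε • p → A *ᵥ q = ε • q → A *ᵥ t = εt • t → Q p ≠ 0 → Q q ≠ 0 → Q t ≠ 0 →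
      QuadraticMap.polar ⇑Q p q = 0 →
      ∃ x y : ι → F, Q x ≠ 0 ∧ Q y ≠ 0 ∧ ¬ IsSquare (Q x * Q y) ∧
        (∃ μ : F, μ ≠ 0 ∧ A *ᵥ x = μ • x) ∧ (∃ μ : F, μ ≠ 0 ∧ A *ᵥ y = μ • y) := by
    intro p q t ε εt hε hεt hp hq ht hQp hQq hQt hpq
    obtain ⟨s₁, s₂, hs⟩ := finish_pair hodd hQp hQq hQt hpq
    have hε0 : ε ≠ 0 := by
      rcases hε with rfl | rfl <;> simp
    have hεt0 : εt ≠ 0 := by
      rcases hεt with rfl | rfl <;> simp
    refine ⟨t, s₁ • p + s₂ • q, hQt, ?_, hs, ⟨εt, hεt0, ht⟩, ⟨ε, hε0, ?_⟩⟩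
    · intro h
      apply hs
      rw [h, mul_zero]
      exact ⟨0, by simp⟩
    · rw [Matrix.mulVec_add, Matrix.mulVec_smul, Matrix.mulVec_smul, hp, hq, smul_add,
        smul_comm ε s₁, smul_comm ε s₂]
  by_cases h1 : εx = εy
  · exact key x y z εx εz hεx hεz hx1 (by rw [h1]; exact hy1) hz1 hx2 hy2 hz2 hxy
  · by_cases h3 : εz = εx
    · exact key z x y εz εy hεz hεy hz1 (by rw [h3]; exact hx1) hy1 hz2 hx2 hy2 hzx
    · have h4 : εz = εy := by
        rcases hεz with rfl | rfl <;> rcases hεx with rfl | rfl <;> rcases hεy with rfl | rfl <;>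
          simp_all
      exact key z y x εz εx hεz hεx hz1 (by rw [h4]; exact hy1) hx1 hz2 hy2 hx2 hzy

/-! ### Non-square multiplier: the quadratic-extension structure -/

theorem A_line {A : Matrix ι ι F} {c : F} (hsq : A * A = c • (1 : Matrix ι ι F)) (r s : F)
    (x : ι → F) : A *ᵥ (r • x + s • A *ᵥ x) = (c * s) • x + r • A *ᵥ x := by
  rw [Matrix.mulVec_add, Matrix.mulVec_smul, Matrix.mulVec_smul, sq_mulVec hsq, smul_smul,
    add_comm, mul_comm]

theorem line_Q {A : Matrix ι ι F} {c : F} (hA : ∀ x, Q (A *ᵥ x) = c * Q x) (r s : F)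
    (x : ι → F) : Q (r • x + s • A *ᵥ x) =
      (r * r + c * s * s) * Q x + r * s * QuadraticMap.polar ⇑Q x (A *ᵥ x) := by
  rw [QuadraticMap.map_add Q, QuadraticMap.map_smul, QuadraticMap.map_smul,
    QuadraticMap.polar_smul_left, QuadraticMap.polar_smul_right, hA]
  simp only [smul_eq_mul]
  ring

theorem line_polar {A : Matrix ι ι F} {c : F} (hA : ∀ x, Q (A *ᵥ x) = c * Q x)
    (hsq : A * A = c • (1 : Matrix ι ι F)) (r s : F) (x : ι → F) :
    QuadraticMap.polar ⇑Q (r • x + s • A *ᵥ x) (A *ᵥ (r • x + s • A *ᵥ x)) =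
      (r * r + c * s * s) * QuadraticMap.polar ⇑Q x (A *ᵥ x) + 4 * c * r * s * Q x := by
  rw [A_line hsq]
  simp only [QuadraticMap.polar_add_left, QuadraticMap.polar_add_right,
    QuadraticMap.polar_smul_left, QuadraticMap.polar_smul_right, smul_eq_mul]
  rw [QuadraticMap.polar_self, QuadraticMap.polar_self, hA,
    QuadraticMap.polar_comm ⇑Q (A *ᵥ x) x]
  simp only [nsmul_eq_mul, Nat.cast_ofNat]
  ring

theorem line_cross {A : Matrix ι ι F} {c : F} (hc : c ≠ 0) (hA : ∀ x, Q (A *ᵥ x) = c * Q x)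
    (hsq : A * A = c • (1 : Matrix ι ι F)) {x y : ι → F}
    (h1 : QuadraticMap.polar ⇑Q x y = 0) (h2 : QuadraticMap.polar ⇑Q (A *ᵥ x) y = 0)
    (r s r' s' : F) :
    QuadraticMap.polar ⇑Q (r • x + s • A *ᵥ x) (r' • y + s' • A *ᵥ y) = 0 := by
  have h3 : QuadraticMap.polar ⇑Q x (A *ᵥ y) = 0 := by
    rw [← self_adj hc hA hsq]
    exact h2
  have h4 : QuadraticMap.polar ⇑Q (A *ᵥ x) (A *ᵥ y) = 0 := by
    rw [polar_sim hA, h1, mul_zero]
  simp only [QuadraticMap.polar_add_left, QuadraticMap.polar_add_right,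
    QuadraticMap.polar_smul_left, QuadraticMap.polar_smul_right, h1, h2, h3, h4, smul_zero,
    add_zero]

/-- For a self-adjoint similarity with non-square multiplier `c` and square `c` there is a
nonsingular vector `a` orthogonal to its image. -/
theorem exists_perp_nonsquare (hQ : (QuadraticMap.polarBilin Q).Nondegenerate)
    (hodd : Odd (Fintype.card F)) (k : ℕ) (hk : Fintype.card ι = 2 * k) (hk3 : 3 ≤ k)
    {A : Matrix ι ι F} {c : F} (hc : ¬ IsSquare c) (hA : ∀ x, Q (A *ᵥ x) = c * Q x)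
    (hsq : A * A = c • (1 : Matrix ι ι F)) :
    ∃ a : ι → F, Q a ≠ 0 ∧ QuadraticMap.polar ⇑Q a (A *ᵥ a) = 0 := by
  have h2 := two_ne_zero_of_card_odd hodd
  have hc0 : c ≠ 0 := fun h => hc ⟨0, by simp [h]⟩
  haveI : Fact (∀ r : F, r ^ 2 ≠ c + 0 * r) :=
    ⟨fun r h => hc ⟨r, by rw [← pow_two, h]; ring⟩⟩
  letI : Fintype (QuadraticAlgebra F c 0) :=
    Fintype.ofEquiv (F × F) (QuadraticAlgebra.equivProd c 0).symm
  have hcardK : Fintype.card (QuadraticAlgebra F c 0) % 2 = 1 := by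
    rw [Fintype.ofEquiv_card, Fintype.card_prod]
    exact Nat.odd_iff.mp (hodd.mul hodd)
  obtain ⟨x₁, hx₁⟩ := exists_quad_ne_zero Q hQ
    (by rw [Module.finrank_fintype_fun_eq_card, hk]; omega)
  obtain ⟨x₂, hx₂, h12, h12'⟩ := exists_nonsing_perp Q hQ k hk hk3 x₁ (A *ᵥ x₁)
  obtain ⟨φ₁, hφ₁⟩ : ∃ φ₁ : F, φ₁ = QuadraticMap.polar ⇑Q x₁ (A *ᵥ x₁) := ⟨_, rfl⟩
  obtain ⟨φ₂, hφ₂⟩ : ∃ φ₂ : F, φ₂ = QuadraticMap.polar ⇑Q x₂ (A *ᵥ x₂) := ⟨_, rfl⟩
  obtain ⟨d, hd⟩ : ∃ d : F, 2 * c * d = 1 :=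
    ⟨(2 * c)⁻¹, mul_inv_cancel₀ (mul_ne_zero h2 hc0)⟩
  obtain ⟨η, hη⟩ : ∃ η : QuadraticAlgebra F c 0, η = ⟨Q x₁, φ₁ * d⟩ := ⟨_, rfl⟩
  obtain ⟨ζ, hζ⟩ : ∃ ζ : QuadraticAlgebra F c 0, ζ = ⟨Q x₂, φ₂ * d⟩ := ⟨_, rfl⟩
  have hη0 : η ≠ 0 := by
    intro h
    apply hx₁
    have h' := congrArg QuadraticAlgebra.re h
    rw [hη] at h'
    exact h'
  have hζ0 : ζ ≠ 0 := by
    intro h
    apply hx₂
    have h' := congrArg QuadraticAlgebra.re h
    rw [hζ] at h'
    exact h'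
  have hf : (C η * X ^ 2 : (QuadraticAlgebra F c 0)[X]).degree = 2 := by
    rw [degree_C_mul_X_pow 2 hη0]
    rfl
  have hg : (C ζ * X ^ 2 - C 1 : (QuadraticAlgebra F c 0)[X]).degree = 2 := by
    rw [degree_sub_C (by rw [degree_C_mul_X_pow 2 hζ0]; norm_num), degree_C_mul_X_pow 2 hζ0]
    rfl
  obtain ⟨κ, lam, hs⟩ := FiniteField.exists_root_sum_quadratic hf hg hcardK
  simp only [eval_add, eval_sub, eval_mul, eval_C, eval_pow, eval_X] at hs
  have hre := congrArg QuadraticAlgebra.re hs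
  have him := congrArg QuadraticAlgebra.im hs
  rw [hη, hζ] at hre him
  simp only [pow_two, QuadraticAlgebra.re_add, QuadraticAlgebra.re_sub, QuadraticAlgebra.re_mul,
    QuadraticAlgebra.im_mul, QuadraticAlgebra.im_add, QuadraticAlgebra.im_sub,
    QuadraticAlgebra.re_one, QuadraticAlgebra.im_one, QuadraticAlgebra.re_zero,
    QuadraticAlgebra.im_zero] at hre him
  obtain ⟨u, hu⟩ : ∃ u : ι → F, u = κ.re • x₁ + κ.im • A *ᵥ x₁ := ⟨_, rfl⟩
  obtain ⟨w, hw⟩ : ∃ w : ι → F, w = lam.re • x₂ + lam.im • A *ᵥ x₂ := ⟨_, rfl⟩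
  have hQu : Q u = (κ.re * κ.re + c * κ.im * κ.im) * Q x₁ + κ.re * κ.im * φ₁ := by
    rw [hu, hφ₁]
    exact line_Q hA _ _ _
  have hQw : Q w = (lam.re * lam.re + c * lam.im * lam.im) * Q x₂ + lam.re * lam.im * φ₂ := by
    rw [hw, hφ₂]
    exact line_Q hA _ _ _
  have hPu : QuadraticMap.polar ⇑Q u (A *ᵥ u) =
      (κ.re * κ.re + c * κ.im * κ.im) * φ₁ + 4 * c * κ.re * κ.im * Q x₁ := by
    rw [hu, hφ₁]
    exact line_polar hA hsq _ _ _
  have hPw : QuadraticMap.polar ⇑Q w (A *ᵥ w) =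
      (lam.re * lam.re + c * lam.im * lam.im) * φ₂ + 4 * c * lam.re * lam.im * Q x₂ := by
    rw [hw, hφ₂]
    exact line_polar hA hsq _ _ _
  have huw : QuadraticMap.polar ⇑Q u w = 0 := by
    rw [hu, hw]
    exact line_cross hc0 hA hsq h12 h12' _ _ _ _
  have huAw : QuadraticMap.polar ⇑Q u (A *ᵥ w) = 0 := by
    rw [hu, hw, A_line hsq]
    exact line_cross hc0 hA hsq h12 h12' _ _ _ _
  have hwAu : QuadraticMap.polar ⇑Q w (A *ᵥ u) = 0 := by
    rw [QuadraticMap.polar_comm, hu, hw, A_line hsq]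
    exact line_cross hc0 hA hsq h12 h12' _ _ _ _
  refine ⟨u + w, ?_, ?_⟩
  · have h1 : Q (u + w) = 1 := by
      rw [QuadraticMap.map_add Q, hQu, hQw, huw]
      linear_combination hre - (κ.re * κ.im * φ₁ + lam.re * lam.im * φ₂) * hd
    rw [h1]
    exact one_ne_zero
  · rw [Matrix.mulVec_add, QuadraticMap.polar_add_left, QuadraticMap.polar_add_right,
      QuadraticMap.polar_add_right, hPu, hPw, huAw, hwAu]
    linear_combination (2 * c) * him -
      ((κ.re * κ.re + c * κ.im * κ.im) * φ₁ + (lam.re * lam.re + c * lam.im * lam.im) * φ₂) * hd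

/-- **Centralizing rotation.** A similarity with scalar square and determinant `-c^k` commutes
with a product of two reflections whose norms have a non-square product. -/
theorem exists_centralizing_rotation (hQ : (QuadraticMap.polarBilin Q).Nondegenerate)
    (hodd : Odd (Fintype.card F)) (k : ℕ) (hk : Fintype.card ι = 2 * k) (hk3 : 3 ≤ k)
    (A : Matrix ι ι F) (c : F) (hc : c ≠ 0) (hA : ∀ x, Q (A *ᵥ x) = c * Q x) (lam : F)
    (hsq : A * A = lam • (1 : Matrix ι ι F)) (hdet : A.det = -c ^ k) :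
    ∃ x y : ι → F, Q x ≠ 0 ∧ Q y ≠ 0 ∧ ¬ IsSquare (Q x * Q y) ∧
      Cfsg.reflectionMatrix ⇑Q x * Cfsg.reflectionMatrix ⇑Q y * A =
        A * (Cfsg.reflectionMatrix ⇑Q x * Cfsg.reflectionMatrix ⇑Q y) := by
  have h2 := two_ne_zero_of_card_odd hodd
  obtain ⟨v, hv⟩ := exists_quad_ne_zero Q hQ
    (by rw [Module.finrank_fintype_fun_eq_card, hk]; omega)
  have hlam : lam = c ∨ lam = -c := by
    have h1 : Q (A *ᵥ (A *ᵥ v)) = c * (c * Q v) := by rw [hA, hA]
    rw [sq_mulVec hsq, QuadraticMap.map_smul, smul_eq_mul] at h1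
    have h3 : (lam - c) * (lam + c) * Q v = 0 := by linear_combination h1
    rcases mul_eq_zero.mp h3 with h4 | h4
    · rcases mul_eq_zero.mp h4 with h5 | h5
      · left
        exact sub_eq_zero.mp h5
      · right
        exact eq_neg_of_add_eq_zero_left h5
    · exact absurd h4 hv
  rcases hlam with rfl | rfl
  · by_cases hsqc : IsSquare lam
    · obtain ⟨μ, hμ⟩ := hsqc
      have hμ0 : μ ≠ 0 := by
        rintro rfl
        rw [mul_zero] at hμ
        exact hc hμ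
      have hA' : ∀ x, Q ((μ⁻¹ • A) *ᵥ x) = Q x := by
        intro x
        rw [Matrix.smul_mulVec, QuadraticMap.map_smul, hA, hμ, smul_eq_mul]
        field_simp
      have hsq' : (μ⁻¹ • A) * (μ⁻¹ • A) = 1 := by
        rw [Matrix.smul_mul, Matrix.mul_smul, hsq, smul_smul, smul_smul, hμ]
        have e : μ⁻¹ * μ⁻¹ * (μ * μ) = 1 := by field_simp
        rw [e, one_smul]
      obtain ⟨x, y, hx, hy, hns, ⟨μx, hμx, hxe⟩, ⟨μy, hμy, hye⟩⟩ :=
        exists_pair_square hQ hodd k hk hk3 hA' hsq'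
      have hxe' : A *ᵥ x = (μ * μx) • x := by
        rw [Matrix.smul_mulVec] at hxe
        rw [← smul_smul, ← hxe, smul_smul, mul_inv_cancel₀ hμ0, one_smul]
      have hye' : A *ᵥ y = (μ * μy) • y := by
        rw [Matrix.smul_mulVec] at hye
        rw [← smul_smul, ← hye, smul_smul, mul_inv_cancel₀ hμ0, one_smul]
      refine ⟨x, y, hx, hy, hns, ?_⟩
      rw [Matrix.mul_assoc, ← refl_comm_of_eigen hc hA (mul_ne_zero hμ0 hμy) hye',
        ← Matrix.mul_assoc, ← refl_comm_of_eigen hc hA (mul_ne_zero hμ0 hμx) hxe',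
        Matrix.mul_assoc]
    · obtain ⟨a, ha, hperp⟩ := exists_perp_nonsquare hQ hodd k hk hk3 hsqc hA hsq
      refine ⟨a, A *ᵥ a, ha, ?_, ?_, comm_refl_swap hc hA hsq ha hperp⟩
      · rw [hA]
        exact mul_ne_zero hc ha
      · rw [hA]
        rintro ⟨r, hr⟩
        apply hsqc
        refine ⟨r / Q a, ?_⟩
        field_simp
        linear_combination hr
  · exfalso
    have hdet' := det_of_sq_neg hQ k hk h2 A c hc hA hsq
    have h3 : (2 : F) * c ^ k = 0 := by linear_combination hdet - hdet'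
    rcases mul_eq_zero.mp h3 with h4 | h4
    · exact h2 h4
    · exact pow_ne_zero k hc h4

end fin

end Cfsg.Agent.Lib.Helper8.GraphInvCore
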