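import Mathlib
import Cfsg.Agent.Lib.Helper8.GraphInvCore
import Cfsg.Agent.Lib.Helper44.InnDiag
import Cfsg.Agent.Lib.Helper44.PgoInst
import Cfsg.Agent.Lib.Helper44.PlusInnDiag
import Cfsg.Agent.Lib.Helper44.PlusDiag
import Cfsg.Agent.Lib.Helper43.FieldAut.Count

/-!
# Splitting of the class of an involutory similarity graph automorphism of `PΩ⁺`

An abstract index computation (the quotient of the image of the similarity group by the inner
automorphisms is dihedral of order eight, the inner-diagonal part has index two in it), and its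
instance for the plus-type orthogonal groups.
-/

set_option autoImplicit false

namespace Cfsg.Agent.Lib.Helper8.GraphInvSplit

open Matrix Module Cfsg.Agent.Lib.Helper14 Cfsg.Agent.Lib.Helper44
open Cfsg.Agent.Lib.Helper8.GraphInvCore

section abstract

theorem dihedral_four_not_comm : ¬ ∀ x y : DihedralGroup 4, x * y = y * x := by
  intro h
  exact absurd (h (DihedralGroup.r 1) (DihedralGroup.sr 0)) (by decide)

/-- The index of `I` in `G` read off a surjection with kernel `I`. -/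
theorem relIndex_of_hom {X : Type*} [Group X] (I G : Subgroup X) {A : Type*} [Group A]
    (φ : ↥G →* A) (hs : Function.Surjective φ) (hk : φ.ker = I.subgroupOf G) :
    I.relIndex G = Nat.card A := by
  show (I.subgroupOf G).index = _
  rw [← hk, Subgroup.index_ker, MonoidHom.range_eq_top.mpr hs, Subgroup.card_top]

/-- Commutators of `G` lie in `I` when `G / I` is abelian. -/
theorem comm_mem_of_hom {X : Type*} [Group X] (I G : Subgroup X) {A : Type*} [CommGroup A]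
    (φ : ↥G →* A) (hk : φ.ker = I.subgroupOf G) :
    ∀ a ∈ G, ∀ b ∈ G, a * b * a⁻¹ * b⁻¹ ∈ I := by
  intro a ha b hb
  have h1 : (⟨a, ha⟩ * ⟨b, hb⟩ * ⟨a, ha⟩⁻¹ * ⟨b, hb⟩⁻¹ : ↥G) ∈ φ.ker := by
    rw [MonoidHom.mem_ker, map_mul, map_mul, map_mul, map_inv, map_inv,
      mul_comm (φ ⟨a, ha⟩) (φ ⟨b, hb⟩), mul_inv_cancel_right, mul_inv_cancel]
  rw [hk] at h1
  exact Subgroup.mem_subgroupOf.mp h1

/-- If `G / I` has order two, the index of `I (G ∩ C(γ))` in `G` is one or two. -/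
theorem relIndex_one_or_two {X : Type*} [Group X] (I G : Subgroup X) (hIG : I ≤ G)
    (h2 : I.relIndex G = 2) (γ : X) :
    (I ⊔ (G ⊓ Subgroup.centralizer {γ})).relIndex G = 1 ∨
      (I ⊔ (G ⊓ Subgroup.centralizer {γ})).relIndex G = 2 := by
  have hmul := Subgroup.relIndex_mul_relIndex I (I ⊔ (G ⊓ Subgroup.centralizer {γ})) G
    le_sup_left (sup_le hIG inf_le_left)
  rw [h2] at hmul
  have hdvd : (I ⊔ (G ⊓ Subgroup.centralizer {γ})).relIndex G ∣ 2 := Dvd.intro_left _ hmul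
  exact (Nat.dvd_prime Nat.prime_two).mp hdvd

/-- The abstract splitting lemma: `I ≤ G ≤ Gh` with `Gh / I` dihedral of order eight, `G / I`
abelian of order four, `Gh = G ∪ γ G`, and some element of `G` outside `I` centralizing `γ`. Then
`I (G ∩ C(γ))` has index two in `G`. -/
theorem relIndex_two_of_dihedral {X : Type*} [Group X] (I G Gh : Subgroup X)
    (hIG : I ≤ G) (hGG : G ≤ Gh)
    (Φ : ↥Gh →* DihedralGroup 4) (hΦs : Function.Surjective Φ) (hΦk : Φ.ker = I.subgroupOf Gh)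
    (h4 : I.relIndex G = 4)
    (hab : ∀ a ∈ G, ∀ b ∈ G, a * b * a⁻¹ * b⁻¹ ∈ I)
    (γ : X) (hγ : γ ∈ Gh) (hcos : ∀ t ∈ Gh, t ∈ G ∨ γ⁻¹ * t ∈ G)
    (h : X) (hh : h ∈ G) (hhI : h ∉ I) (hc : h * γ = γ * h) :
    (I ⊔ (G ⊓ Subgroup.centralizer {γ})).relIndex G = 2 := by
  obtain ⟨D, hD⟩ : ∃ D : Subgroup X, D = I ⊔ (G ⊓ Subgroup.centralizer {γ}) := ⟨_, rfl⟩
  rw [← hD]
  have hID : I ≤ D := by rw [hD]; exact le_sup_left
  have hDG : D ≤ G := by rw [hD]; exact sup_le hIG inf_le_left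
  have hmul := Subgroup.relIndex_mul_relIndex I D G hID hDG
  rw [h4] at hmul
  have ha : I.relIndex D ≠ 1 := by
    intro h1
    rw [Subgroup.relIndex_eq_one] at h1
    apply hhI
    apply h1
    rw [hD]
    apply Subgroup.mem_sup_right
    refine Subgroup.mem_inf.mpr ⟨hh, ?_⟩
    rw [Subgroup.mem_centralizer_singleton_iff]
    exact hc
  have hb : D.relIndex G ≠ 1 := by
    intro h1
    rw [Subgroup.relIndex_eq_one] at h1
    apply dihedral_four_not_comm
    obtain ⟨c, hc'⟩ : ∃ c : DihedralGroup 4, c = Φ ⟨γ, hγ⟩ := ⟨_, rfl⟩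
    have hS : D ≤ ((Subgroup.centralizer {c}).comap Φ).map Gh.subtype := by
      rw [hD]
      apply sup_le
      · intro x hx
        refine ⟨⟨x, hGG (hIG hx)⟩, ?_, rfl⟩
        have hxk : (⟨x, hGG (hIG hx)⟩ : ↥Gh) ∈ Φ.ker := by
          rw [hΦk]
          exact Subgroup.mem_subgroupOf.mpr hx
        rw [SetLike.mem_coe, Subgroup.mem_comap, MonoidHom.mem_ker.mp hxk]
        exact Subgroup.one_mem _
      · intro x hx
        obtain ⟨hxG, hxc⟩ := Subgroup.mem_inf.mp hx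
        refine ⟨⟨x, hGG hxG⟩, ?_, rfl⟩
        rw [SetLike.mem_coe, Subgroup.mem_comap, Subgroup.mem_centralizer_singleton_iff, hc',
          ← map_mul, ← map_mul]
        congr 1
        apply Subtype.ext
        exact Subgroup.mem_centralizer_singleton_iff.mp hxc
    have comm1 : ∀ a : ↥Gh, (a : X) ∈ G → Commute (Φ a) c := by
      intro a ha
      obtain ⟨y, hy, hya⟩ := hS (h1 ha)
      have hya' : y = a := Subtype.ext hya
      rw [← hya']
      exact Subgroup.mem_centralizer_singleton_iff.mp hy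
    have comm2 : ∀ a b : ↥Gh, (a : X) ∈ G → (b : X) ∈ G → Commute (Φ a) (Φ b) := by
      intro a b ha hb
      have hk : a * b * a⁻¹ * b⁻¹ ∈ Φ.ker := by
        rw [hΦk]
        exact Subgroup.mem_subgroupOf.mpr (hab _ ha _ hb)
      have h3 := MonoidHom.mem_ker.mp hk
      rw [map_mul, map_mul, map_mul, map_inv, map_inv] at h3
      have h5 := mul_inv_eq_one.mp h3
      rw [mul_inv_eq_iff_eq_mul] at h5
      exact h5
    have dec : ∀ t : ↥Gh, ∃ a : ↥Gh, (a : X) ∈ G ∧ (Φ t = Φ a ∨ Φ t = c * Φ a) := by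
      intro t
      rcases hcos t t.2 with ht | ht
      · exact ⟨t, ht, Or.inl rfl⟩
      · refine ⟨⟨γ, hγ⟩⁻¹ * t, ht, Or.inr ?_⟩
        rw [hc', ← map_mul]
        congr 1
        group
    intro x y
    obtain ⟨t, rfl⟩ := hΦs x
    obtain ⟨u, rfl⟩ := hΦs y
    obtain ⟨a, ha, hta⟩ := dec t
    obtain ⟨b, hb, hub⟩ := dec u
    have hab' := comm2 a b ha hb
    have hac := comm1 a ha
    have hbc := comm1 b hb
    rcases hta with e1 | e1 <;> rcases hub with e2 | e2 <;> rw [e1, e2]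
    · exact hab'.eq
    · exact (Commute.mul_right hac hab').eq
    · exact (Commute.mul_left hbc.symm hab').eq
    · exact (Commute.mul_left (Commute.mul_right (Commute.refl c) hbc.symm)
        (Commute.mul_right hac hab')).eq
  have hdvd : I.relIndex D ∣ 4 := Dvd.intro _ hmul
  have hle : I.relIndex D ≤ 4 := Nat.le_of_dvd (by norm_num) hdvd
  generalize I.relIndex D = a at *
  generalize D.relIndex G = b at *
  interval_cases a <;> omega

end abstract

section glue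

variable {ι : Type} [Fintype ι] [DecidableEq ι] {F : Type*} [Field F]

/-- An automorphism induced by a similarity is its image under `simAut`. -/
theorem induced_eq_simAut (Qf : (ι → F) → F) (g : GL ι F)
    (hg : g ∈ Cfsg.Geo.quadSimilarityGroup (F := F) Qf)
    (γ : MulAut (Cfsg.POmega F Qf))
    (hind : Cfsg.IsInducedBySemilinearPOmega Qf g (RingEquiv.refl F) γ) :
    γ = simAut Qf ⟨g, hg⟩ := by
  apply MulEquiv.ext
  intro q
  obtain ⟨s, rfl⟩ := QuotientGroup.mk_surjective q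
  rw [simAut_mk]
  apply hind
  rw [simConj_coe, map_refl_eq]

variable [Fintype F]

/-- The inner automorphisms lie in the group generated by the automorphisms induced by the
similarities satisfying a predicate equivalent to `det = μ^k`. -/
theorem inn_le_closure (h2 : (2 : F) ≠ 0) (Q : QuadraticForm F (ι → F))
    (hQ : (QuadraticMap.polarBilin Q).Nondegenerate) (Qf : (ι → F) → F) (hQf : ⇑Q = Qf)
    (k : ℕ) (hk : Fintype.card ι = 2 * k) (hk1 : 1 ≤ k)
    (P : Matrix ι ι F → Prop)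
    (hP : ∀ (g : GL ι F) (c : F), c ≠ 0 → (∀ x, Qf ((g : Matrix ι ι F) *ᵥ x) = c * Qf x) →
      (P (g : Matrix ι ι F) ↔ (g : Matrix ι ι F).det = c ^ k))
    (D : Subgroup (MulAut (Cfsg.POmega F Qf)))
    (hD : D = Subgroup.closure {β : MulAut (Cfsg.POmega F Qf) | ∃ g : GL ι F,
        g ∈ Cfsg.Geo.quadSimilarityGroup (F := F) Qf ∧ P (g : Matrix ι ι F) ∧
        Cfsg.IsInducedBySemilinearPOmega Qf g (RingEquiv.refl F) β}) :
    Cfsg.Inn (Cfsg.POmega F Qf) ≤ D := by
  subst hQf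
  have hne : ∃ v, Q v ≠ 0 := exists_quad_ne_zero Q hQ
    (by rw [Module.finrank_fintype_fun_eq_card, hk]; omega)
  rw [hD, closure_pred_eq_diagAut h2 Q hQ hne k hk P hP]
  exact inn_le_diagAut h2 Q hQ hne k hk

set_option maxHeartbeats 1000000 in
/-- The splitting for a general even-dimensional form: an involutory automorphism induced by a
similarity with `det = -μ^k`. -/
theorem graph_split_generic (hodd : Odd (Fintype.card F)) (Q : QuadraticForm F (ι → F))
    (hQ : (QuadraticMap.polarBilin Q).Nondegenerate) (Qf : (ι → F) → F) (hQf : ⇑Q = Qf)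
    (E : Submodule F (ι → F)) (hE : 3 ≤ finrank F E) (hE0 : ∀ x ∈ E, Q x = 0)
    (k : ℕ) (hk : Fintype.card ι = 2 * k) (hk3 : 3 ≤ k)
    (P : Matrix ι ι F → Prop)
    (hP : ∀ (g : GL ι F) (c : F), c ≠ 0 → (∀ x, Qf ((g : Matrix ι ι F) *ᵥ x) = c * Qf x) →
      (P (g : Matrix ι ι F) ↔ (g : Matrix ι ι F).det = c ^ k))
    (D : Subgroup (MulAut (Cfsg.POmega F Qf)))
    (hD : D = Subgroup.closure {β : MulAut (Cfsg.POmega F Qf) | ∃ g : GL ι F,
        g ∈ Cfsg.Geo.quadSimilarityGroup (F := F) Qf ∧ P (g : Matrix ι ι F) ∧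
        Cfsg.IsInducedBySemilinearPOmega Qf g (RingEquiv.refl F) β})
    (hneg : ∃ g : ↥(Cfsg.isometryGroup F Qf), g ∈ Cfsg.Omega F Qf ∧
      ((g : GL ι F) : Matrix ι ι F) = -1)
    (Φ : ↥(Cfsg.pgoAut F Qf) →* DihedralGroup 4) (hΦs : Function.Surjective Φ)
    (hΦk : Φ.ker = (Cfsg.Inn (Cfsg.POmega F Qf)).subgroupOf (Cfsg.pgoAut F Qf))
    (h4 : (Cfsg.Inn (Cfsg.POmega F Qf)).relIndex D = 4)
    (hab : ∀ a ∈ D, ∀ b ∈ D, a * b * a⁻¹ * b⁻¹ ∈ Cfsg.Inn (Cfsg.POmega F Qf))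
    (γ : MulAut (Cfsg.POmega F Qf))
    (g : GL ι F) (hg : g ∈ Cfsg.Geo.quadSimilarityGroup (F := F) Qf)
    (hgP : ¬ P (g : Matrix ι ι F))
    (hind : Cfsg.IsInducedBySemilinearPOmega Qf g (RingEquiv.refl F) γ)
    (hγ2 : γ * γ = 1) :
    (Cfsg.Inn (Cfsg.POmega F Qf) ⊔ (D ⊓ Subgroup.centralizer {γ})).relIndex D = 2 := by
  subst hQf
  have h2 : (2 : F) ≠ 0 := two_ne_zero_of_card_odd hodd
  have hne : ∃ v, Q v ≠ 0 := exists_quad_ne_zero Q hQ
    (by rw [Module.finrank_fintype_fun_eq_card, hk]; omega)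
  have hDeq : D = diagAut h2 Q hQ hne k hk := by
    rw [hD]
    exact closure_pred_eq_diagAut h2 Q hQ hne k hk P hP
  obtain ⟨g', hg'⟩ : ∃ g' : ↥(Cfsg.Geo.quadSimilarityGroup (F := F) ⇑Q), g' = ⟨g, hg⟩ :=
    ⟨_, rfl⟩
  have hg'coe : (g' : GL ι F) = g := by rw [hg']
  have hγ : γ = simAut ⇑Q g' := by
    rw [hg']
    exact induced_eq_simAut _ g hg γ hind
  have hgspec : ∀ v, Q ((g : Matrix ι ι F) *ᵥ v) = (simMult ⇑Q g' : F) * Q v := by
    intro v
    have h3 := simMult_spec ⇑Q g' v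
    rw [hg'coe] at h3
    exact h3
  have hgk : g' ∉ detKer h2 Q hQ hne k hk := by
    rw [mem_detKer_iff, hg'coe]
    intro h
    exact hgP ((hP g (simMult ⇑Q g') (simMult ⇑Q g').ne_zero hgspec).mpr h)
  have hdet : (g : Matrix ι ι F).det = -(simMult ⇑Q g' : F) ^ k := by
    rcases sim_det_cases Q hQ k hk g' with h | h
    · exact absurd ((mem_detKer_iff h2 Q hQ hne k hk g').mpr h) hgk
    · rw [← hg'coe]
      exact h
  have hsq1 : simAut ⇑Q (g' * g') = 1 := by
    rw [map_mul, ← hγ]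
    exact hγ2
  obtain ⟨lam, -, hlam⟩ := scalar_of_simAut_eq_one Q hQ E hE hE0 (g' * g') hsq1
  have hsq : (g : Matrix ι ι F) * (g : Matrix ι ι F) = lam • (1 : Matrix ι ι F) := by
    rw [← hlam, Subgroup.coe_mul, Units.val_mul, hg'coe]
  obtain ⟨x, y, hx, hy, hxy, hcomm⟩ := exists_centralizing_rotation (Q := Q) hQ hodd k hk hk3
    (g : Matrix ι ι F) (simMult ⇑Q g' : F) (simMult ⇑Q g').ne_zero hgspec lam hsq hdet
  have hl : ∀ u ∈ [x, y], Q u ≠ 0 := by
    intro u hu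
    simp only [List.mem_cons, List.not_mem_nil, or_false] at hu
    rcases hu with rfl | rfl
    · exact hx
    · exact hy
  obtain ⟨s, hs⟩ : ∃ s : ↥(Cfsg.isometryGroup F ⇑Q), s = prodElt Q hQ [x, y] hl := ⟨_, rfl⟩
  have hsmat : ((s : GL ι F) : Matrix ι ι F) =
      Cfsg.reflectionMatrix ⇑Q x * Cfsg.reflectionMatrix ⇑Q y := by
    rw [hs]
    show ([x, y].map (Cfsg.reflectionMatrix ⇑Q)).prod = _
    simp
  obtain ⟨s', hs'⟩ : ∃ s' : ↥(Cfsg.Geo.quadSimilarityGroup (F := F) ⇑Q),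
      s' = ⟨(s : GL ι F), isometryGroup_le_sim _ s.2⟩ := ⟨_, rfl⟩
  have hs'coe : (s' : GL ι F) = (s : GL ι F) := by rw [hs']
  have hsaut : simAut ⇑Q s' = isomAut ⇑Q s := by
    rw [hs']
    exact simAut_incl _ s
  have hs'mult : (simMult ⇑Q s' : F) = 1 := by
    apply simMult_unique ⇑Q hne
    intro v
    rw [hs'coe, one_mul]
    exact isom_preserves s v
  have hs'mem : s' ∈ detKer h2 Q hQ hne k hk := by
    rw [mem_detKer_iff, hs'mult, one_pow, hs'coe, hsmat, det_mul, det_reflectionMatrix Q hx,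
      det_reflectionMatrix Q hy]
    ring
  rw [hDeq] at h4 hab ⊢
  refine relIndex_two_of_dihedral _ _ (Cfsg.pgoAut F ⇑Q) (inn_le_diagAut h2 Q hQ hne k hk) ?_
    Φ hΦs hΦk h4 hab γ ?_ ?_ (simAut ⇑Q s') ⟨s', hs'mem, rfl⟩ ?_ ?_
  · rw [pgoAut_eq_range]
    exact Subgroup.map_le_range _ _
  · rw [pgoAut_eq_range, hγ]
    exact ⟨g', rfl⟩
  · intro t ht
    rw [pgoAut_eq_range] at ht
    obtain ⟨t', rfl⟩ := ht
    by_cases htk : t' ∈ detKer h2 Q hQ hne k hk
    · exact Or.inl ⟨t', htk, rfl⟩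
    · right
      refine ⟨g'⁻¹ * t', ?_, by rw [map_mul, map_inv, hγ]⟩
      unfold detKer at hgk htk ⊢
      rw [MonoidHom.mem_ker] at hgk htk
      rw [SetLike.mem_coe, MonoidHom.mem_ker, map_mul, map_inv]
      rcases zmod_two_cases (detChar h2 Q hQ hne k hk g') with h | h
      · exact absurd h hgk
      · rcases zmod_two_cases (detChar h2 Q hQ hne k hk t') with h' | h'
        · exact absurd h' htk
        · rw [h, h']
          exact inv_mul_cancel _
  · rw [hsaut, isomAut_mem_inn_iff Q hQ E hE hE0 hneg s, hs]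
    intro hmem
    have h3 := ((prodElt_mem_commutator_iff h2 Q hQ [x, y] hl).mp hmem).2
    apply hxy
    simpa using h3
  · rw [hγ, ← map_mul, ← map_mul]
    congr 1
    apply Subtype.ext
    apply Units.ext
    rw [Subgroup.coe_mul, Subgroup.coe_mul, Units.val_mul, Units.val_mul, hs'coe, hg'coe, hsmat]
    exact hcomm

end glue

section plus

variable {F : Type*} [Field F] [Fintype F]

set_option maxHeartbeats 1000000 in
/-- The class of an involutory similarity graph automorphism of `PΩ⁺_{2m}(q)`, `q` odd, `m ≥ 4`,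
under `Inndiag` is one or two classes under the inner automorphisms, and two unless `m` is odd and
`q ≡ 3 (mod 4)`. -/
theorem plus_graph_split (hodd : Odd (Fintype.card F)) {m : ℕ} (hm : 4 ≤ m)
    (γ : MulAut (Cfsg.POmega F (Cfsg.quadFormPlus m F)))
    (hγ : Cfsg.IsSimilarityGraphAutPOmegaPlus m γ) (hγ2 : orderOf γ = 2) :
    (Cfsg.splitClassCount (Cfsg.inndiagPOmegaPlus m F)
        (Cfsg.Inn (Cfsg.POmega F (Cfsg.quadFormPlus m F))) γ = 1 ∨
      Cfsg.splitClassCount (Cfsg.inndiagPOmegaPlus m F)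
        (Cfsg.Inn (Cfsg.POmega F (Cfsg.quadFormPlus m F))) γ = 2) ∧
    (¬ (Odd m ∧ Fintype.card F % 4 = 3) →
      Cfsg.splitClassCount (Cfsg.inndiagPOmegaPlus m F)
        (Cfsg.Inn (Cfsg.POmega F (Cfsg.quadFormPlus m F))) γ = 2) := by
  have h2 : (2 : F) ≠ 0 := two_ne_zero_of_card_odd hodd
  have hm3 : 3 ≤ m := by omega
  obtain ⟨E, hE, hE0⟩ := plus_ts_three (F := F) m hm3
  have hP : ∀ (g : GL (Fin m ⊕ Fin m) F) (c : F), c ≠ 0 →
      (∀ x, Cfsg.quadFormPlus m F ((g : Matrix (Fin m ⊕ Fin m) (Fin m ⊕ Fin m) F) *ᵥ x) =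
        c * Cfsg.quadFormPlus m F x) →
      (Cfsg.PreservesSingularClasses (Cfsg.quadFormPlus m F)
          (g : Matrix (Fin m ⊕ Fin m) (Fin m ⊕ Fin m) F) ↔
        (g : Matrix (Fin m ⊕ Fin m) (Fin m ⊕ Fin m) F).det = c ^ m) := by
    intro g c hc hg
    exact plus_preserves_iff h2 _ c hc ((Matrix.isUnit_iff_isUnit_det _).mp (Units.isUnit g)) hg
  have hIG : Cfsg.Inn (Cfsg.POmega F (Cfsg.quadFormPlus m F)) ≤ Cfsg.inndiagPOmegaPlus m F :=
    inn_le_closure h2 (plusQF m F) (plusQF_nondegenerate m F) _ (plusQF_coe m F) m (plus_card m)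
      (by omega) (Cfsg.PreservesSingularClasses (Cfsg.quadFormPlus m F)) hP
      (Cfsg.inndiagPOmegaPlus m F) rfl
  rw [Cfsg.Agent.Lib.Helper43.FieldAut.splitClassCount_eq _ _ hIG]
  obtain ⟨g, hg, hgP, hind⟩ := hγ
  have hγ2' : γ * γ = 1 := by
    have h3 := pow_orderOf_eq_one γ
    rw [hγ2, pow_two] at h3
    exact h3
  obtain ⟨c1, c2, c3⟩ := plus_inndiag_inn hodd (F := F) m hm3
  by_cases hcase : Odd m ∧ Fintype.card F % 4 = 3
  · obtain ⟨φ, hφs, hφk⟩ := c1 hcase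
    have hrel : (Cfsg.Inn (Cfsg.POmega F (Cfsg.quadFormPlus m F))).relIndex
        (Cfsg.inndiagPOmegaPlus m F) = 2 := by
      rw [relIndex_of_hom _ _ φ hφs hφk, Nat.card_eq_fintype_card]
      rfl
    exact ⟨relIndex_one_or_two _ _ hIG hrel γ, fun h => absurd hcase h⟩
  · have hmain : (Cfsg.Inn (Cfsg.POmega F (Cfsg.quadFormPlus m F)) ⊔
        (Cfsg.inndiagPOmegaPlus m F ⊓ Subgroup.centralizer {γ})).relIndex
          (Cfsg.inndiagPOmegaPlus m F) = 2 := by
      obtain ⟨Φ, hΦs, hΦk⟩ := plus_pgo_inn_dihedral hodd m hm3 hcase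
      have hneg := (plus_neg_one_iff hodd (F := F) m).mpr hcase
      have hstruct : (Cfsg.Inn (Cfsg.POmega F (Cfsg.quadFormPlus m F))).relIndex
            (Cfsg.inndiagPOmegaPlus m F) = 4 ∧
          ∀ a ∈ Cfsg.inndiagPOmegaPlus m F, ∀ b ∈ Cfsg.inndiagPOmegaPlus m F,
            a * b * a⁻¹ * b⁻¹ ∈ Cfsg.Inn (Cfsg.POmega F (Cfsg.quadFormPlus m F)) := by
        rcases Nat.even_or_odd m with hev | hod
        · obtain ⟨φ, hφs, hφk⟩ := c3 hev
          refine ⟨?_, comm_mem_of_hom _ _ φ hφk⟩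
          rw [relIndex_of_hom _ _ φ hφs hφk, Nat.card_eq_fintype_card]
          rfl
        · have hq : Fintype.card F % 4 = 1 := by
            have h3 : Fintype.card F % 4 ≠ 3 := fun h => hcase ⟨hod, h⟩
            have h4 := Nat.odd_iff.mp hodd
            omega
          obtain ⟨φ, hφs, hφk⟩ := c2 ⟨hod, hq⟩
          refine ⟨?_, comm_mem_of_hom _ _ φ hφk⟩
          rw [relIndex_of_hom _ _ φ hφs hφk, Nat.card_eq_fintype_card]
          rfl
      exact graph_split_generic hodd (plusQF m F) (plusQF_nondegenerate m F) _ (plusQF_coe m F)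
        E hE hE0 m (plus_card m) hm3 (Cfsg.PreservesSingularClasses (Cfsg.quadFormPlus m F)) hP
        (Cfsg.inndiagPOmegaPlus m F) rfl hneg Φ hΦs hΦk hstruct.1 hstruct.2 γ g hg hgP hind hγ2'
    exact ⟨Or.inr hmain, fun _ => hmain⟩

end plus

end Cfsg.Agent.Lib.Helper8.GraphInvSplit
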