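import Mathlib
import Cfsg.Agent.Lib.Helper14.AutON
import Cfsg.Agent.Lib.Helper14.AutOP
import Cfsg.Agent.Lib.Helper44.Gram
import Cfsg.Agent.Lib.Helper44.MinusExt
import Cfsg.Agent.Lib.Helper44.PgoInst
import Cfsg.Agent.Lib.Helper8.GraphInvSplit

/-!
# Involutions in the image of the semisimilarity group of a minus-type form

An involutory automorphism of `PΩ⁻` induced by a semisimilarity is induced by a similarity: a
semisimilarity whose field automorphism has order two squares to a similarity with determinant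
`-μ^(m+1)`, which is not a scalar.
-/

set_option autoImplicit false

namespace Cfsg.Agent.Lib.Helper8.GraphInvSemi

open Matrix Module Cfsg.Agent.Lib.Helper14 Cfsg.Agent.Lib.Helper44

section field

variable {F : Type*} [Field F] [Fintype F]

/-- An automorphism of order two of a finite field is `x ↦ x^r` with `|F| = r²`. -/
theorem sigma_eq_pow (σ : RingAut F) (hσ : σ ≠ 1) (hσ2 : σ * σ = 1) :
    ∃ r : ℕ, Fintype.card F = r * r ∧ ∀ x : F, σ x = x ^ r := by
  obtain ⟨p, hp⟩ := CharP.exists F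
  haveI : Fact p.Prime := ⟨CharP.char_is_prime F p⟩
  letI : Algebra (ZMod p) F := ZMod.algebra F p
  let τ : F ≃ₐ[ZMod p] F := AlgEquiv.ofRingEquiv (f := σ) (fun r => by
    have : (σ : F →+* F).comp (algebraMap (ZMod p) F) = algebraMap (ZMod p) F :=
      Subsingleton.elim _ _
    exact DFunLike.congr_fun this r)
  obtain ⟨N, hlt, hn⟩ : ∃ N : ℕ, N < finrank (ZMod p) F ∧
      FiniteField.frobeniusAlgEquivOfAlgebraic (ZMod p) F ^ N = τ := by
    obtain ⟨n, hn⟩ := (FiniteField.bijective_frobeniusAlgEquivOfAlgebraic_pow (ZMod p) F).2 τ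
    exact ⟨n, n.2, hn⟩
  have hord : orderOf (FiniteField.frobeniusAlgEquivOfAlgebraic (ZMod p) F) =
      finrank (ZMod p) F := FiniteField.orderOf_frobeniusAlgEquivOfAlgebraic _ _
  have hσx : ∀ x, σ x = x ^ (p ^ N) := by
    intro x
    have h := congrArg (fun ρ : F ≃ₐ[ZMod p] F => ρ x) hn
    simp only [AlgEquiv.coe_pow, FiniteField.coe_frobeniusAlgEquivOfAlgebraic_iterate,
      ZMod.card] at h
    exact h.symm
  have hτ2 : τ * τ = 1 := by
    apply AlgEquiv.ext
    intro x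
    exact congrArg (fun ρ : RingAut F => ρ x) hσ2
  have hn0 : N ≠ 0 := by
    intro h0
    apply hσ
    apply RingEquiv.ext
    intro x
    rw [hσx x, h0, pow_zero, pow_one]
    rfl
  have h2n : FiniteField.frobeniusAlgEquivOfAlgebraic (ZMod p) F ^ (2 * N) = 1 := by
    rw [two_mul, pow_add, hn, hτ2]
  have hdvd : finrank (ZMod p) F ∣ 2 * N := by
    rw [← hord]
    exact orderOf_dvd_of_pow_eq_one h2n
  have heq : 2 * N = finrank (ZMod p) F := by
    obtain ⟨d, hd⟩ := hdvd
    have hd1 : d = 1 := by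
      rcases d with _ | _ | d
      · omega
      · rfl
      · exfalso
        nlinarith
    rw [hd, hd1, mul_one]
  refine ⟨p ^ N, ?_, hσx⟩
  rw [Module.card_eq_pow_finrank (K := ZMod p) (V := F), ZMod.card, ← heq, two_mul, pow_add]

/-- For an automorphism `σ` of order two of a finite field of odd order: if `δ σ(δ)` is the
square of an element fixed by `σ`, then `δ` is a square. -/
theorem sigma_norm_contra (hodd : Odd (Fintype.card F)) (σ : RingAut F) (hσ : σ ≠ 1)
    (hσ2 : σ * σ = 1) (δ w : F) (hδ : ¬ IsSquare δ) (hw : σ w = w) (hw2 : w * w = δ * σ δ) :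
    False := by
  obtain ⟨r, hr, hσx⟩ := sigma_eq_pow σ hσ hσ2
  have hδ0 : δ ≠ 0 := fun h => hδ ⟨0, by rw [h, mul_zero]⟩
  have hσδ0 : σ δ ≠ 0 := fun h => hδ0 ((map_eq_zero_iff σ σ.injective).mp h)
  have hw0 : w ≠ 0 := by
    rintro rfl
    rw [mul_zero] at hw2
    exact mul_ne_zero hδ0 hσδ0 hw2.symm
  have hrodd : Odd r := by
    by_contra h
    rw [Nat.not_odd_iff_even] at h
    rw [hr] at hodd
    exact (Nat.not_even_iff_odd.mpr hodd) (h.mul_right r)
  obtain ⟨s, hs⟩ := hrodd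
  have hw1 : w ^ (2 * s) = 1 := by
    have h1 := hσx w
    rw [hw, hs, pow_succ] at h1
    have h3 : w * (w ^ (2 * s) - 1) = 0 := by linear_combination -h1
    rcases mul_eq_zero.mp h3 with h | h
    · exact absurd h hw0
    · exact sub_eq_zero.mp h
  apply hδ
  have hchar : ringChar F ≠ 2 := by
    intro h
    rw [FiniteField.even_card_iff_char_two] at h
    rw [Nat.odd_iff] at hodd
    omega
  rw [FiniteField.isSquare_iff hchar hδ0]
  have hcard : Fintype.card F / 2 = (2 * s + 2) * s := by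
    rw [hr, hs]
    have h3 : (2 * s + 1) * (2 * s + 1) = 2 * ((2 * s + 2) * s) + 1 := by ring
    rw [h3]
    omega
  rw [hcard, pow_mul]
  have h3 : δ ^ (2 * s + 2) = w * w := by
    rw [hw2, hσx δ, hs]
    ring
  rw [h3, ← pow_two, ← pow_mul]
  exact hw1

end field

section gram

variable {F : Type*} [Field F]

/-- The Gram-matrix form of a semisimilarity of the minus-type form. -/
theorem semisim_gram (m : ℕ) (a b : F) (σ : RingAut F)
    (g : Matrix ((Fin m ⊕ Fin m) ⊕ Fin 2) ((Fin m ⊕ Fin m) ⊕ Fin 2) F) (c : F)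
    (hg : ∀ v, Cfsg.quadFormMinus m F a b (g *ᵥ (fun i => σ (v i))) =
      c * σ (Cfsg.quadFormMinus m F a b v)) :
    gᵀ * minusGram m F a b * g = c • minusGram m F (σ a) (σ b) := by
  have hg' : ∀ w, Cfsg.quadFormMinus m F a b (g *ᵥ w) =
      c * Cfsg.quadFormMinus m F (σ a) (σ b) w := by
    intro w
    have h1 := hg (fun i => σ.symm (w i))
    have h4 := quadFormMinus_map m a b σ (fun i => σ.symm (w i))
    simp only [RingEquiv.apply_symm_apply] at h1 h4
    rw [h1, h4]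
  have hcomp : ∀ u v, Matrix.toBilin' (gᵀ * minusGram m F a b * g) u v =
      QuadraticMap.polar (Cfsg.quadFormMinus m F a b) (g *ᵥ u) (g *ᵥ v) := by
    intro u v
    rw [← Matrix.toBilin'_comp, polar_quadFormMinus]
    rfl
  refine LinearEquiv.injective (Matrix.toBilin' (R₁ := F) (n := (Fin m ⊕ Fin m) ⊕ Fin 2)) ?_
  apply LinearMap.ext
  intro u
  apply LinearMap.ext
  intro v
  rw [hcomp]
  have h1 : QuadraticMap.polar (Cfsg.quadFormMinus m F a b) (g *ᵥ u) (g *ᵥ v) =
      c * QuadraticMap.polar (Cfsg.quadFormMinus m F (σ a) (σ b)) u v := by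
    unfold QuadraticMap.polar
    rw [← mulVec_add, hg', hg', hg']
    ring
  rw [h1, polar_quadFormMinus, map_smul]
  rfl

end gram

section red

variable {ι : Type} [Fintype ι] [DecidableEq ι] {F : Type*} [Field F] [Fintype F]

/-- A semisimilarity whose square acts trivially on `PΩ`: its field automorphism squares to
one and `g σ(g)` is a scalar. -/
theorem semi_invol_scalar (Q : QuadraticForm F (ι → F))
    (hQ : (QuadraticMap.polarBilin Q).Nondegenerate) (Qf : (ι → F) → F) (hQf : ⇑Q = Qf)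
    (E : Submodule F (ι → F)) (hE : 3 ≤ finrank F E) (hE0 : ∀ x ∈ E, Q x = 0)
    (x : ↥(semiSim Qf)) (hx2 : semiAut Qf (x * x) = 1) :
    (x : SemiGL ι F).right * (x : SemiGL ι F).right = 1 ∧
      ∃ lam : F, lam ≠ 0 ∧ ((x : SemiGL ι F).left : Matrix ι ι F) *
        ((x : SemiGL ι F).left : Matrix ι ι F).map (x : SemiGL ι F).right =
          lam • (1 : Matrix ι ι F) := by
  subst hQf
  have hn : 5 ≤ Fintype.card ι := by
    have h1 := two_mul_finrank_le_of_ts hQ hE0
    rw [Module.finrank_fintype_fun_eq_card] at h1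
    omega
  have h1 := semiAut_right_eq_one Q hQ hn (x * x) hx2
  have h1' : (x : SemiGL ι F).right * (x : SemiGL ι F).right = 1 := by
    rw [Subgroup.coe_mul, SemidirectProduct.mul_right] at h1
    exact h1
  refine ⟨h1', ?_⟩
  obtain ⟨h, hh⟩ := exists_sim_of_right_eq_one ⇑Q (x * x) h1
  have h3 : simAut ⇑Q h = 1 := by
    rw [← semiAut_simToSemi, hh, hx2]
  obtain ⟨lam, hlam0, hlam⟩ := scalar_of_simAut_eq_one Q hQ E hE hE0 h h3
  refine ⟨lam, hlam0, ?_⟩
  rw [← hlam, ← simToSemi_left ⇑Q h, hh, Subgroup.coe_mul, SemidirectProduct.mul_left,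
    Units.val_mul, glAut_apply, glMap_coe]

end red

section minus

variable {F : Type*} [Field F] [Fintype F]

set_option maxHeartbeats 1600000 in
/-- A semisimilarity of the minus-type form whose square acts trivially on `PΩ⁻` has trivial
field automorphism. -/
theorem minus_semi_right_eq_one (hodd : Odd (Fintype.card F)) (m : ℕ) (hm : 3 ≤ m) (a b : F)
    (hab : ∀ z₁ z₂ : F, z₁ ^ 2 + a * z₁ * z₂ + b * z₂ ^ 2 = 0 → z₁ = 0 ∧ z₂ = 0)
    (x : ↥(semiSim (Cfsg.quadFormMinus m F a b)))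
    (hx2 : semiAut (Cfsg.quadFormMinus m F a b) (x * x) = 1) :
    (x : SemiGL ((Fin m ⊕ Fin m) ⊕ Fin 2) F).right = 1 := by
  have h2 : (2 : F) ≠ 0 := two_ne_zero_of_card_odd hodd
  obtain ⟨E, hE, hE0⟩ := minus_ts_three (F := F) m hm a b
  obtain ⟨hσ2, lam, hlam0, hlam⟩ := semi_invol_scalar (minusQF m F a b)
    (minusQF_nondegenerate m F h2 a b hab) _ (minusQF_coe m F a b) E hE hE0 x hx2
  by_contra hσ
  obtain ⟨σ, hσdef⟩ : ∃ σ : RingAut F,
      σ = (x : SemiGL ((Fin m ⊕ Fin m) ⊕ Fin 2) F).right := ⟨_, rfl⟩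
  obtain ⟨g, hgdef⟩ : ∃ g : Matrix ((Fin m ⊕ Fin m) ⊕ Fin 2) ((Fin m ⊕ Fin m) ⊕ Fin 2) F,
      g = ((x : SemiGL ((Fin m ⊕ Fin m) ⊕ Fin 2) F).left :
        Matrix ((Fin m ⊕ Fin m) ⊕ Fin 2) ((Fin m ⊕ Fin m) ⊕ Fin 2) F) := ⟨_, rfl⟩
  rw [← hσdef] at hσ hσ2 hlam
  rw [← hgdef] at hlam
  obtain ⟨c, hc⟩ := x.2
  have hc' : ∀ v, Cfsg.quadFormMinus m F a b (g *ᵥ (fun i => σ (v i))) =
      (c : F) * σ (Cfsg.quadFormMinus m F a b v) := by
    intro v
    rw [hgdef, hσdef]
    exact hc v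
  have hc0 : (c : F) ≠ 0 := c.ne_zero
  have hσσ : ∀ y : F, σ (σ y) = y := fun y => congrArg (fun ρ : RingAut F => ρ y) hσ2
  have hgram := semisim_gram m a b σ g (c : F) hc'
  have hdet := congrArg Matrix.det hgram
  rw [Matrix.det_mul, Matrix.det_mul, Matrix.det_transpose, Matrix.det_smul,
    det_minusGram m F h2, det_minusGram m F h2, minus_card] at hdet
  have hdet2 := congrArg Matrix.det hlam
  rw [Matrix.det_mul, Matrix.det_smul, Matrix.det_one, mul_one, minus_card] at hdet2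
  have hmapdet : (g.map σ).det = σ g.det := by
    have h3 := RingHom.map_det (σ : F →+* F) g
    rw [RingHom.mapMatrix_apply] at h3
    exact h3.symm
  rw [hmapdet] at hdet2
  obtain ⟨v, hv⟩ : ∃ v, Cfsg.quadFormMinus m F a b v ≠ 0 := by
    obtain ⟨v, hv⟩ := exists_quad_ne_zero (minusQF m F a b)
      (minusQF_nondegenerate m F h2 a b hab)
      (by rw [Module.finrank_fintype_fun_eq_card, minus_card]; omega)
    refine ⟨v, ?_⟩
    rw [← minusQF_coe]
    exact hv
  have hmult : lam * lam = (c : F) * σ (c : F) := by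
    have h1 := hc' (fun i => (g *ᵥ (fun j => σ (v j))) i)
    rw [hc' v, map_mul, hσσ] at h1
    have h3 : (g *ᵥ fun i => σ ((g *ᵥ fun j => σ (v j)) i)) = lam • v := by
      have h4 : (fun i => σ ((g *ᵥ fun j => σ (v j)) i)) = g.map σ *ᵥ v := by
        funext i
        have h5 := RingHom.map_mulVec (σ : F →+* F) g (fun j => σ (v j)) i
        have h6 : ((σ : F →+* F) ∘ fun j => σ (v j)) = v := by
          funext j
          exact hσσ (v j)
        rw [h6] at h5
        exact h5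
      rw [h4, Matrix.mulVec_mulVec, hlam, Matrix.smul_mulVec, Matrix.one_mulVec]
    rw [h3, ← minusQF_coe, QuadraticMap.map_smul, minusQF_coe, smul_eq_mul] at h1
    have h7 : (lam * lam - (c : F) * σ (c : F)) * Cfsg.quadFormMinus m F a b v = 0 := by
      linear_combination h1
    rcases mul_eq_zero.mp h7 with h | h
    · exact sub_eq_zero.mp h
    · exact absurd h hv
  obtain ⟨δ, hδ⟩ : ∃ δ : F, δ = a ^ 2 - 4 * b := ⟨_, rfl⟩
  have hδns : ¬ IsSquare δ := by
    rw [hδ]
    exact not_isSquare_disc_of_anisotropic h2 a b hab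
  obtain ⟨D, hD⟩ : ∃ D : F, D = g.det := ⟨_, rfl⟩
  rw [← hD] at hdet hdet2
  have hD0 : D ≠ 0 := by
    intro h
    rw [h, zero_mul] at hdet2
    exact pow_ne_zero _ hlam0 hdet2.symm
  have H1 : D ^ 2 * δ = (c : F) ^ (2 * (m + 1)) * σ δ := by
    have hσδ : σ δ = (σ a) ^ 2 - 4 * σ b := by
      rw [hδ, map_sub, map_pow, map_mul, map_ofNat]
    have hm1 : ((-1 : F)) ^ m ≠ 0 := pow_ne_zero _ (by norm_num)
    apply mul_left_cancel₀ hm1
    rw [hσδ, hδ]
    linear_combination -hdet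
  have H2 : D * σ D = ((c : F) * σ (c : F)) ^ (m + 1) := by
    rw [hdet2, ← hmult, ← pow_two, ← pow_mul]
  obtain ⟨w, hw⟩ : ∃ w : F, w = D / (c : F) ^ (m + 1) * δ := ⟨_, rfl⟩
  have hcm : (c : F) ^ (m + 1) ≠ 0 := pow_ne_zero _ hc0
  have hσc0 : σ (c : F) ≠ 0 := fun h => hc0 ((map_eq_zero_iff σ σ.injective).mp h)
  have hσcm : (σ (c : F)) ^ (m + 1) ≠ 0 := pow_ne_zero _ hσc0
  have hw2 : w * w = δ * σ δ := by
    rw [hw]
    field_simp
    linear_combination δ * H1
  have hwfix : σ w = w := by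
    rw [hw, map_mul, map_div₀, map_pow]
    have h5 : D * (σ D * σ δ * (c : F) ^ (m + 1) - D * δ * (σ (c : F)) ^ (m + 1)) = 0 := by
      linear_combination (σ δ * (c : F) ^ (m + 1)) * H2 - (σ (c : F)) ^ (m + 1) * H1
    rcases mul_eq_zero.mp h5 with h | h
    · exact absurd h hD0
    · field_simp
      linear_combination h
  exact sigma_norm_contra hodd σ hσ hσ2 δ w hδns hwfix hw2

/-- An involutory automorphism of `PΩ⁻` in the image of the semisimilarity group is induced by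
a similarity. -/
theorem minus_invol_sim (hodd : Odd (Fintype.card F)) (m : ℕ) (hm : 3 ≤ m) (a b : F)
    (hab : ∀ z₁ z₂ : F, z₁ ^ 2 + a * z₁ * z₂ + b * z₂ ^ 2 = 0 → z₁ = 0 ∧ z₂ = 0)
    (γ : MulAut (Cfsg.POmega F (Cfsg.quadFormMinus m F a b)))
    (hγ : γ ∈ Cfsg.gammaPOmega F (Cfsg.quadFormMinus m F a b)) (hγ2 : γ * γ = 1) :
    ∃ g : ↥(Cfsg.Geo.quadSimilarityGroup (F := F) (Cfsg.quadFormMinus m F a b)),
      γ = simAut (Cfsg.quadFormMinus m F a b) g := by
  have hle : Cfsg.gammaPOmega F (Cfsg.quadFormMinus m F a b) ≤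
      (semiAut (Cfsg.quadFormMinus m F a b)).range := by
    unfold Cfsg.gammaPOmega Cfsg.autSubgroupOf
    rw [Subgroup.closure_le]
    rintro γ ⟨g, σ, h1, h2⟩
    exact ⟨⟨⟨g, σ⟩, h1⟩,
      ((induced_iff_semiAut (Cfsg.quadFormMinus m F a b) ⟨⟨g, σ⟩, h1⟩ γ).mp h2).symm⟩
  obtain ⟨x, rfl⟩ := hle hγ
  have hx2 : semiAut (Cfsg.quadFormMinus m F a b) (x * x) = 1 := by
    rw [map_mul]
    exact hγ2
  have hr := minus_semi_right_eq_one hodd m hm a b hab x hx2
  obtain ⟨g, hg⟩ := exists_sim_of_right_eq_one _ x hr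
  exact ⟨g, by rw [← hg, semiAut_simToSemi]⟩

end minus

end Cfsg.Agent.Lib.Helper8.GraphInvSemi
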