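import Mathlib

/-!
# Semisimple isometries: basic module-theoretic tools

Invariant subspaces of an endomorphism `A`, irreducible ones, annihilator ideals in `F[X]`,
cyclic subspaces, the intertwining map between two cyclic subspaces, representation of
functionals through a perfect pairing, gluing of linear maps, the numerical invariants
`chi A g M = dim (M ⊓ ker g(A))`.
-/

set_option autoImplicit false

namespace Cfsg.Agent.Lib.Helper8.WallBasic

open Polynomial Module

variable {F : Type*} [Field F] {V : Type*} [AddCommGroup V] [Module F V]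

theorem aeval_mul_apply (A : V →ₗ[F] V) (g h : F[X]) (x : V) :
    aeval A (g * h) x = aeval A g (aeval A h x) := by
  rw [map_mul]; rfl

theorem aeval_X_apply (A : V →ₗ[F] V) (x : V) : aeval A (X : F[X]) x = A x := by
  rw [aeval_X]

theorem aeval_comm_apply (A : V →ₗ[F] V) (g : F[X]) (x : V) :
    aeval A g (A x) = A (aeval A g x) := by
  have h1 : aeval A g (A x) = aeval A (g * X) x := by
    rw [aeval_mul_apply, aeval_X_apply]
  have h2 : A (aeval A g x) = aeval A (X * g) x := by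
    rw [aeval_mul_apply, aeval_X_apply]
  rw [h1, h2, mul_comm]

theorem aeval_pow_eq (A : V →ₗ[F] V) (k : ℕ) (g : F[X]) :
    aeval (A ^ k) g = aeval A (g.comp (X ^ k)) := by
  rw [aeval_comp, aeval_X_pow]

/-- `U` is `A`-invariant. -/
def Inv (A : V →ₗ[F] V) (U : Submodule F V) : Prop := ∀ x ∈ U, A x ∈ U

theorem inv_pow {A : V →ₗ[F] V} {U : Submodule F V} (hU : Inv A U) (n : ℕ) : Inv (A ^ n) U := by
  induction n with
  | zero => intro x hx; simpa using hx
  | succ n ih =>
    intro x hx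
    rw [pow_succ, Module.End.mul_apply]
    exact ih _ (hU x hx)

theorem inv_aeval {A : V →ₗ[F] V} {U : Submodule F V} (hU : Inv A U) (g : F[X]) :
    Inv (aeval A g) U := by
  intro x hx
  induction g using Polynomial.induction_on' with
  | add p q hp hq =>
    rw [map_add, LinearMap.add_apply]
    exact U.add_mem hp hq
  | monomial n a =>
    rw [aeval_monomial, Module.End.mul_apply, Module.algebraMap_end_apply]
    exact U.smul_mem _ (inv_pow hU n x hx)

theorem inv_inf {A : V →ₗ[F] V} {U W : Submodule F V} (hU : Inv A U) (hW : Inv A W) :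
    Inv A (U ⊓ W) := fun x hx => ⟨hU x hx.1, hW x hx.2⟩

theorem inv_sup {A : V →ₗ[F] V} {U W : Submodule F V} (hU : Inv A U) (hW : Inv A W) :
    Inv A (U ⊔ W) := by
  intro x hx
  obtain ⟨u, hu, w, hw, rfl⟩ := Submodule.mem_sup.mp hx
  rw [map_add]
  exact Submodule.add_mem_sup (hU u hu) (hW w hw)

theorem inv_ker (A : V →ₗ[F] V) (g : F[X]) : Inv A (LinearMap.ker (aeval A g)) := by
  intro x hx
  rw [LinearMap.mem_ker] at hx ⊢
  rw [aeval_comm_apply, hx, map_zero]

/-- The annihilator ideal of `U` in `F[X]` acting through `A`. -/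
def ann (A : V →ₗ[F] V) (U : Submodule F V) : Ideal F[X] where
  carrier := {g | ∀ u ∈ U, aeval A g u = 0}
  add_mem' := by
    intro a b ha hb u hu
    rw [map_add, LinearMap.add_apply, ha u hu, hb u hu, add_zero]
  zero_mem' := by
    intro u _
    rw [map_zero, LinearMap.zero_apply]
  smul_mem' := by
    intro c g hg u hu
    show aeval A (c • g) u = 0
    rw [smul_eq_mul, aeval_mul_apply, hg u hu, map_zero]

theorem mem_ann {A : V →ₗ[F] V} {U : Submodule F V} {g : F[X]} :
    g ∈ ann A U ↔ ∀ u ∈ U, aeval A g u = 0 := Iff.rfl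

theorem ann_pow_eq {A B : V →ₗ[F] V} {U U' : Submodule F V} (h : ann A U = ann B U') (k : ℕ) :
    ann (A ^ k) U = ann (B ^ k) U' := by
  ext g
  rw [mem_ann, mem_ann]
  have h1 : (∀ u ∈ U, aeval (A ^ k) g u = 0) ↔ g.comp (X ^ k) ∈ ann A U := by
    rw [mem_ann, aeval_pow_eq]
  have h2 : (∀ u ∈ U', aeval (B ^ k) g u = 0) ↔ g.comp (X ^ k) ∈ ann B U' := by
    rw [mem_ann, aeval_pow_eq]
  rw [h1, h2, h]

/-- `U` is a minimal non-zero `A`-invariant subspace. -/
def Irr (A : V →ₗ[F] V) (U : Submodule F V) : Prop :=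
  U ≠ ⊥ ∧ Inv A U ∧ ∀ U₀ : Submodule F V, U₀ ≤ U → Inv A U₀ → U₀ = ⊥ ∨ U₀ = U

theorem exists_irr [FiniteDimensional F V] (A : V →ₗ[F] V) :
    ∀ (n : ℕ) (C : Submodule F V), finrank F C = n → Inv A C → C ≠ ⊥ →
      ∃ U, U ≤ C ∧ Irr A U := by
  intro n
  induction n using Nat.strong_induction_on with
  | _ n ih =>
    intro C hn hC hC0
    by_cases h : ∀ U₀ : Submodule F V, U₀ ≤ C → Inv A U₀ → U₀ = ⊥ ∨ U₀ = C
    · exact ⟨C, le_rfl, hC0, hC, h⟩
    · push_neg at h
      obtain ⟨U₀, hle, hinv, h0, h1⟩ := h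
      have hlt : U₀ < C := lt_of_le_of_ne hle h1
      obtain ⟨U, hU, hirr⟩ :=
        ih _ (hn ▸ Submodule.finrank_lt_finrank_of_lt hlt) U₀ rfl hinv h0
      exact ⟨U, hU.trans hle, hirr⟩

theorem irr_ker {A : V →ₗ[F] V} {U : Submodule F V} (hU : Irr A U) (g : F[X]) :
    g ∈ ann A U ∨ ∀ u ∈ U, aeval A g u = 0 → u = 0 := by
  rcases hU.2.2 _ inf_le_left (inv_inf hU.2.1 (inv_ker A g)) with h | h
  · right
    intro u hu h0
    have hmem : u ∈ U ⊓ LinearMap.ker (aeval A g) := ⟨hu, LinearMap.mem_ker.mpr h0⟩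
    rw [h] at hmem
    exact (Submodule.mem_bot F).mp hmem
  · left
    intro u hu
    have hmem : u ∈ U ⊓ LinearMap.ker (aeval A g) := by rw [h]; exact hu
    exact LinearMap.mem_ker.mp hmem.2

theorem irr_ann_iff {A : V →ₗ[F] V} {U : Submodule F V} (hU : Irr A U) {u : V} (hu : u ∈ U)
    (hu0 : u ≠ 0) (g : F[X]) : g ∈ ann A U ↔ aeval A g u = 0 := by
  constructor
  · intro h; exact h u hu
  · intro h
    rcases irr_ker hU g with h1 | h1
    · exact h1
    · exact absurd (h1 u hu h) hu0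

theorem irr_exists_ne {U : Submodule F V} (hU : U ≠ ⊥) : ∃ u ∈ U, u ≠ 0 :=
  Submodule.exists_mem_ne_zero_of_ne_bot hU

theorem ann_ne_top {A : V →ₗ[F] V} {U : Submodule F V} (hU : U ≠ ⊥) : ann A U ≠ ⊤ := by
  intro h
  have h1 : (1 : F[X]) ∈ ann A U := h ▸ Submodule.mem_top
  obtain ⟨u, hu, hu0⟩ := irr_exists_ne hU
  apply hu0
  have := h1 u hu
  rwa [map_one, Module.End.one_apply] at this

theorem ann_isMaximal {A : V →ₗ[F] V} {U : Submodule F V} (hU : Irr A U) (p : F[X])
    (hp0 : p ≠ 0) (hp : aeval A p = 0) : (ann A U).IsMaximal := by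
  have hprime : (ann A U).IsPrime := by
    refine ⟨ann_ne_top hU.1, ?_⟩
    intro g h hgh
    rcases irr_ker hU h with hh | hh
    · exact Or.inr hh
    · left
      intro u hu
      have h1 := hgh u hu
      rw [mul_comm, aeval_mul_apply] at h1
      exact hh _ (inv_aeval hU.2.1 g u hu) h1
  refine hprime.isMaximal_of_ne_bot (fun h => hp0 ?_)
  have h1 : p ∈ ann A U := fun u _ => by rw [hp, LinearMap.zero_apply]
  rw [h] at h1
  exact (Submodule.mem_bot _).mp h1

/-- Evaluation of polynomials in `A` at the vector `u`. -/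
noncomputable def ev (A : V →ₗ[F] V) (u : V) : F[X] →ₗ[F] V where
  toFun g := aeval A g u
  map_add' g h := by rw [map_add, LinearMap.add_apply]
  map_smul' c g := by rw [map_smul, LinearMap.smul_apply, RingHom.id_apply]

theorem ev_apply (A : V →ₗ[F] V) (u : V) (g : F[X]) : ev A u g = aeval A g u := rfl

/-- The cyclic subspace `F[A] u`. -/
noncomputable def cyc (A : V →ₗ[F] V) (u : V) : Submodule F V := LinearMap.range (ev A u)

theorem mem_cyc {A : V →ₗ[F] V} {u x : V} : x ∈ cyc A u ↔ ∃ g : F[X], aeval A g u = x :=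
  LinearMap.mem_range

theorem self_mem_cyc (A : V →ₗ[F] V) (u : V) : u ∈ cyc A u :=
  mem_cyc.mpr ⟨1, by rw [map_one, Module.End.one_apply]⟩

theorem cyc_inv (A : V →ₗ[F] V) (u : V) : Inv A (cyc A u) := by
  intro x hx
  obtain ⟨g, rfl⟩ := mem_cyc.mp hx
  exact mem_cyc.mpr ⟨X * g, by rw [aeval_mul_apply, aeval_X_apply]⟩

theorem cyc_le {A : V →ₗ[F] V} {U : Submodule F V} (hU : Inv A U) {u : V} (hu : u ∈ U) :
    cyc A u ≤ U := by
  intro x hx
  obtain ⟨g, rfl⟩ := mem_cyc.mp hx
  exact inv_aeval hU g u hu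

theorem cyc_ne_bot (A : V →ₗ[F] V) {u : V} (hu : u ≠ 0) : cyc A u ≠ ⊥ := by
  intro h
  have := self_mem_cyc A u
  rw [h] at this
  exact hu ((Submodule.mem_bot F).mp this)

theorem irr_eq_cyc {A : V →ₗ[F] V} {U : Submodule F V} (hU : Irr A U) {u : V} (hu : u ∈ U)
    (hu0 : u ≠ 0) : cyc A u = U := by
  rcases hU.2.2 _ (cyc_le hU.2.1 hu) (cyc_inv A u) with h | h
  · exact absurd h (cyc_ne_bot A hu0)
  · exact h

/-- A cyclic subspace whose generator has a maximal annihilator is irreducible. -/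
theorem cyc_irr {A : V →ₗ[F] V} {w : V} (hw : w ≠ 0) (I : Ideal F[X]) (hI : I.IsMaximal)
    (h : ∀ g : F[X], aeval A g w = 0 ↔ g ∈ I) : Irr A (cyc A w) ∧ ann A (cyc A w) = I := by
  refine ⟨⟨cyc_ne_bot A hw, cyc_inv A w, ?_⟩, ?_⟩
  · intro U₀ hle hinv
    by_cases h0 : U₀ = ⊥
    · exact Or.inl h0
    · right
      obtain ⟨y, hy, hy0⟩ := irr_exists_ne h0
      obtain ⟨g, rfl⟩ := mem_cyc.mp (hle hy)
      have hg : g ∉ I := fun hgI => hy0 ((h g).mpr hgI)
      obtain ⟨k, i, hi, hki⟩ := hI.exists_inv hg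
      have hw' : w ∈ U₀ := by
        have h1 : aeval A (k * g + i) w = w := by
          rw [hki, map_one, Module.End.one_apply]
        rw [map_add, LinearMap.add_apply, (h i).mpr hi, add_zero, aeval_mul_apply] at h1
        rw [← h1]
        exact inv_aeval hinv k _ hy
      exact le_antisymm hle (cyc_le hinv hw')
  · ext g
    rw [mem_ann, ← h g]
    constructor
    · intro hg; exact hg w (self_mem_cyc A w)
    · intro hg u hu
      obtain ⟨k, rfl⟩ := mem_cyc.mp hu
      rw [← aeval_mul_apply, mul_comm, aeval_mul_apply, hg, map_zero]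

/-- The intertwining map between two cyclic subspaces. -/
theorem exists_cyc_map (A B : V →ₗ[F] V) (u u' : V)
    (h : ∀ g : F[X], aeval A g u = 0 → aeval B g u' = 0) :
    ∃ Φ : V →ₗ[F] V, ∀ g : F[X], Φ (aeval A g u) = aeval B g u' := by
  obtain ⟨s, hs⟩ := (ev A u).rangeRestrict.exists_rightInverse_of_surjective
    (LinearMap.range_rangeRestrict _)
  obtain ⟨Φ, hΦ⟩ := LinearMap.exists_extend ((ev B u').comp s)
  refine ⟨Φ, fun g => ?_⟩
  have hmem : aeval A g u ∈ LinearMap.range (ev A u) := ⟨g, rfl⟩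
  have h1 : Φ (aeval A g u) = ev B u' (s ⟨aeval A g u, hmem⟩) := by
    have := congrArg (fun f => f ⟨aeval A g u, hmem⟩) hΦ
    simpa using this
  have h2 : ev A u (s ⟨aeval A g u, hmem⟩) = aeval A g u := by
    have := congrArg (fun f => ((f ⟨aeval A g u, hmem⟩ : LinearMap.range (ev A u)) : V)) hs
    simpa using this
  have h3 : aeval A (s ⟨aeval A g u, hmem⟩ - g) u = 0 := by
    rw [map_sub, LinearMap.sub_apply]
    exact sub_eq_zero.mpr h2
  have h4 := h _ h3
  rw [map_sub, LinearMap.sub_apply, sub_eq_zero] at h4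
  rw [h1]
  exact h4

theorem cyc_map_intertwine {A B : V →ₗ[F] V} {u u' : V} {Φ : V →ₗ[F] V}
    (hΦ : ∀ g : F[X], Φ (aeval A g u) = aeval B g u') (h : F[X]) {y : V} (hy : y ∈ cyc A u) :
    Φ (aeval A h y) = aeval B h (Φ y) := by
  obtain ⟨k, rfl⟩ := mem_cyc.mp hy
  rw [← aeval_mul_apply, hΦ, hΦ, aeval_mul_apply]

theorem cyc_map_mem {A B : V →ₗ[F] V} {u u' : V} {Φ : V →ₗ[F] V}
    (hΦ : ∀ g : F[X], Φ (aeval A g u) = aeval B g u') {y : V} (hy : y ∈ cyc A u) :
    Φ y ∈ cyc B u' := by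
  obtain ⟨k, rfl⟩ := mem_cyc.mp hy
  rw [hΦ]
  exact mem_cyc.mpr ⟨k, rfl⟩

theorem cyc_map_self {A B : V →ₗ[F] V} {u u' : V} {Φ : V →ₗ[F] V}
    (hΦ : ∀ g : F[X], Φ (aeval A g u) = aeval B g u') : Φ u = u' := by
  have := hΦ 1
  rwa [map_one, map_one, Module.End.one_apply, Module.End.one_apply] at this

/-- Representation of a functional through a perfect pairing of two subspaces. -/
theorem exists_repr [FiniteDimensional F V] (β : LinearMap.BilinForm F V) (P R : Submodule F V)
    (h1 : ∀ x ∈ P, (∀ y ∈ R, β x y = 0) → x = 0) (h2 : ∀ y ∈ R, (∀ x ∈ P, β x y = 0) → y = 0)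
    (ℓ : V →ₗ[F] F) : ∃ s ∈ P, ∀ y ∈ R, β s y = ℓ y := by
  let ρ : P →ₗ[F] Module.Dual F R :=
    { toFun := fun x => (β x.1).comp R.subtype
      map_add' := by intro x y; ext z; simp
      map_smul' := by intro c x; ext z; simp }
  let ρ' : R →ₗ[F] Module.Dual F P :=
    { toFun := fun y => (β.flip y.1).comp P.subtype
      map_add' := by intro x y; ext z; simp
      map_smul' := by intro c x; ext z; simp }
  have hinj : Function.Injective ρ := by
    rw [← LinearMap.ker_eq_bot, LinearMap.ker_eq_bot']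
    intro x hx
    have := h1 x.1 x.2 (fun y hy => by
      have h3 := congrArg (fun f : Module.Dual F R => f ⟨y, hy⟩) hx
      simpa [ρ] using h3)
    exact Subtype.ext this
  have hinj' : Function.Injective ρ' := by
    rw [← LinearMap.ker_eq_bot, LinearMap.ker_eq_bot']
    intro y hy
    have := h2 y.1 y.2 (fun x hx => by
      have h3 := congrArg (fun f : Module.Dual F P => f ⟨x, hx⟩) hy
      simpa [ρ'] using h3)
    exact Subtype.ext this
  have hle : finrank F P ≤ finrank F R := by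
    have := LinearMap.finrank_le_finrank_of_injective hinj
    rwa [Subspace.dual_finrank_eq] at this
  have hle' : finrank F R ≤ finrank F P := by
    have := LinearMap.finrank_le_finrank_of_injective hinj'
    rwa [Subspace.dual_finrank_eq] at this
  have hsurj : Function.Surjective ρ :=
    (LinearMap.injective_iff_surjective_of_finrank_eq_finrank
      (by rw [Subspace.dual_finrank_eq]; omega)).mp hinj
  obtain ⟨s, hs⟩ := hsurj (ℓ.comp R.subtype)
  refine ⟨s.1, s.2, fun y hy => ?_⟩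
  have h3 := congrArg (fun f : Module.Dual F R => f ⟨y, hy⟩) hs
  simpa [ρ] using h3

/-- Gluing two linear maps along a direct sum. -/
theorem exists_glue (P R : Submodule F V) (h : Disjoint P R) (φP φR : V →ₗ[F] V) :
    ∃ φ : V →ₗ[F] V, (∀ x ∈ P, φ x = φP x) ∧ (∀ y ∈ R, φ y = φR y) := by
  obtain ⟨T, hT⟩ := Submodule.exists_isCompl (P ⊔ R)
  have hc : IsCompl P (R ⊔ T) := by
    refine ⟨h.disjoint_sup_right_of_disjoint_sup_left hT.disjoint, ?_⟩
    rw [codisjoint_iff, ← sup_assoc]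
    exact hT.sup_eq_top
  let π : V →ₗ[F] V := P.subtype.comp (Submodule.projectionOnto P (R ⊔ T) hc)
  refine ⟨φP.comp π + φR.comp (LinearMap.id - π), ?_, ?_⟩
  · intro x hx
    have h1 : π x = x := by
      show ((Submodule.projectionOnto P (R ⊔ T) hc x : P) : V) = x
      rw [Submodule.projectionOnto_apply_of_mem_left hc hx]
    simp [h1]
  · intro y hy
    have h1 : π y = 0 := by
      show ((Submodule.projectionOnto P (R ⊔ T) hc y : P) : V) = 0
      have : Submodule.projectionOnto P (R ⊔ T) hc y = 0 :=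
        (Submodule.projectionOnto_apply_eq_zero_iff hc).mpr (Submodule.mem_sup_left hy)
      rw [this]; rfl
    simp [h1]

/-- The numerical invariant `dim (M ⊓ ker g(A))`. -/
noncomputable def chi (A : V →ₗ[F] V) (g : F[X]) (M : Submodule F V) : ℕ :=
  finrank F ↥(M ⊓ LinearMap.ker (aeval A g))

theorem chi_mono [FiniteDimensional F V] (A : V →ₗ[F] V) (g : F[X]) {U M : Submodule F V}
    (h : U ≤ M) : chi A g U ≤ chi A g M :=
  Submodule.finrank_mono (inf_le_inf_right _ h)

theorem chi_zero (A : V →ₗ[F] V) (M : Submodule F V) : chi A 0 M = finrank F M := by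
  unfold chi
  rw [map_zero, LinearMap.ker_zero, inf_top_eq]

theorem chi_irr_mem {A : V →ₗ[F] V} {U : Submodule F V} (g : F[X]) (h : g ∈ ann A U) :
    chi A g U = finrank F U := by
  unfold chi
  have : U ⊓ LinearMap.ker (aeval A g) = U := by
    apply inf_eq_left.mpr
    intro u hu
    exact LinearMap.mem_ker.mpr (h u hu)
  rw [this]

theorem chi_irr_not_mem {A : V →ₗ[F] V} {U : Submodule F V} (hU : Irr A U) (g : F[X])
    (h : g ∉ ann A U) : chi A g U = 0 := by
  unfold chi
  have : U ⊓ LinearMap.ker (aeval A g) = ⊥ := by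
    rcases hU.2.2 _ inf_le_left (inv_inf hU.2.1 (inv_ker A g)) with h1 | h1
    · exact h1
    · exfalso
      apply h
      intro u hu
      have hmem : u ∈ U ⊓ LinearMap.ker (aeval A g) := by rw [h1]; exact hu
      exact LinearMap.mem_ker.mp hmem.2
  rw [this, finrank_bot]

theorem chi_sup [FiniteDimensional F V] {A : V →ₗ[F] V} {U N : Submodule F V} (hU : Inv A U)
    (hN : Inv A N) (h : Disjoint U N) (g : F[X]) :
    chi A g (U ⊔ N) = chi A g U + chi A g N := by
  unfold chi
  have h1 : (U ⊔ N) ⊓ LinearMap.ker (aeval A g) =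
      (U ⊓ LinearMap.ker (aeval A g)) ⊔ (N ⊓ LinearMap.ker (aeval A g)) := by
    apply le_antisymm
    · intro x hx
      obtain ⟨hx1, hx2⟩ := hx
      obtain ⟨u, hu, n, hn, rfl⟩ := Submodule.mem_sup.mp hx1
      rw [SetLike.mem_coe, LinearMap.mem_ker, map_add] at hx2
      have hu' := inv_aeval hU g u hu
      have hn' := inv_aeval hN g n hn
      have h2 : aeval A g u ∈ U ⊓ N := by
        refine ⟨hu', ?_⟩
        have : aeval A g u = -(aeval A g n) := eq_neg_of_add_eq_zero_left hx2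
        rw [this]
        exact N.neg_mem hn'
      rw [h.eq_bot, Submodule.mem_bot] at h2
      have h3 : aeval A g n = 0 := by rwa [h2, zero_add] at hx2
      exact Submodule.add_mem_sup ⟨hu, LinearMap.mem_ker.mpr h2⟩ ⟨hn, LinearMap.mem_ker.mpr h3⟩
    · exact sup_le (inf_le_inf_right _ le_sup_left) (inf_le_inf_right _ le_sup_right)
  rw [h1]
  have h2 := Submodule.finrank_sup_add_finrank_inf_eq (U ⊓ LinearMap.ker (aeval A g))
    (N ⊓ LinearMap.ker (aeval A g))
  have h3 : (U ⊓ LinearMap.ker (aeval A g)) ⊓ (N ⊓ LinearMap.ker (aeval A g)) = ⊥ := by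
    apply le_bot_iff.mp
    calc (U ⊓ LinearMap.ker (aeval A g)) ⊓ (N ⊓ LinearMap.ker (aeval A g)) ≤ U ⊓ N :=
          inf_le_inf inf_le_left inf_le_left
      _ = ⊥ := h.eq_bot
  rw [h3, finrank_bot, add_zero] at h2
  exact h2

end Cfsg.Agent.Lib.Helper8.WallBasic
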