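import Mathlib
import Cfsg.Agent.Lib.Helper8.WallBasic

/-!
# Semisimple isometries of odd order: invariant subspaces and the form

`Setup β N A`: `A` is an isometry of the symmetric form `β` with `A ^ N = 1`, `N` odd and
invertible in the field.  Adjoints of polynomials in `A`, orthogonal complements, the dichotomy
non-degenerate / totally isotropic for irreducible subspaces, partners of totally isotropic
irreducible subspaces, the polarisation lemma.
-/

set_option autoImplicit false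

namespace Cfsg.Agent.Lib.Helper8.WallForm

open Polynomial Module Cfsg.Agent.Lib.Helper8.WallBasic

variable {F : Type*} [Field F] {V : Type*} [AddCommGroup V] [Module F V]

/-- The standing hypotheses. -/
structure Setup (β : LinearMap.BilinForm F V) (N : ℕ) (A : V →ₗ[F] V) : Prop where
  symm : ∀ x y, β x y = β y x
  odd : Odd N
  pow : A ^ N = 1
  isom : ∀ x y, β (A x) (A y) = β x y
  ne : (N : F) ≠ 0

/-- `β` is non-degenerate on the subspace `M`. -/
def NondegOn (β : LinearMap.BilinForm F V) (M : Submodule F V) : Prop :=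
  ∀ x ∈ M, (∀ y ∈ M, β x y = 0) → x = 0

/-- The orthogonal complement. -/
def perp (β : LinearMap.BilinForm F V) (H : Submodule F V) : Submodule F V where
  carrier := {x | ∀ h ∈ H, β h x = 0}
  add_mem' := by
    intro a b ha hb h hh
    rw [map_add, ha h hh, hb h hh, add_zero]
  zero_mem' := by
    intro h _
    rw [map_zero]
  smul_mem' := by
    intro c x hx h hh
    rw [map_smul, hx h hh, smul_zero]

theorem mem_perp {β : LinearMap.BilinForm F V} {H : Submodule F V} {x : V} :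
    x ∈ perp β H ↔ ∀ h ∈ H, β h x = 0 := Iff.rfl

namespace Setup

variable {β : LinearMap.BilinForm F V} {N : ℕ} {A : V →ₗ[F] V} (S : Setup β N A)

include S

theorem pos : 0 < N := S.odd.pos

theorem mul_inv : A * A ^ (N - 1) = 1 := by
  rw [← pow_succ', Nat.sub_add_cancel S.pos, S.pow]

theorem inv_mul : A ^ (N - 1) * A = 1 := by
  rw [← pow_succ, Nat.sub_add_cancel S.pos, S.pow]

theorem right_inv (x : V) : A ((A ^ (N - 1)) x) = x := by
  have := congrArg (fun f : V →ₗ[F] V => f x) S.mul_inv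
  simpa using this

theorem left_inv (x : V) : (A ^ (N - 1)) (A x) = x := by
  have := congrArg (fun f : V →ₗ[F] V => f x) S.inv_mul
  simpa using this

theorem pow_inv_pow : (A ^ (N - 1)) ^ (N - 1) = A := by
  have h1 : (A ^ (N - 1)) ^ N = 1 := by
    rw [← pow_mul, mul_comm, pow_mul, S.pow, one_pow]
  calc (A ^ (N - 1)) ^ (N - 1) = (A ^ (N - 1)) ^ (N - 1) * (A ^ (N - 1) * A) := by
        rw [S.inv_mul, mul_one]
    _ = (A ^ (N - 1)) ^ N * A := by
        rw [← mul_assoc, ← pow_succ, Nat.sub_add_cancel S.pos]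
    _ = A := by rw [h1, one_mul]

theorem adj (x y : V) : β (A x) y = β x ((A ^ (N - 1)) y) := by
  calc β (A x) y = β (A x) (A ((A ^ (N - 1)) y)) := by rw [S.right_inv]
    _ = β x ((A ^ (N - 1)) y) := S.isom _ _

theorem adj_aeval (g : F[X]) (x y : V) :
    β (aeval A g x) y = β x (aeval (A ^ (N - 1)) g y) := by
  induction g using Polynomial.induction_on' generalizing x y with
  | add p q hp hq =>
    rw [map_add, map_add, LinearMap.add_apply, LinearMap.add_apply, map_add,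
      LinearMap.add_apply, map_add, hp, hq]
  | monomial n a =>
    rw [aeval_monomial, aeval_monomial, Module.End.mul_apply, Module.End.mul_apply,
      Module.algebraMap_end_apply, Module.algebraMap_end_apply, map_smul, map_smul,
      LinearMap.smul_apply]
    congr 1
    induction n generalizing x y with
    | zero => simp
    | succ n ih =>
      rw [pow_succ, pow_succ', Module.End.mul_apply, Module.End.mul_apply, ih, S.adj]

theorem adj_aeval' (g : F[X]) (x y : V) :
    β (aeval (A ^ (N - 1)) g x) y = β x (aeval A g y) := by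
  rw [S.symm, S.symm x, S.adj_aeval]

theorem inv_inv {U : Submodule F V} (hU : Inv A U) : Inv (A ^ (N - 1)) U := inv_pow hU _

theorem surj_on {U : Submodule F V} (hU : Inv A U) {x : V} (hx : x ∈ U) : ∃ y ∈ U, A y = x :=
  ⟨(A ^ (N - 1)) x, inv_pow hU _ x hx, S.right_inv x⟩

theorem annihilating : aeval A (X ^ N - C (1 : F)) = 0 := by
  rw [map_sub, map_pow, aeval_X, aeval_C, map_one, S.pow, sub_self]

theorem ann_poly_ne : (X ^ N - C (1 : F) : F[X]) ≠ 0 := X_pow_sub_C_ne_zero S.pos 1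

theorem semisimple : Module.End.IsSemisimple A :=
  Module.End.isSemisimple_of_squarefree_aeval_eq_zero
    (separable_X_pow_sub_C (1 : F) S.ne one_ne_zero).squarefree S.annihilating

theorem ann_max {U : Submodule F V} (hU : Irr A U) : (ann A U).IsMaximal :=
  ann_isMaximal hU _ S.ann_poly_ne S.annihilating

theorem neg_fix {x : V} (h : A x = -x) : A x = x := by
  have h1 : ∀ n : ℕ, (A ^ n) x = (-1 : F) ^ n • x := by
    intro n
    induction n with
    | zero => simp
    | succ n ih =>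
      rw [pow_succ, Module.End.mul_apply, h, map_neg, ih, pow_succ, mul_neg_one, neg_smul]
  have h2 := h1 N
  rw [S.pow, Module.End.one_apply, S.odd.neg_one_pow, neg_one_smul] at h2
  rw [h, ← h2]

theorem perp_inv {H : Submodule F V} (hH : Inv A H) : Inv A (perp β H) := by
  intro x hx h hh
  obtain ⟨h', hh', rfl⟩ := S.surj_on hH hh
  rw [S.isom]
  exact hx h' hh'

theorem dich {U : Submodule F V} (hU : Irr A U) :
    NondegOn β U ∨ ∀ x ∈ U, ∀ y ∈ U, β x y = 0 := by
  rcases hU.2.2 (U ⊓ perp β U) inf_le_left (inv_inf hU.2.1 (S.perp_inv hU.2.1)) with h | h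
  · left
    intro x hx hxy
    have hmem : x ∈ U ⊓ perp β U := ⟨hx, fun h hh => by rw [S.symm]; exact hxy h hh⟩
    rw [h] at hmem
    exact (Submodule.mem_bot F).mp hmem
  · right
    intro x hx y hy
    have hmem : y ∈ U ⊓ perp β U := by rw [h]; exact hy
    exact hmem.2 x hx

theorem ann_pair {U U₁ : Submodule F V} (hU : Inv A U) (hU₁ : Inv A U₁)
    (hp1 : ∀ x ∈ U, (∀ y ∈ U₁, β x y = 0) → x = 0)
    (hp2 : ∀ y ∈ U₁, (∀ x ∈ U, β x y = 0) → y = 0) :
    ann A U₁ = ann (A ^ (N - 1)) U := by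
  ext g
  rw [mem_ann, mem_ann]
  constructor
  · intro h u hu
    apply hp1 _ (inv_aeval (S.inv_inv hU) g u hu)
    intro v hv
    rw [S.adj_aeval', h v hv, map_zero]
  · intro h v hv
    apply hp2 _ (inv_aeval hU₁ g v hv)
    intro u hu
    rw [S.symm, S.adj_aeval, h u hu, map_zero]

theorem ann_self {U : Submodule F V} (hU : Inv A U) (hnd : NondegOn β U) :
    ann A U = ann (A ^ (N - 1)) U :=
  S.ann_pair hU hU hnd (fun y hy h => hnd y hy (fun x hx => by rw [S.symm]; exact h x hx))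

theorem exists_partner [FiniteDimensional F V] {M U : Submodule F V} (hM : Inv A M)
    (hMnd : NondegOn β M) (hU : Irr A U) (hUM : U ≤ M) :
    ∃ U₁, U₁ ≤ M ∧ Irr A U₁ ∧ (∀ x ∈ U, (∀ y ∈ U₁, β x y = 0) → x = 0) ∧
      (∀ y ∈ U₁, (∀ x ∈ U, β x y = 0) → y = 0) := by
  have hPinv : Inv A (M ⊓ perp β U) := inv_inf hM (S.perp_inv hU.2.1)
  obtain ⟨q, hq, hPq⟩ := Module.End.isSemisimple_iff.mp S.semisimple (M ⊓ perp β U)
    ((Module.End.mem_invtSubmodule_iff_forall_mem_of_mem A).mpr hPinv)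
  have hqinv : Inv A q := (Module.End.mem_invtSubmodule_iff_forall_mem_of_mem A).mp hq
  have hC0 : q ⊓ M ≠ ⊥ := by
    intro h0
    have h1 : (M ⊓ perp β U ⊔ q) ⊓ M = M ⊓ perp β U ⊔ q ⊓ M :=
      sup_inf_assoc_of_le q inf_le_left
    rw [hPq.sup_eq_top, top_inf_eq, h0, sup_bot_eq] at h1
    obtain ⟨u, hu, hu0⟩ := irr_exists_ne hU.1
    apply hu0
    apply hMnd u (hUM hu)
    intro y hy
    have hmem : y ∈ M ⊓ perp β U := by rw [← h1]; exact hy
    exact hmem.2 u hu
  obtain ⟨U₁, hU₁C, hU₁⟩ := exists_irr A _ (q ⊓ M) rfl (inv_inf hqinv hM) hC0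
  have hp2 : ∀ y ∈ U₁, (∀ x ∈ U, β x y = 0) → y = 0 := by
    intro y hy h
    have h1 : y ∈ (M ⊓ perp β U) ⊓ q := ⟨⟨(hU₁C hy).2, h⟩, (hU₁C hy).1⟩
    rw [hPq.inf_eq_bot] at h1
    exact (Submodule.mem_bot F).mp h1
  refine ⟨U₁, hU₁C.trans inf_le_right, hU₁, ?_, hp2⟩
  rcases hU.2.2 (U ⊓ perp β U₁) inf_le_left (inv_inf hU.2.1 (S.perp_inv hU₁.2.1)) with h | h
  · intro x hx hxy
    have hmem : x ∈ U ⊓ perp β U₁ := ⟨hx, fun y hy => by rw [S.symm]; exact hxy y hy⟩
    rw [h] at hmem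
    exact (Submodule.mem_bot F).mp hmem
  · exfalso
    obtain ⟨y, hy, hy0⟩ := irr_exists_ne hU₁.1
    apply hy0
    apply hp2 y hy
    intro x hx
    have hmem : x ∈ U ⊓ perp β U₁ := by rw [h]; exact hx
    rw [S.symm]
    exact hmem.2 y hy

theorem polar_zero {Nn : Submodule F V} (hsurj : ∀ x ∈ Nn, ∃ x₁ ∈ Nn, A x₁ + x₁ = x)
    (h : ∀ w ∈ Nn, β w w = 0 ∧ β w (A w) = 0) : ∀ x ∈ Nn, ∀ y ∈ Nn, β x y = 0 := by
  intro x hx y hy
  obtain ⟨x₁, hx₁, rfl⟩ := hsurj x hx
  obtain ⟨y₁, hy₁, rfl⟩ := hsurj y hy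
  have h1 := (h (x₁ + y₁) (Nn.add_mem hx₁ hy₁)).1
  have h2 := (h (x₁ + y₁) (Nn.add_mem hx₁ hy₁)).2
  have hx1 := h x₁ hx₁
  have hy1 := h y₁ hy₁
  simp only [map_add, LinearMap.add_apply] at h1 h2 ⊢
  rw [S.isom]
  have hs := S.symm y₁ x₁
  have hs2 := S.symm (A x₁) y₁
  linear_combination h1 - hx1.1 - hy1.1 + h2 - hx1.2 - hy1.2 - hs + hs2

theorem add_one_surj [FiniteDimensional F V] {Nn : Submodule F V} (hN : Inv A Nn)
    (hfix : ∀ x ∈ Nn, A x = x → x = 0) : ∀ x ∈ Nn, ∃ x₁ ∈ Nn, A x₁ + x₁ = x := by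
  have hinv : ∀ x ∈ Nn, (A + 1) x ∈ Nn := fun x hx => by
    rw [LinearMap.add_apply, Module.End.one_apply]
    exact Nn.add_mem (hN x hx) hx
  have hinj : Function.Injective ((A + 1).restrict hinv) := by
    rw [← LinearMap.ker_eq_bot, LinearMap.ker_eq_bot']
    intro x hx
    have h1 : A x.1 + x.1 = 0 := by
      have := congrArg Subtype.val hx
      simpa [LinearMap.restrict_apply] using this
    have h2 : A x.1 = -x.1 := eq_neg_of_add_eq_zero_left h1
    exact Subtype.ext (hfix x.1 x.2 (S.neg_fix h2))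
  have hsurj := LinearMap.injective_iff_surjective.mp hinj
  intro x hx
  obtain ⟨y, hy⟩ := hsurj ⟨x, hx⟩
  refine ⟨y.1, y.2, ?_⟩
  have := congrArg Subtype.val hy
  simpa [LinearMap.restrict_apply] using this

theorem sub_one_surj [FiniteDimensional F V] {Nn : Submodule F V} (hN : Inv A Nn)
    (hfix : ∀ x ∈ Nn, A x = x → x = 0) : ∀ x ∈ Nn, ∃ x₁ ∈ Nn, A x₁ - x₁ = x := by
  have hinv : ∀ x ∈ Nn, (A - 1) x ∈ Nn := fun x hx => by
    rw [LinearMap.sub_apply, Module.End.one_apply]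
    exact Nn.sub_mem (hN x hx) hx
  have hinj : Function.Injective ((A - 1).restrict hinv) := by
    rw [← LinearMap.ker_eq_bot, LinearMap.ker_eq_bot']
    intro x hx
    have h1 : A x.1 - x.1 = 0 := by
      have := congrArg Subtype.val hx
      simpa [LinearMap.restrict_apply] using this
    exact Subtype.ext (hfix x.1 x.2 (sub_eq_zero.mp h1))
  have hsurj := LinearMap.injective_iff_surjective.mp hinj
  intro x hx
  obtain ⟨y, hy⟩ := hsurj ⟨x, hx⟩
  refine ⟨y.1, y.2, ?_⟩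
  have := congrArg Subtype.val hy
  simpa [LinearMap.restrict_apply] using this

end Setup

theorem irr_disjoint {A : V →ₗ[F] V} {U U₁ : Submodule F V} (hU : Irr A U) (hU₁ : Irr A U₁)
    (hne : U ≠ U₁) : Disjoint U U₁ := by
  rw [disjoint_iff]
  rcases hU.2.2 (U ⊓ U₁) inf_le_left (inv_inf hU.2.1 hU₁.2.1) with h | h
  · exact h
  · exfalso
    have hle : U ≤ U₁ := inf_eq_left.mp h
    rcases hU₁.2.2 U hle hU.2.1 with h' | h'
    · exact hU.1 h'
    · exact hne h'

section perp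

variable {β : LinearMap.BilinForm F V}

theorem perp_sup [FiniteDimensional F V] (hs : ∀ x y, β x y = β y x) {H M : Submodule F V}
    (hH : NondegOn β H) (hHM : H ≤ M) : H ⊔ (M ⊓ perp β H) = M := by
  apply le_antisymm (sup_le hHM inf_le_left)
  intro x hx
  obtain ⟨s, hs1, hs2⟩ := exists_repr β H H hH
    (fun y hy h => hH y hy (fun x hx => by rw [hs]; exact h x hx)) (β x)
  have hmem : x - s ∈ M ⊓ perp β H := by
    refine ⟨M.sub_mem hx (hHM hs1), fun h hh => ?_⟩
    rw [map_sub, hs h s, hs2 h hh, hs h x, sub_self]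
  have : x = s + (x - s) := by abel
  rw [this]
  exact Submodule.add_mem_sup hs1 hmem

theorem perp_disjoint (hs : ∀ x y, β x y = β y x) {H : Submodule F V} (M : Submodule F V)
    (hH : NondegOn β H) : Disjoint H (M ⊓ perp β H) := by
  rw [Submodule.disjoint_def]
  intro x hx hx'
  exact hH x hx (fun y hy => by rw [hs]; exact hx'.2 y hy)

theorem perp_nondeg [FiniteDimensional F V] (hs : ∀ x y, β x y = β y x) {H M : Submodule F V}
    (hH : NondegOn β H) (hHM : H ≤ M) (hM : NondegOn β M) : NondegOn β (M ⊓ perp β H) := by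
  intro x hx hxy
  apply hM x hx.1
  intro z hz
  rw [← perp_sup hs hH hHM] at hz
  obtain ⟨h, hh, n, hn, rfl⟩ := Submodule.mem_sup.mp hz
  rw [map_add, hs x h, hx.2 h hh, hxy n hn, add_zero]

end perp

/-- Gluing partial isometries along a direct sum. -/
theorem glue_iso {β : LinearMap.BilinForm F V} (hs : ∀ x y, β x y = β y x)
    {P R P' R' : Submodule F V} (hd : Disjoint P R) (φP φR : V →ₗ[F] V)
    (hP : ∀ x ∈ P, φP x ∈ P') (hR : ∀ x ∈ R, φR x ∈ R')
    (iP : ∀ x ∈ P, ∀ y ∈ P, β (φP x) (φP y) = β x y)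
    (iR : ∀ x ∈ R, ∀ y ∈ R, β (φR x) (φR y) = β x y)
    (iPR : ∀ x ∈ P, ∀ y ∈ R, β (φP x) (φR y) = β x y)
    {A B : V →ₗ[F] V} (hPA : Inv A P) (hRA : Inv A R)
    (tP : ∀ x ∈ P, φP (A x) = B (φP x)) (tR : ∀ x ∈ R, φR (A x) = B (φR x)) :
    ∃ φ : V →ₗ[F] V, (∀ x ∈ P ⊔ R, φ x ∈ P' ⊔ R') ∧
      (∀ x ∈ P ⊔ R, ∀ y ∈ P ⊔ R, β (φ x) (φ y) = β x y) ∧
      (∀ x ∈ P ⊔ R, φ (A x) = B (φ x)) := by
  obtain ⟨φ, h1, h2⟩ := exists_glue P R hd φP φR
  have key : ∀ p ∈ P, ∀ r ∈ R, φ (p + r) = φP p + φR r := fun p hp r hr => by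
    rw [map_add, h1 p hp, h2 r hr]
  refine ⟨φ, ?_, ?_, ?_⟩
  · intro x hx
    obtain ⟨p, hp, r, hr, rfl⟩ := Submodule.mem_sup.mp hx
    rw [key p hp r hr]
    exact Submodule.add_mem_sup (hP p hp) (hR r hr)
  · intro x hx y hy
    obtain ⟨p, hp, r, hr, rfl⟩ := Submodule.mem_sup.mp hx
    obtain ⟨p', hp', r', hr', rfl⟩ := Submodule.mem_sup.mp hy
    rw [key p hp r hr, key p' hp' r' hr']
    simp only [map_add, LinearMap.add_apply]
    rw [iP p hp p' hp', iR r hr r' hr', iPR p hp r' hr', hs (φR r) (φP p'), iPR p' hp' r hr,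
      hs p' r]
  · intro x hx
    obtain ⟨p, hp, r, hr, rfl⟩ := Submodule.mem_sup.mp hx
    rw [map_add, key (A p) (hPA p hp) (A r) (hRA r hr), key p hp r hr, map_add, tP p hp,
      tR r hr]

end Cfsg.Agent.Lib.Helper8.WallForm
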