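import Mathlib
import Cfsg.Agent.Lib.Helper8.WallForm
import Cfsg.Agent.Lib.Helper8.GraphInvSemi

/-!
# Semisimple isometries of odd order: the two basic blocks

* a non-degenerate irreducible invariant subspace is determined, up to an intertwining isometry,
  by its annihilator (norm surjectivity in the finite field `F[X]/ann`);
* a pair of totally isotropic irreducible subspaces in duality likewise.
-/

set_option autoImplicit false

namespace Cfsg.Agent.Lib.Helper8.WallRank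

open Polynomial Module Cfsg.Agent.Lib.Helper8.WallBasic Cfsg.Agent.Lib.Helper8.WallForm

/-- Surjectivity of the norm of a quadratic extension of finite fields. -/
theorem norm_surj {K : Type*} [Field K] [Fintype K] (r : ℕ) (hr : Fintype.card K = r * r)
    (c : K) (hc0 : c ≠ 0) (hc : c ^ r = c) : ∃ d : K, d ^ (r + 1) = c := by
  classical
  have hr2 : 2 ≤ r := by
    by_contra h
    have h1 : r ≤ 1 := by omega
    have h2 : Fintype.card K ≤ 1 := by rw [hr]; nlinarith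
    have := Fintype.one_lt_card (α := K)
    omega
  obtain ⟨ζ, hζ⟩ := IsCyclic.exists_generator (α := Kˣ)
  have hord : orderOf ζ = r * r - 1 := by
    rw [orderOf_eq_card_of_forall_mem_zpowers hζ, Nat.card_eq_fintype_card, Fintype.card_units,
      hr]
  obtain ⟨k, hk⟩ : ∃ k : ℕ, ζ ^ k = Units.mk0 c hc0 := by
    have h1 := hζ (Units.mk0 c hc0)
    rw [← mem_powers_iff_mem_zpowers] at h1
    exact h1
  have h1 : (Units.mk0 c hc0) ^ (r - 1) = 1 := by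
    ext
    rw [Units.val_pow_eq_pow_val, Units.val_mk0, Units.val_one]
    have h2 : c ^ (r - 1) * c = c := by
      rw [← pow_succ, Nat.sub_add_cancel (by omega)]
      exact hc
    exact mul_right_cancel₀ hc0 (by rw [h2, one_mul])
  rw [← hk, ← pow_mul] at h1
  have h2 : r * r - 1 ∣ k * (r - 1) := by
    rw [← hord]
    exact orderOf_dvd_of_pow_eq_one h1
  have h3 : r * r - 1 = (r + 1) * (r - 1) := by
    obtain ⟨s, rfl⟩ : ∃ s, r = s + 1 := ⟨r - 1, by omega⟩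
    simp only [Nat.add_sub_cancel]
    have : (s + 1) * (s + 1) = (s + 1 + 1) * s + 1 := by ring
    rw [this, Nat.add_sub_cancel]
  rw [h3] at h2
  have h4 : r + 1 ∣ k := Nat.dvd_of_mul_dvd_mul_right (by omega : 0 < r - 1) h2
  obtain ⟨j, rfl⟩ := h4
  refine ⟨((ζ ^ j : Kˣ) : K), ?_⟩
  have h5 := congrArg (fun u : Kˣ => (u : K)) hk
  simp only [Units.val_mk0] at h5
  rw [← h5, Units.val_pow_eq_pow_val, Units.val_pow_eq_pow_val, ← pow_mul, mul_comm]

variable {F : Type*} [Field F] {V : Type*} [AddCommGroup V] [Module F V]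
variable {β : LinearMap.BilinForm F V} {N : ℕ} {A B : V →ₗ[F] V}

/-- The norm equation in the field `F[X]/ann`, in terms of polynomials. -/
theorem exists_norm_poly [Finite F] [FiniteDimensional F V] (S : Setup β N A)
    {W : Submodule F V} (hW : Irr A W) (hfix : ∀ x ∈ W, A x = x → x = 0)
    (hsd : ann A W = ann (A ^ (N - 1)) W) (c : F[X]) (hc : c ∉ ann A W)
    (hcs : c.comp (X ^ (N - 1)) - c ∈ ann A W) :
    ∃ d : F[X], d * d.comp (X ^ (N - 1)) * c - 1 ∈ ann A W := by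
  classical
  have hmax : (ann A W).IsMaximal := S.ann_max hW
  haveI := hmax
  letI : Field (F[X] ⧸ ann A W) := Ideal.Quotient.field (ann A W)
  haveI : Finite V := Module.finite_of_finite F
  obtain ⟨w₀, hw₀, hw₀0⟩ := irr_exists_ne hW.1
  haveI : Finite (F[X] ⧸ ann A W) := by
    apply Finite.of_injective (fun k : F[X] ⧸ ann A W => aeval A (Quotient.out k) w₀)
    intro k k' hkk
    have h1 : aeval A (Quotient.out k - Quotient.out k') w₀ = 0 := by
      rw [map_sub, LinearMap.sub_apply]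
      exact sub_eq_zero.mpr hkk
    have h2 : Quotient.out k - Quotient.out k' ∈ ann A W := (irr_ann_iff hW hw₀ hw₀0 _).mpr h1
    have h3 := (Ideal.Quotient.eq (I := ann A W)).mpr h2
    rwa [Ideal.Quotient.mk_out, Ideal.Quotient.mk_out] at h3
  letI : Fintype (F[X] ⧸ ann A W) := Fintype.ofFinite _
  have hσI : ann A W ≤ (ann A W).comap (Polynomial.compRingHom (X ^ (N - 1))) := by
    intro g hg
    rw [Ideal.mem_comap]
    show g.comp (X ^ (N - 1)) ∈ ann A W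
    have h1 : g ∈ ann (A ^ (N - 1)) W := by rw [← hsd]; exact hg
    intro u hu
    rw [← aeval_pow_eq]
    exact h1 u hu
  let τ₀ : F[X] ⧸ ann A W →+* F[X] ⧸ ann A W :=
    Ideal.quotientMap (ann A W) (Polynomial.compRingHom (X ^ (N - 1))) hσI
  have hτ₀ : ∀ g : F[X], τ₀ (Ideal.Quotient.mk (ann A W) g) =
      Ideal.Quotient.mk (ann A W) (g.comp (X ^ (N - 1))) := fun g => by
    show Ideal.quotientMap (ann A W) (Polynomial.compRingHom (X ^ (N - 1))) hσI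
      (Ideal.Quotient.mk (ann A W) g) = _
    rw [Ideal.quotientMap_mk]
    rfl
  have hinvol : ∀ k, τ₀ (τ₀ k) = k := by
    intro k
    obtain ⟨g, rfl⟩ := Ideal.Quotient.mk_surjective k
    rw [hτ₀, hτ₀, Ideal.Quotient.eq]
    intro u hu
    rw [map_sub, LinearMap.sub_apply, ← aeval_pow_eq, ← aeval_pow_eq, S.pow_inv_pow, sub_self]
  let τ : RingAut (F[X] ⧸ ann A W) :=
    RingEquiv.ofRingHom τ₀ τ₀ (RingHom.ext hinvol) (RingHom.ext hinvol)
  have hττ₀ : ∀ k, τ k = τ₀ k := fun k => rfl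
  have hτ1 : τ ≠ 1 := by
    intro h
    have h1 : τ₀ (Ideal.Quotient.mk (ann A W) X) = Ideal.Quotient.mk (ann A W) X := by
      rw [← hττ₀, h]
      rfl
    rw [hτ₀, X_comp, Ideal.Quotient.eq] at h1
    have h2 := h1 w₀ hw₀
    rw [map_sub, LinearMap.sub_apply, aeval_X_pow, aeval_X, sub_eq_zero] at h2
    have h3 : A (A w₀) = w₀ := by rw [← h2, S.right_inv]
    have h4 : A w₀ + w₀ = 0 :=
      hfix _ (W.add_mem (hW.2.1 w₀ hw₀) hw₀) (by rw [map_add, h3, add_comm])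
    have h5 : A w₀ = w₀ := S.neg_fix (eq_neg_of_add_eq_zero_left h4)
    exact hw₀0 (hfix w₀ hw₀ h5)
  have hτ2 : τ * τ = 1 := by
    ext k
    rw [RingAut.mul_apply, hττ₀, hττ₀, hinvol]
    rfl
  obtain ⟨r, hr, hτr⟩ := Cfsg.Agent.Lib.Helper8.GraphInvSemi.sigma_eq_pow τ hτ1 hτ2
  have hck0 : Ideal.Quotient.mk (ann A W) c ≠ 0 := by
    intro h
    exact hc (Ideal.Quotient.eq_zero_iff_mem.mp h)
  have hckτ : (Ideal.Quotient.mk (ann A W) c) ^ r = Ideal.Quotient.mk (ann A W) c := by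
    rw [← hτr, hττ₀, hτ₀]
    exact Ideal.Quotient.eq.mpr hcs
  obtain ⟨dk, hdk⟩ := norm_surj r hr (Ideal.Quotient.mk (ann A W) c)⁻¹ (inv_ne_zero hck0)
    (by rw [_root_.inv_pow, hckτ])
  obtain ⟨d, rfl⟩ := Ideal.Quotient.mk_surjective dk
  refine ⟨d, ?_⟩
  rw [← Ideal.Quotient.eq, map_mul, map_mul, map_one, ← hτ₀ d, ← hττ₀, hτr, ← pow_succ', hdk]
  exact inv_mul_cancel₀ hck0

/-- A pairing that is balanced with respect to `A` is `β` twisted by a polynomial in `A`. -/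
theorem exists_poly_repr [FiniteDimensional F V] (S : Setup β N A) {U : Submodule F V}
    (hU : Irr A U) {u₀ : V} (hu₀ : u₀ ∈ U) (hu₀0 : u₀ ≠ 0) (R : Submodule F V) (hR : Inv A R)
    (hp1 : ∀ x ∈ U, (∀ y ∈ R, β x y = 0) → x = 0)
    (hp2 : ∀ y ∈ R, (∀ x ∈ U, β x y = 0) → y = 0) (γ : LinearMap.BilinForm F V)
    (hγ : ∀ (h : F[X]), ∀ y ∈ R, γ (aeval A h u₀) y = γ u₀ (aeval (A ^ (N - 1)) h y)) :
    ∃ g : F[X], ∀ x ∈ U, ∀ y ∈ R, γ x y = β (aeval A g x) y := by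
  obtain ⟨s, hs, hsy⟩ := exists_repr β U R hp1 hp2 (γ u₀)
  have hcU := irr_eq_cyc hU hu₀ hu₀0
  rw [← hcU] at hs
  obtain ⟨g, rfl⟩ := mem_cyc.mp hs
  refine ⟨g, fun x hx y hy => ?_⟩
  rw [← hcU] at hx
  obtain ⟨h, rfl⟩ := mem_cyc.mp hx
  rw [hγ h y hy, ← hsy _ (inv_aeval (S.inv_inv hR) h y hy), ← S.adj_aeval, ← aeval_mul_apply,
    ← aeval_mul_apply, mul_comm]

/-- In the self-dual case there is a non-degenerate irreducible subspace of the same type. -/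
theorem exists_nondeg_irr [FiniteDimensional F V] (S : Setup β N A) {M U : Submodule F V}
    (hM : Inv A M) (hMnd : NondegOn β M) (hfix : ∀ x ∈ M, A x = x → x = 0) (hU : Irr A U)
    (hUM : U ≤ M) (hsd : ann A U = ann (A ^ (N - 1)) U) :
    ∃ W, W ≤ M ∧ Irr A W ∧ NondegOn β W ∧ ann A W = ann A U := by
  rcases S.dich hU with hnd | hiso
  · exact ⟨U, hUM, hU, hnd, rfl⟩
  obtain ⟨U₁, hU₁M, hU₁, hp1, hp2⟩ := S.exists_partner hM hMnd hU hUM
  have hann₁ : ann A U₁ = ann A U := by rw [S.ann_pair hU.2.1 hU₁.2.1 hp1 hp2, hsd]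
  rcases S.dich hU₁ with hnd₁ | hiso₁
  · exact ⟨U₁, hU₁M, hU₁, hnd₁, hann₁⟩
  have hne : U ≠ U₁ := by
    intro h
    obtain ⟨u, hu, hu0⟩ := irr_exists_ne hU.1
    exact hu0 (hp1 u hu (fun y hy => hiso u hu y (by rw [h]; exact hy)))
  have hdisj : Disjoint U U₁ := irr_disjoint hU hU₁ hne
  by_contra hcon
  push_neg at hcon
  have key : ∀ w ∈ U ⊔ U₁, β w w = 0 ∧ β w (A w) = 0 := by
    intro w hw
    by_cases hw0 : w = 0
    · subst hw0
      simp
    have hchar : ∀ g : F[X], aeval A g w = 0 ↔ g ∈ ann A U := by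
      intro g
      obtain ⟨u, hu, u₁, hu₁, rfl⟩ := Submodule.mem_sup.mp hw
      constructor
      · intro hg
        rw [map_add] at hg
        have h1 : aeval A g u ∈ U ⊓ U₁ := by
          refine ⟨inv_aeval hU.2.1 g u hu, ?_⟩
          have : aeval A g u = -(aeval A g u₁) := eq_neg_of_add_eq_zero_left hg
          rw [this]
          exact U₁.neg_mem (inv_aeval hU₁.2.1 g u₁ hu₁)
        rw [hdisj.eq_bot, Submodule.mem_bot] at h1
        have h2 : aeval A g u₁ = 0 := by rwa [h1, zero_add] at hg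
        by_cases hu0 : u = 0
        · have hu₁0 : u₁ ≠ 0 := by
            intro h
            apply hw0
            rw [hu0, h, add_zero]
          rw [← hann₁]
          exact (irr_ann_iff hU₁ hu₁ hu₁0 g).mpr h2
        · exact (irr_ann_iff hU hu hu0 g).mpr h1
      · intro hg
        have hg₁ : g ∈ ann A U₁ := by rw [hann₁]; exact hg
        rw [map_add, hg u hu, hg₁ u₁ hu₁, add_zero]
    have hcyc := cyc_irr hw0 (ann A U) (S.ann_max hU) hchar
    have hWM : cyc A w ≤ M := cyc_le hM (sup_le hUM hU₁M hw)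
    rcases S.dich hcyc.1 with hnd | hiso'
    · exact absurd hcyc.2 (hcon _ hWM hcyc.1 hnd)
    · exact ⟨hiso' w (self_mem_cyc A w) w (self_mem_cyc A w),
        hiso' w (self_mem_cyc A w) (A w) (cyc_inv A w w (self_mem_cyc A w))⟩
  have hz := S.polar_zero (S.add_one_surj (inv_sup hU.2.1 hU₁.2.1)
    (fun x hx => hfix x (sup_le hUM hU₁M hx))) key
  obtain ⟨u, hu, hu0⟩ := irr_exists_ne hU.1
  exact hu0 (hp1 u hu (fun y hy =>
    hz u (Submodule.mem_sup_left hu) y (Submodule.mem_sup_right hy)))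

/-- In the non-self-dual case an irreducible subspace is totally isotropic and has a totally
isotropic dual partner. -/
theorem exists_hyp_partner [FiniteDimensional F V] (S : Setup β N A) {M U : Submodule F V}
    (hM : Inv A M) (hMnd : NondegOn β M) (hU : Irr A U) (hUM : U ≤ M)
    (hnsd : ann A U ≠ ann (A ^ (N - 1)) U) :
    ∃ U₁, U₁ ≤ M ∧ Irr A U₁ ∧ (∀ x ∈ U, ∀ y ∈ U, β x y = 0) ∧
      (∀ x ∈ U₁, ∀ y ∈ U₁, β x y = 0) ∧ (∀ x ∈ U, (∀ y ∈ U₁, β x y = 0) → x = 0) ∧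
      (∀ y ∈ U₁, (∀ x ∈ U, β x y = 0) → y = 0) ∧ ann A U₁ = ann (A ^ (N - 1)) U ∧
      Disjoint U U₁ := by
  have hiso : ∀ x ∈ U, ∀ y ∈ U, β x y = 0 := by
    rcases S.dich hU with hnd | hiso
    · exact absurd (S.ann_self hU.2.1 hnd) hnsd
    · exact hiso
  obtain ⟨U₁, hU₁M, hU₁, hp1, hp2⟩ := S.exists_partner hM hMnd hU hUM
  have hann₁ := S.ann_pair hU.2.1 hU₁.2.1 hp1 hp2
  have hann₂ : ann A U = ann (A ^ (N - 1)) U₁ :=
    S.ann_pair hU₁.2.1 hU.2.1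
      (fun y hy h => hp2 y hy (fun x hx => by rw [S.symm]; exact h x hx))
      (fun x hx h => hp1 x hx (fun y hy => by rw [S.symm]; exact h y hy))
  have hiso₁ : ∀ x ∈ U₁, ∀ y ∈ U₁, β x y = 0 := by
    rcases S.dich hU₁ with hnd | hiso₁
    · exfalso
      apply hnsd
      rw [hann₂, ← S.ann_self hU₁.2.1 hnd, hann₁]
    · exact hiso₁
  refine ⟨U₁, hU₁M, hU₁, hiso, hiso₁, hp1, hp2, hann₁, irr_disjoint hU hU₁ ?_⟩
  intro h
  apply hnsd
  rw [← hann₁, ← h]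

theorem irr_finrank_eq {U U' : Submodule F V} (hU : Irr A U) (hU' : Irr B U')
    (h : ann A U = ann B U') : finrank F U = finrank F U' := by
  obtain ⟨w₀, hw₀, hw₀0⟩ := irr_exists_ne hU.1
  obtain ⟨w₀', hw₀', hw₀0'⟩ := irr_exists_ne hU'.1
  have hker : LinearMap.ker (ev A w₀) = LinearMap.ker (ev B w₀') := by
    ext g
    rw [LinearMap.mem_ker, LinearMap.mem_ker, ev_apply, ev_apply,
      ← irr_ann_iff hU hw₀ hw₀0, ← irr_ann_iff hU' hw₀' hw₀0', h]
  have e1 := (ev A w₀).quotKerEquivRange.finrank_eq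
  have e2 := (ev B w₀').quotKerEquivRange.finrank_eq
  rw [hker] at e1
  have hc : cyc A w₀ = U := irr_eq_cyc hU hw₀ hw₀0
  have hc' : cyc B w₀' = U' := irr_eq_cyc hU' hw₀' hw₀0'
  rw [← hc, ← hc']
  exact e1.symm.trans e2

theorem exists_same_type [FiniteDimensional F V] {M M' U : Submodule F V} (hM' : Inv B M')
    (hU : Irr A U) (hUM : U ≤ M) (hmax : (ann A U).IsMaximal)
    (hchi : ∀ g : F[X], chi A g M = chi B g M') :
    ∃ U', U' ≤ M' ∧ Irr B U' ∧ ann B U' = ann A U := by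
  obtain ⟨f, hf⟩ : ∃ f : F[X], ann A U = Ideal.span {f} :=
    ⟨_, (Ideal.span_singleton_generator _).symm⟩
  have hfU : f ∈ ann A U := by rw [hf]; exact Ideal.mem_span_singleton_self f
  have h1 : 0 < chi A f M := by
    have h2 := chi_mono A f hUM
    rw [chi_irr_mem f hfU] at h2
    have h3 : 0 < finrank F U :=
      Nat.pos_of_ne_zero (fun h => hU.1 (Submodule.finrank_eq_zero.mp h))
    omega
  rw [hchi f] at h1
  have hC0 : M' ⊓ LinearMap.ker (aeval B f) ≠ ⊥ := by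
    intro h
    unfold chi at h1
    rw [h, finrank_bot] at h1
    exact lt_irrefl _ h1
  obtain ⟨U', hU'C, hU'⟩ := exists_irr B _ _ rfl (inv_inf hM' (inv_ker B f)) hC0
  refine ⟨U', hU'C.trans inf_le_left, hU', ?_⟩
  have hle : ann A U ≤ ann B U' := by
    rw [hf, Ideal.span_singleton_le_iff_mem]
    intro u hu
    exact LinearMap.mem_ker.mp (hU'C hu).2
  exact (hmax.eq_of_le (ann_ne_top hU'.1) hle).symm

/-- The non-degenerate irreducible block. -/
theorem rank_one_sd [Finite F] [FiniteDimensional F V] (SA : Setup β N A) (SB : Setup β N B)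
    {W W' : Submodule F V} (hW : Irr A W) (hW' : Irr B W') (hWnd : NondegOn β W)
    (hWnd' : NondegOn β W') (hann : ann A W = ann B W') (hfix : ∀ x ∈ W, A x = x → x = 0) :
    ∃ φ : V →ₗ[F] V, (∀ x ∈ W, φ x ∈ W') ∧ (∀ x ∈ W, ∀ y ∈ W, β (φ x) (φ y) = β x y) ∧
      (∀ x ∈ W, φ (A x) = B (φ x)) := by
  obtain ⟨w₀, hw₀, hw₀0⟩ := irr_exists_ne hW.1
  obtain ⟨w₀', hw₀', hw₀0'⟩ := irr_exists_ne hW'.1
  have hcW := irr_eq_cyc hW hw₀ hw₀0
  have hcW' := irr_eq_cyc hW' hw₀' hw₀0'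
  obtain ⟨Φ, hΦ⟩ := exists_cyc_map A B w₀ w₀' (fun g hg => by
    have h1 : g ∈ ann A W := (irr_ann_iff hW hw₀ hw₀0 g).mpr hg
    rw [hann] at h1
    exact h1 w₀' hw₀')
  have hΦint : ∀ (h : F[X]) (y : V), y ∈ W → Φ (aeval A h y) = aeval B h (Φ y) :=
    fun h y hy => cyc_map_intertwine hΦ h (by rw [hcW]; exact hy)
  have hΦmem : ∀ y ∈ W, Φ y ∈ W' := fun y hy => by
    rw [← hcW']
    exact cyc_map_mem hΦ (by rw [hcW]; exact hy)
  have hΦ0 : Φ w₀ = w₀' := cyc_map_self hΦ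
  have hΦinti : ∀ (h : F[X]) (y : V), y ∈ W →
      Φ (aeval (A ^ (N - 1)) h y) = aeval (B ^ (N - 1)) h (Φ y) := by
    intro h y hy
    rw [aeval_pow_eq, aeval_pow_eq]
    exact hΦint _ y hy
  have hsymW : ∀ y ∈ W, (∀ x ∈ W, β x y = 0) → y = 0 :=
    fun y hy h => hWnd y hy (fun x hx => by rw [SA.symm]; exact h x hx)
  obtain ⟨c, hc⟩ := exists_poly_repr SA hW hw₀ hw₀0 W hW.2.1 hWnd hsymW (β.compl₁₂ Φ Φ)
    (by
      intro h y hy
      rw [LinearMap.compl₁₂_apply, LinearMap.compl₁₂_apply, hΦint h w₀ hw₀, SB.adj_aeval,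
        hΦinti h y hy])
  have hc' : ∀ x ∈ W, ∀ y ∈ W, β (Φ x) (Φ y) = β (aeval A c x) y := fun x hx y hy => by
    rw [← hc x hx y hy, LinearMap.compl₁₂_apply]
  have hcnot : c ∉ ann A W := by
    intro hcann
    apply hw₀0'
    apply hWnd' w₀' hw₀'
    intro y' hy'
    rw [← hcW'] at hy'
    obtain ⟨k, rfl⟩ := mem_cyc.mp hy'
    rw [← hΦ k, ← hΦ0, hc' w₀ hw₀ _ (inv_aeval hW.2.1 k w₀ hw₀), hcann w₀ hw₀, map_zero,
      LinearMap.zero_apply]
  have hcs : c.comp (X ^ (N - 1)) - c ∈ ann A W := by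
    intro y hy
    have hmem : aeval A (c.comp (X ^ (N - 1)) - c) y ∈ W := inv_aeval hW.2.1 _ y hy
    apply hsymW _ hmem
    intro x hx
    rw [map_sub, LinearMap.sub_apply, map_sub, ← aeval_pow_eq, ← SA.adj_aeval, ← hc' x hx y hy,
      SA.symm x, ← hc' y hy x hx, SB.symm, sub_self]
  have hsd : ann A W = ann (A ^ (N - 1)) W := SA.ann_self hW.2.1 hWnd
  obtain ⟨d, hd⟩ := exists_norm_poly SA hW hfix hsd c hcnot hcs
  have hd' : ∀ x ∈ W, aeval A (d * d.comp (X ^ (N - 1)) * c) x = x := by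
    intro x hx
    have h1 := hd x hx
    rw [map_sub, LinearMap.sub_apply, map_one, Module.End.one_apply, sub_eq_zero] at h1
    exact h1
  refine ⟨Φ.comp (aeval A d), ?_, ?_, ?_⟩
  · intro x hx
    exact hΦmem _ (inv_aeval hW.2.1 d x hx)
  · intro x hx y hy
    rw [LinearMap.comp_apply, LinearMap.comp_apply,
      hc' _ (inv_aeval hW.2.1 d x hx) _ (inv_aeval hW.2.1 d y hy), SA.symm, SA.adj_aeval,
      aeval_pow_eq, ← aeval_mul_apply, ← aeval_mul_apply, SA.symm]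
    have h1 : d.comp (X ^ (N - 1)) * c * d = d * d.comp (X ^ (N - 1)) * c := by ring
    rw [h1, hd' x hx]
  · intro x hx
    rw [LinearMap.comp_apply, LinearMap.comp_apply, aeval_comm_apply]
    have h1 := hΦint X _ (inv_aeval hW.2.1 d x hx)
    rw [aeval_X_apply, aeval_X_apply] at h1
    exact h1

/-- The hyperbolic block. -/
theorem rank_one_hyp [FiniteDimensional F V] (SA : Setup β N A) (SB : Setup β N B)
    {U U₁ U' U₁' : Submodule F V} (hU : Irr A U) (hU₁ : Irr A U₁) (hU' : Irr B U')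
    (hU₁' : Irr B U₁') (hiso : ∀ x ∈ U, ∀ y ∈ U, β x y = 0)
    (hiso₁ : ∀ x ∈ U₁, ∀ y ∈ U₁, β x y = 0) (hiso' : ∀ x ∈ U', ∀ y ∈ U', β x y = 0)
    (hiso₁' : ∀ x ∈ U₁', ∀ y ∈ U₁', β x y = 0)
    (hp1 : ∀ x ∈ U, (∀ y ∈ U₁, β x y = 0) → x = 0)
    (hp2 : ∀ y ∈ U₁, (∀ x ∈ U, β x y = 0) → y = 0)
    (hp1' : ∀ x ∈ U', (∀ y ∈ U₁', β x y = 0) → x = 0)
    (hann : ann A U = ann B U') (hann₁ : ann A U₁ = ann B U₁') (hdisj : Disjoint U U₁) :
    ∃ φ : V →ₗ[F] V, (∀ x ∈ U ⊔ U₁, φ x ∈ U' ⊔ U₁') ∧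
      (∀ x ∈ U ⊔ U₁, ∀ y ∈ U ⊔ U₁, β (φ x) (φ y) = β x y) ∧
      (∀ x ∈ U ⊔ U₁, φ (A x) = B (φ x)) := by
  obtain ⟨u₀, hu₀, hu₀0⟩ := irr_exists_ne hU.1
  obtain ⟨v₀, hv₀, hv₀0⟩ := irr_exists_ne hU₁.1
  obtain ⟨u₀', hu₀', hu₀0'⟩ := irr_exists_ne hU'.1
  obtain ⟨v₀', hv₀', hv₀0'⟩ := irr_exists_ne hU₁'.1
  have hcU := irr_eq_cyc hU hu₀ hu₀0
  have hcU₁ := irr_eq_cyc hU₁ hv₀ hv₀0
  have hcU' := irr_eq_cyc hU' hu₀' hu₀0'
  have hcU₁' := irr_eq_cyc hU₁' hv₀' hv₀0'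
  obtain ⟨Φ, hΦ⟩ := exists_cyc_map A B u₀ u₀' (fun g hg => by
    have h1 : g ∈ ann A U := (irr_ann_iff hU hu₀ hu₀0 g).mpr hg
    rw [hann] at h1
    exact h1 u₀' hu₀')
  obtain ⟨Ψ, hΨ⟩ := exists_cyc_map A B v₀ v₀' (fun g hg => by
    have h1 : g ∈ ann A U₁ := (irr_ann_iff hU₁ hv₀ hv₀0 g).mpr hg
    rw [hann₁] at h1
    exact h1 v₀' hv₀')
  have hΦint : ∀ (h : F[X]) (y : V), y ∈ U → Φ (aeval A h y) = aeval B h (Φ y) :=
    fun h y hy => cyc_map_intertwine hΦ h (by rw [hcU]; exact hy)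
  have hΨint : ∀ (h : F[X]) (y : V), y ∈ U₁ → Ψ (aeval A h y) = aeval B h (Ψ y) :=
    fun h y hy => cyc_map_intertwine hΨ h (by rw [hcU₁]; exact hy)
  have hΦmem : ∀ y ∈ U, Φ y ∈ U' := fun y hy => by
    rw [← hcU']
    exact cyc_map_mem hΦ (by rw [hcU]; exact hy)
  have hΨmem : ∀ y ∈ U₁, Ψ y ∈ U₁' := fun y hy => by
    rw [← hcU₁']
    exact cyc_map_mem hΨ (by rw [hcU₁]; exact hy)
  have hΦ0 : Φ u₀ = u₀' := cyc_map_self hΦ
  have hΨinti : ∀ (h : F[X]) (y : V), y ∈ U₁ →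
      Ψ (aeval (A ^ (N - 1)) h y) = aeval (B ^ (N - 1)) h (Ψ y) := by
    intro h y hy
    rw [aeval_pow_eq, aeval_pow_eq]
    exact hΨint _ y hy
  obtain ⟨g, hg⟩ := exists_poly_repr SA hU hu₀ hu₀0 U₁ hU₁.2.1 hp1 hp2 (β.compl₁₂ Φ Ψ)
    (by
      intro h y hy
      rw [LinearMap.compl₁₂_apply, LinearMap.compl₁₂_apply, hΦint h u₀ hu₀, SB.adj_aeval,
        hΨinti h y hy])
  have hg' : ∀ x ∈ U, ∀ y ∈ U₁, β (Φ x) (Ψ y) = β (aeval A g x) y := fun x hx y hy => by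
    rw [← hg x hx y hy, LinearMap.compl₁₂_apply]
  have hgnot : g ∉ ann A U := by
    intro hgann
    apply hu₀0'
    apply hp1' u₀' hu₀'
    intro y' hy'
    rw [← hcU₁'] at hy'
    obtain ⟨k, rfl⟩ := mem_cyc.mp hy'
    rw [← hΨ k, ← hΦ0, hg' u₀ hu₀ _ (inv_aeval hU₁.2.1 k v₀ hv₀), hgann u₀ hu₀, map_zero,
      LinearMap.zero_apply]
  obtain ⟨d, i, hi, hdi⟩ := (SA.ann_max hU).exists_inv hgnot
  have hd' : ∀ x ∈ U, aeval A (g * d) x = x := by
    intro x hx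
    have h1 : aeval A (d * g + i) x = x := by rw [hdi, map_one, Module.End.one_apply]
    rw [map_add, LinearMap.add_apply, hi x hx, add_zero, mul_comm] at h1
    exact h1
  refine glue_iso SA.symm hdisj (Φ.comp (aeval A d)) Ψ ?_ hΨmem ?_ ?_ ?_ hU.2.1 hU₁.2.1 ?_ ?_
  · intro x hx
    exact hΦmem _ (inv_aeval hU.2.1 d x hx)
  · intro x hx y hy
    rw [hiso x hx y hy]
    exact hiso' _ (hΦmem _ (inv_aeval hU.2.1 d x hx)) _ (hΦmem _ (inv_aeval hU.2.1 d y hy))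
  · intro x hx y hy
    rw [hiso₁ x hx y hy]
    exact hiso₁' _ (hΨmem x hx) _ (hΨmem y hy)
  · intro x hx y hy
    rw [LinearMap.comp_apply, hg' _ (inv_aeval hU.2.1 d x hx) y hy, ← aeval_mul_apply,
      hd' x hx]
  · intro x hx
    rw [LinearMap.comp_apply, LinearMap.comp_apply, aeval_comm_apply]
    have h1 := hΦint X _ (inv_aeval hU.2.1 d x hx)
    rw [aeval_X_apply, aeval_X_apply] at h1
    exact h1
  · intro x hx
    have h1 := hΨint X x hx
    rw [aeval_X_apply, aeval_X_apply] at h1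
    exact h1

end Cfsg.Agent.Lib.Helper8.WallRank
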