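import Mathlib
import Cfsg.Agent.Lib.Helper8.WallRank
import Cfsg.Agent.Lib.Helper43.OrthCard

/-!
# Semisimple isometries of odd order: conjugacy in the orthogonal group

`main_ind`: two invariant non-degenerate subspaces without fixed vectors, with the same numerical
invariants, are related by an intertwining isometry.  `conj_core`: two isometries of a quadratic
form (non-degenerate polar form, finite field) of odd order prime to the characteristic that are
conjugate under a linear automorphism are conjugate under an isometry.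
-/

set_option autoImplicit false

namespace Cfsg.Agent.Lib.Helper8.WallInd

open Polynomial Module Cfsg.Agent.Lib.Helper8.WallBasic Cfsg.Agent.Lib.Helper8.WallForm
  Cfsg.Agent.Lib.Helper8.WallRank

variable {F : Type*} [Field F] {V : Type*} [AddCommGroup V] [Module F V]
variable {β : LinearMap.BilinForm F V} {N : ℕ} {A B : V →ₗ[F] V}

theorem hyp_nondeg (hs : ∀ x y, β x y = β y x) {U U₁ : Submodule F V}
    (hiso : ∀ x ∈ U, ∀ y ∈ U, β x y = 0) (hiso₁ : ∀ x ∈ U₁, ∀ y ∈ U₁, β x y = 0)
    (hp1 : ∀ x ∈ U, (∀ y ∈ U₁, β x y = 0) → x = 0)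
    (hp2 : ∀ y ∈ U₁, (∀ x ∈ U, β x y = 0) → y = 0) : NondegOn β (U ⊔ U₁) := by
  intro x hx hxy
  obtain ⟨u, hu, u₁, hu₁, rfl⟩ := Submodule.mem_sup.mp hx
  have h1 : u = 0 := hp1 u hu (fun y hy => by
    have h := hxy y (Submodule.mem_sup_right hy)
    rw [map_add, LinearMap.add_apply, hiso₁ u₁ hu₁ y hy, add_zero] at h
    exact h)
  have h2 : u₁ = 0 := hp2 u₁ hu₁ (fun x hx => by
    have h := hxy x (Submodule.mem_sup_left hx)
    rw [map_add, LinearMap.add_apply, hiso u hu x hx, zero_add] at h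
    rw [hs]
    exact h)
  rw [h1, h2, add_zero]

theorem chi_eq_of_irr {U U' : Submodule F V} (hU : Irr A U) (hU' : Irr B U')
    (h : ann A U = ann B U') (g : F[X]) : chi A g U = chi B g U' := by
  have hfr := irr_finrank_eq hU hU' h
  by_cases hg : g ∈ ann A U
  · rw [chi_irr_mem g hg, chi_irr_mem g (by rw [← h]; exact hg), hfr]
  · rw [chi_irr_not_mem hU g hg, chi_irr_not_mem hU' g (by rw [← h]; exact hg)]

theorem main_ind [Finite F] [FiniteDimensional F V] (SA : Setup β N A) (SB : Setup β N B) :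
    ∀ (n : ℕ) (M M' : Submodule F V), finrank F M = n → Inv A M → Inv B M' → NondegOn β M →
      NondegOn β M' → (∀ x ∈ M, A x = x → x = 0) → (∀ g : F[X], chi A g M = chi B g M') →
      ∃ φ : V →ₗ[F] V, (∀ x ∈ M, φ x ∈ M') ∧ (∀ x ∈ M, ∀ y ∈ M, β (φ x) (φ y) = β x y) ∧
        (∀ x ∈ M, φ (A x) = B (φ x)) := by
  intro n
  induction n using Nat.strong_induction_on with
  | _ n ih =>
    intro M M' hn hM hM' hMnd hMnd' hfix hchi
    by_cases hM0 : M = ⊥
    · refine ⟨0, ?_, ?_, ?_⟩
      · intro x hx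
        simp
      · intro x hx y hy
        rw [hM0, Submodule.mem_bot] at hx
        rw [hx]
        simp
      · intro x hx
        simp
    have hfix' : ∀ x ∈ M', B x = x → x = 0 := by
      have h1 : chi A (X - C 1) M = 0 := by
        unfold chi
        have : M ⊓ LinearMap.ker (aeval A (X - C (1 : F))) = ⊥ := by
          rw [eq_bot_iff]
          intro x hx
          rw [Submodule.mem_bot]
          apply hfix x hx.1
          have h2 := LinearMap.mem_ker.mp hx.2
          rw [map_sub, aeval_X, aeval_C, map_one, LinearMap.sub_apply, Module.End.one_apply,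
            sub_eq_zero] at h2
          exact h2
        rw [this, finrank_bot]
      have h2 := hchi (X - C 1)
      rw [h1] at h2
      intro x hx hBx
      have h3 : M' ⊓ LinearMap.ker (aeval B (X - C (1 : F))) = ⊥ :=
        Submodule.finrank_eq_zero.mp h2.symm
      have h4 : x ∈ M' ⊓ LinearMap.ker (aeval B (X - C (1 : F))) := by
        refine ⟨hx, LinearMap.mem_ker.mpr ?_⟩
        rw [map_sub, aeval_X, aeval_C, map_one, LinearMap.sub_apply, Module.End.one_apply, hBx,
          sub_self]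
      rw [h3] at h4
      exact (Submodule.mem_bot F).mp h4
    obtain ⟨U, hUM, hU⟩ := exists_irr A _ M rfl hM hM0
    obtain ⟨U', hU'M, hU', hannU⟩ := exists_same_type hM' hU hUM (SA.ann_max hU) hchi
    have hUU' : ann A U = ann B U' := hannU.symm
    obtain ⟨H, H', hHM, hH'M, hHinv, hH'inv, hHnd, hH'nd, hH0, hHchi, φH, hφ1, hφ2, hφ3⟩ :
        ∃ H H' : Submodule F V, H ≤ M ∧ H' ≤ M' ∧ Inv A H ∧ Inv B H' ∧ NondegOn β H ∧
          NondegOn β H' ∧ H ≠ ⊥ ∧ (∀ g : F[X], chi A g H = chi B g H') ∧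
          ∃ φH : V →ₗ[F] V, (∀ x ∈ H, φH x ∈ H') ∧
            (∀ x ∈ H, ∀ y ∈ H, β (φH x) (φH y) = β x y) ∧ (∀ x ∈ H, φH (A x) = B (φH x)) := by
      by_cases hsd : ann A U = ann (A ^ (N - 1)) U
      · obtain ⟨W, hWM, hW, hWnd, hWann⟩ := exists_nondeg_irr SA hM hMnd hfix hU hUM hsd
        have hsd' : ann B U' = ann (B ^ (N - 1)) U' := by
          rw [← hUU', hsd]
          exact ann_pow_eq hUU' (N - 1)
        obtain ⟨W', hW'M, hW', hWnd', hWann'⟩ :=
          exists_nondeg_irr SB hM' hMnd' hfix' hU' hU'M hsd'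
        have hWW' : ann A W = ann B W' := by rw [hWann, hWann', hannU]
        obtain ⟨φ, h1, h2, h3⟩ :=
          rank_one_sd SA SB hW hW' hWnd hWnd' hWW' (fun x hx => hfix x (hWM hx))
        exact ⟨W, W', hWM, hW'M, hW.2.1, hW'.2.1, hWnd, hWnd', hW.1,
          chi_eq_of_irr hW hW' hWW', φ, h1, h2, h3⟩
      · obtain ⟨U₁, hU₁M, hU₁, hiso, hiso₁, hp1, hp2, hann₁, hdisj⟩ :=
          exists_hyp_partner SA hM hMnd hU hUM hsd
        have hsd' : ann B U' ≠ ann (B ^ (N - 1)) U' := by
          intro h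
          apply hsd
          rw [hUU', h]
          exact (ann_pow_eq hUU' (N - 1)).symm
        obtain ⟨U₁', hU₁'M, hU₁', hiso', hiso₁', hp1', hp2', hann₁', hdisj'⟩ :=
          exists_hyp_partner SB hM' hMnd' hU' hU'M hsd'
        have hU₁U₁' : ann A U₁ = ann B U₁' := by
          rw [hann₁, hann₁']
          exact ann_pow_eq hUU' (N - 1)
        obtain ⟨φ, h1, h2, h3⟩ := rank_one_hyp SA SB hU hU₁ hU' hU₁' hiso hiso₁ hiso' hiso₁'
          hp1 hp2 hp1' hUU' hU₁U₁' hdisj
        refine ⟨U ⊔ U₁, U' ⊔ U₁', sup_le hUM hU₁M, sup_le hU'M hU₁'M,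
          inv_sup hU.2.1 hU₁.2.1, inv_sup hU'.2.1 hU₁'.2.1,
          hyp_nondeg SA.symm hiso hiso₁ hp1 hp2, hyp_nondeg SB.symm hiso' hiso₁' hp1' hp2',
          ?_, ?_, φ, h1, h2, h3⟩
        · intro h
          apply hU.1
          rw [eq_bot_iff, ← h]
          exact le_sup_left
        · intro g
          rw [chi_sup hU.2.1 hU₁.2.1 hdisj g, chi_sup hU'.2.1 hU₁'.2.1 hdisj' g,
            chi_eq_of_irr hU hU' hUU' g, chi_eq_of_irr hU₁ hU₁' hU₁U₁' g]
    have hsup : H ⊔ (M ⊓ perp β H) = M := perp_sup SA.symm hHnd hHM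
    have hsup' : H' ⊔ (M' ⊓ perp β H') = M' := perp_sup SB.symm hH'nd hH'M
    have hdis : Disjoint H (M ⊓ perp β H) := perp_disjoint SA.symm M hHnd
    have hdis' : Disjoint H' (M' ⊓ perp β H') := perp_disjoint SB.symm M' hH'nd
    have hNinv : Inv A (M ⊓ perp β H) := inv_inf hM (SA.perp_inv hHinv)
    have hN'inv : Inv B (M' ⊓ perp β H') := inv_inf hM' (SB.perp_inv hH'inv)
    have hNnd := perp_nondeg SA.symm hHnd hHM hMnd
    have hN'nd := perp_nondeg SB.symm hH'nd hH'M hMnd'
    have hNchi : ∀ g : F[X], chi A g (M ⊓ perp β H) = chi B g (M' ⊓ perp β H') := by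
      intro g
      have e1 := chi_sup hHinv hNinv hdis g
      rw [hsup] at e1
      have e2 := chi_sup hH'inv hN'inv hdis' g
      rw [hsup'] at e2
      have e3 := hchi g
      have e4 := hHchi g
      omega
    have hlt : finrank F ↥(M ⊓ perp β H) < n := by
      have e1 := chi_sup hHinv hNinv hdis 0
      rw [hsup, chi_zero, chi_zero, chi_zero] at e1
      have h3 : 0 < finrank F H :=
        Nat.pos_of_ne_zero (fun h => hH0 (Submodule.finrank_eq_zero.mp h))
      omega
    obtain ⟨φN, k1, k2, k3⟩ := ih _ hlt (M ⊓ perp β H) (M' ⊓ perp β H') rfl hNinv hN'inv hNnd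
      hN'nd (fun x hx => hfix x hx.1) hNchi
    obtain ⟨φ, g1, g2, g3⟩ := glue_iso SA.symm hdis φH φN hφ1 k1 hφ2 k2
      (fun x hx y hy => by
        rw [hy.2 x hx]
        exact (k1 y hy).2 _ (hφ1 x hx))
      hHinv hNinv hφ3 k3
    rw [hsup] at g1 g2 g3
    rw [hsup'] at g1
    exact ⟨φ, g1, g2, g3⟩

theorem intertwine_aeval (φ : V →ₗ[F] V) (hφ : ∀ v, φ (A v) = B (φ v)) (h : F[X]) (v : V) :
    φ (aeval A h v) = aeval B h (φ v) := by
  induction h using Polynomial.induction_on' generalizing v with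
  | add p q hp hq =>
    rw [map_add, map_add, LinearMap.add_apply, LinearMap.add_apply, map_add, hp, hq]
  | monomial n a =>
    rw [aeval_monomial, aeval_monomial, Module.End.mul_apply, Module.End.mul_apply,
      Module.algebraMap_end_apply, Module.algebraMap_end_apply, map_smul]
    congr 1
    induction n generalizing v with
    | zero => simp
    | succ n ih =>
      rw [pow_succ, pow_succ, Module.End.mul_apply, Module.End.mul_apply, ih, hφ]

theorem fix_range (S : Setup β N A) : ∀ x ∈ LinearMap.range (A - 1), A x = x → x = 0 := by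
  intro x hx hAx
  obtain ⟨y, rfl⟩ := hx
  have h1 : (∑ i ∈ Finset.range N, A ^ i) * (A - 1) = 0 := by
    rw [geom_sum_mul, S.pow, sub_self]
  have h2 : ∀ i : ℕ, (A ^ i) ((A - 1) y) = (A - 1) y := by
    intro i
    induction i with
    | zero => simp
    | succ i ih => rw [pow_succ, Module.End.mul_apply, hAx, ih]
  have h3 : (∑ i ∈ Finset.range N, A ^ i) ((A - 1) y) = (N : F) • (A - 1) y := by
    rw [LinearMap.sum_apply, Finset.sum_congr rfl (fun i _ => h2 i), Finset.sum_const,
      Finset.card_range, Nat.cast_smul_eq_nsmul]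
  have h4 : (∑ i ∈ Finset.range N, A ^ i) ((A - 1) y) = 0 := by
    have := congrArg (fun f : V →ₗ[F] V => f y) h1
    simpa using this
  rw [h3] at h4
  exact (smul_eq_zero.mp h4).resolve_left S.ne

theorem range_inv (A : V →ₗ[F] V) : Inv A (LinearMap.range (A - 1)) := by
  rintro x ⟨y, rfl⟩
  exact ⟨A y, by simp [map_sub]⟩

theorem range_nondeg (S : Setup β N A) (hnd : ∀ x, (∀ y, β x y = 0) → x = 0) :
    NondegOn β (LinearMap.range (A - 1)) := by
  intro x hx hxy
  apply fix_range S x hx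
  have h1 : (A ^ (N - 1)) x - x = 0 := by
    apply hnd
    intro z
    have h2 := hxy ((A - 1) z) ⟨z, rfl⟩
    rw [LinearMap.sub_apply, Module.End.one_apply, map_sub] at h2
    have h3 : β ((A ^ (N - 1)) x) z = β x (A z) := by
      calc β ((A ^ (N - 1)) x) z = β (A ((A ^ (N - 1)) x)) (A z) := (S.isom _ _).symm
        _ = β x (A z) := by rw [S.right_inv]
    rw [map_sub, LinearMap.sub_apply, h3]
    exact h2
  have h4 : (A ^ (N - 1)) x = x := sub_eq_zero.mp h1
  calc A x = A ((A ^ (N - 1)) x) := by rw [h4]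
    _ = x := S.right_inv x

theorem chi_conj [FiniteDimensional F V] (g : V ≃ₗ[F] V) (hg : ∀ v, g (A v) = B (g v))
    (h : F[X]) (M : Submodule F V) : chi B h (M.map g.toLinearMap) = chi A h M := by
  unfold chi
  have hint : ∀ m : V, g (aeval A h m) = aeval B h (g m) := fun m =>
    intertwine_aeval g.toLinearMap hg h m
  have h1 : (M.map g.toLinearMap) ⊓ LinearMap.ker (aeval B h) =
      (M ⊓ LinearMap.ker (aeval A h)).map g.toLinearMap := by
    ext x
    constructor
    · rintro ⟨⟨m, hm, rfl⟩, hx2⟩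
      refine ⟨m, ⟨hm, ?_⟩, rfl⟩
      rw [SetLike.mem_coe, LinearMap.mem_ker] at hx2 ⊢
      apply g.injective
      rw [map_zero, hint]
      exact hx2
    · rintro ⟨m, ⟨hm, hm2⟩, rfl⟩
      refine ⟨⟨m, hm, rfl⟩, ?_⟩
      rw [SetLike.mem_coe, LinearMap.mem_ker] at hm2 ⊢
      show aeval B h (g m) = 0
      rw [← hint, hm2, map_zero]
  rw [h1]
  exact LinearEquiv.finrank_map_eq g _

/-- Conjugacy under the isometry group. -/
theorem conj_core [Finite F] [FiniteDimensional F V] (Q : QuadraticForm F V)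
    (hQ : (QuadraticMap.polarBilin Q).Nondegenerate) (A B : V →ₗ[F] V) (N : ℕ) (hN : Odd N)
    (hNF : (N : F) ≠ 0) (hA : A ^ N = 1) (hAQ : ∀ v, Q (A v) = Q v) (hBQ : ∀ v, Q (B v) = Q v)
    (g : V ≃ₗ[F] V) (hg : ∀ v, g (A v) = B (g v)) :
    ∃ γ : V ≃ₗ[F] V, (∀ v, Q (γ v) = Q v) ∧ ∀ v, γ (A v) = B (γ v) := by
  obtain ⟨β, hβ⟩ : ∃ β : LinearMap.BilinForm F V, β = QuadraticMap.polarBilin Q := ⟨_, rfl⟩
  have hβapp : ∀ x y, β x y = Q (x + y) - Q x - Q y := fun x y => by
    rw [hβ]
    rfl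
  have hsymm : ∀ x y, β x y = β y x := fun x y => by
    rw [hβapp, hβapp, add_comm]
    ring
  have hself : ∀ v : V, β v v = 2 * Q v := fun v => by
    rw [hβapp, QuadraticMap.map_add_self]
    simp only [nsmul_eq_mul, Nat.cast_ofNat]
    ring
  have hBpow : B ^ N = 1 := by
    have h1 : ∀ (n : ℕ) (v : V), (B ^ n) (g v) = g ((A ^ n) v) := by
      intro n
      induction n with
      | zero => intro v; simp
      | succ n ih =>
        intro v
        rw [pow_succ, pow_succ, Module.End.mul_apply, Module.End.mul_apply, ← hg, ih]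
    apply LinearMap.ext
    intro v
    obtain ⟨w, rfl⟩ := g.surjective v
    rw [h1, hA]
    simp
  have SA : Setup β N A :=
    ⟨hsymm, hN, hA, fun x y => by rw [hβapp, hβapp, ← map_add, hAQ, hAQ, hAQ], hNF⟩
  have SB : Setup β N B :=
    ⟨hsymm, hN, hBpow, fun x y => by rw [hβapp, hβapp, ← map_add, hBQ, hBQ, hBQ], hNF⟩
  have hnd : ∀ x, (∀ y, β x y = 0) → x = 0 := by
    rw [hβ]
    exact hQ.1
  have hMM' : (LinearMap.range (A - 1)).map g.toLinearMap = LinearMap.range (B - 1) := by
    ext x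
    constructor
    · rintro ⟨m, ⟨y, rfl⟩, rfl⟩
      refine ⟨g y, ?_⟩
      show (B - 1) (g y) = g ((A - 1) y)
      rw [LinearMap.sub_apply, LinearMap.sub_apply, Module.End.one_apply, Module.End.one_apply,
        map_sub, hg]
    · rintro ⟨z, rfl⟩
      refine ⟨(A - 1) (g.symm z), ⟨_, rfl⟩, ?_⟩
      show g ((A - 1) (g.symm z)) = (B - 1) z
      rw [LinearMap.sub_apply, LinearMap.sub_apply, Module.End.one_apply, Module.End.one_apply,
        map_sub, hg, LinearEquiv.apply_symm_apply]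
  have hMinv : Inv A (LinearMap.range (A - 1)) := range_inv A
  have hM'inv : Inv B (LinearMap.range (B - 1)) := range_inv B
  have hchi : ∀ h : F[X], chi A h (LinearMap.range (A - 1)) = chi B h (LinearMap.range (B - 1)) :=
    fun h => by rw [← hMM', chi_conj g hg]
  obtain ⟨φ, hφ1, hφ2, hφ3⟩ := main_ind SA SB _ _ _ rfl hMinv hM'inv (range_nondeg SA hnd)
    (range_nondeg SB hnd) (fix_range SA) hchi
  have hsub : ∀ u v : V, Q (u - v) = Q u + Q v - β u v := by
    intro u v
    have h1 := hβapp (u - v) v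
    rw [sub_add_cancel, map_sub, LinearMap.sub_apply, hself] at h1
    linear_combination h1
  have hφQ : ∀ x ∈ LinearMap.range (A - 1), Q (φ x) = Q x := by
    intro x hx
    obtain ⟨y, hy, rfl⟩ := SA.sub_one_surj hMinv (fix_range SA) x hx
    have h2 : β (φ y) (φ y) = β y y := hφ2 y hy y hy
    rw [hself, hself] at h2
    rw [map_sub, hφ3 y hy, hsub, hsub, hBQ, hAQ, ← hφ3 y hy, hφ2 _ (hMinv y hy) y hy]
    linear_combination h2
  have hinj : Function.Injective (φ.comp (LinearMap.range (A - 1)).subtype) := by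
    rw [← LinearMap.ker_eq_bot, LinearMap.ker_eq_bot']
    intro x hx
    have h1 : φ x.1 = 0 := hx
    apply Subtype.ext
    apply range_nondeg SA hnd x.1 x.2
    intro y hy
    rw [← hφ2 x.1 x.2 y hy, h1, map_zero, LinearMap.zero_apply]
  obtain ⟨γ, hγQ, hγ⟩ := Cfsg.Agent.Lib.Helper43.witt_quad Q hQ (LinearMap.range (A - 1))
    (φ.comp (LinearMap.range (A - 1)).subtype) hinj (fun u => hφQ u.1 u.2)
  have hγM : ∀ x ∈ LinearMap.range (A - 1), γ x = φ x := fun x hx => hγ ⟨x, hx⟩
  refine ⟨γ, hγQ, ?_⟩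
  have hγβ : ∀ x y, β (γ x) (γ y) = β x y := fun x y => by
    rw [hβapp, hβapp, ← map_add, hγQ, hγQ, hγQ]
  have hfr : finrank F (LinearMap.range (A - 1)) = finrank F (LinearMap.range (B - 1)) := by
    rw [← hMM']
    exact (LinearEquiv.finrank_map_eq g _).symm
  have hγsurj : ∀ y' ∈ LinearMap.range (B - 1), ∃ m ∈ LinearMap.range (A - 1), γ m = y' := by
    have hres : ∀ x ∈ LinearMap.range (A - 1), γ.toLinearMap x ∈ LinearMap.range (B - 1) :=
      fun x hx => by
        rw [LinearEquiv.coe_coe, hγM x hx]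
        exact hφ1 x hx
    have hinj2 : Function.Injective (γ.toLinearMap.restrict hres) := by
      intro a b hab
      have h1 := congrArg Subtype.val hab
      simp only [LinearMap.restrict_apply] at h1
      exact Subtype.ext (γ.injective h1)
    have hsurj2 := (LinearMap.injective_iff_surjective_of_finrank_eq_finrank hfr).mp hinj2
    intro y' hy'
    obtain ⟨m, hm⟩ := hsurj2 ⟨y', hy'⟩
    exact ⟨m.1, m.2, congrArg Subtype.val hm⟩
  have hdecomp : ∀ v : V, ∃ v₁ m, A v₁ = v₁ ∧ m ∈ LinearMap.range (A - 1) ∧ v = v₁ + m := by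
    have h1 := LinearMap.finrank_range_add_finrank_ker (A - 1)
    have h2 : Disjoint (LinearMap.ker (A - 1)) (LinearMap.range (A - 1)) := by
      rw [Submodule.disjoint_def]
      intro x hx hx'
      rw [LinearMap.mem_ker, LinearMap.sub_apply, Module.End.one_apply, sub_eq_zero] at hx
      exact fix_range SA x hx' hx
    have h3 : LinearMap.ker (A - 1) ⊔ LinearMap.range (A - 1) = ⊤ := by
      apply Submodule.eq_top_of_finrank_eq
      have h4 := Submodule.finrank_sup_add_finrank_inf_eq (LinearMap.ker (A - 1))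
        (LinearMap.range (A - 1))
      rw [h2.eq_bot, finrank_bot, add_zero] at h4
      rw [h4]
      omega
    intro v
    have hv : v ∈ LinearMap.ker (A - 1) ⊔ LinearMap.range (A - 1) := by
      rw [h3]
      exact Submodule.mem_top
    obtain ⟨v₁, hv₁, m, hm, rfl⟩ := Submodule.mem_sup.mp hv
    refine ⟨v₁, m, ?_, hm, rfl⟩
    rw [LinearMap.mem_ker, LinearMap.sub_apply, Module.End.one_apply, sub_eq_zero] at hv₁
    exact hv₁
  intro v
  obtain ⟨v₁, m, hv₁, hm, rfl⟩ := hdecomp v
  have hm2 : γ (A m) = B (γ m) := by rw [hγM _ (hMinv m hm), hγM m hm, hφ3 m hm]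
  have hv2 : B (γ v₁) = γ v₁ := by
    have hperp : ∀ y' ∈ LinearMap.range (B - 1), β (γ v₁) y' = 0 := by
      intro y' hy'
      obtain ⟨m', hm', rfl⟩ := hγsurj y' hy'
      rw [hγβ]
      obtain ⟨z, rfl⟩ := hm'
      rw [LinearMap.sub_apply, Module.End.one_apply, map_sub]
      have h5 : β v₁ (A z) = β v₁ z := by
        calc β v₁ (A z) = β (A v₁) (A z) := by rw [hv₁]
          _ = β v₁ z := SA.isom _ _
      rw [h5, sub_self]
    have h1 : (B ^ (N - 1)) (γ v₁) - γ v₁ = 0 := by
      apply hnd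
      intro z
      have h2 := hperp ((B - 1) z) ⟨z, rfl⟩
      rw [LinearMap.sub_apply, Module.End.one_apply, map_sub] at h2
      have h3 : β ((B ^ (N - 1)) (γ v₁)) z = β (γ v₁) (B z) := by
        calc β ((B ^ (N - 1)) (γ v₁)) z = β (B ((B ^ (N - 1)) (γ v₁))) (B z) :=
              (SB.isom _ _).symm
          _ = β (γ v₁) (B z) := by rw [SB.right_inv]
      rw [map_sub, LinearMap.sub_apply, h3]
      exact h2
    have h4 : (B ^ (N - 1)) (γ v₁) = γ v₁ := sub_eq_zero.mp h1
    calc B (γ v₁) = B ((B ^ (N - 1)) (γ v₁)) := by rw [h4]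
      _ = γ v₁ := SB.right_inv _
  rw [map_add, map_add, hv₁, hm2, map_add, map_add, hv2]

end Cfsg.Agent.Lib.Helper8.WallInd
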