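import Mathlib
import Cfsg.Prelude.Def_Classical

set_option autoImplicit false

namespace Cfsg.Agent.Lib.Helper8.InvReps

open Matrix Module

section rank

variable {F : Type*} [Field F]

/-- If `M` factors as an injective map after a surjective map through `F^κ`, its rank is the
cardinality of `κ`. -/
theorem rank_eq_card_of_factor {n κ : Type*} [Fintype n] [DecidableEq n] [Fintype κ]
    (M : Matrix n n F) (π : (n → F) →ₗ[F] (κ → F)) (ι : (κ → F) →ₗ[F] (n → F))
    (hπ : Function.Surjective π) (hι : Function.Injective ι) (h : ∀ v, M *ᵥ v = ι (π v)) :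
    M.rank = Fintype.card κ := by
  unfold Matrix.rank
  have e : M.mulVecLin = ι ∘ₗ π := LinearMap.ext fun v => h v
  rw [e, LinearMap.range_comp_of_range_eq_top _ (LinearMap.range_eq_top.mpr hπ),
    LinearMap.finrank_range_of_inj hι, Module.finrank_fintype_fun_eq_card]

end rank

section swap

variable (m : ℕ) (F : Type*) [Field F] (s : ℕ)

/-- The coordinate swap `x_i ↔ y_i` for `i < s`. -/
def swapFun : Fin m ⊕ Fin m → Fin m ⊕ Fin m :=
  Sum.elim (fun i => if i.val < s then Sum.inr i else Sum.inl i)
    (fun i => if i.val < s then Sum.inl i else Sum.inr i)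

theorem swapFun_swapFun (i : Fin m ⊕ Fin m) : swapFun m s (swapFun m s i) = i := by
  rcases i with i | i
  · by_cases h : i.val < s <;> simp [swapFun, h]
  · by_cases h : i.val < s <;> simp [swapFun, h]

/-- The permutation matrix of `swapFun`. -/
def swapM : Matrix (Fin m ⊕ Fin m) (Fin m ⊕ Fin m) F :=
  Matrix.of fun i j => if swapFun m s i = j then 1 else 0

theorem swapM_mulVec (v : Fin m ⊕ Fin m → F) : swapM m F s *ᵥ v = v ∘ swapFun m s := by
  funext i
  simp only [swapM, Matrix.mulVec, dotProduct, Matrix.of_apply, ite_mul, one_mul, zero_mul,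
    Finset.sum_ite_eq, Finset.mem_univ, if_true, Function.comp_apply]

theorem swapM_quad (v : Fin m ⊕ Fin m → F) :
    Cfsg.quadFormPlus m F (swapM m F s *ᵥ v) = Cfsg.quadFormPlus m F v := by
  rw [swapM_mulVec]
  unfold Cfsg.quadFormPlus
  apply Finset.sum_congr rfl
  intro i _
  by_cases h : i.val < s
  · simp [swapFun, h, mul_comm]
  · simp [swapFun, h]

theorem swapM_sq : swapM m F s * swapM m F s = 1 := by
  apply Matrix.mulVec_injective
  funext v
  rw [← Matrix.mulVec_mulVec, swapM_mulVec, swapM_mulVec, Matrix.one_mulVec]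
  funext i
  simp only [Function.comp_apply, swapFun_swapFun]

theorem swapM_rank (hs : s ≤ m) : (swapM m F s - 1).rank = s := by
  classical
  obtain ⟨π, hπ⟩ : ∃ π : (Fin m ⊕ Fin m → F) →ₗ[F] (Fin s → F), ∀ v j,
      π v j = v (Sum.inr (Fin.castLE hs j)) - v (Sum.inl (Fin.castLE hs j)) :=
    ⟨{ toFun := fun v j => v (Sum.inr (Fin.castLE hs j)) - v (Sum.inl (Fin.castLE hs j))
       map_add' := by
        intro v w
        funext j
        simp only [Pi.add_apply]
        ring
       map_smul' := by
        intro c v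
        funext j
        simp only [Pi.smul_apply, smul_eq_mul, RingHom.id_apply]
        ring }, fun v j => rfl⟩
  obtain ⟨ι, hι⟩ : ∃ ι : (Fin s → F) →ₗ[F] (Fin m ⊕ Fin m → F), ∀ w,
      ι w = Sum.elim (fun i => if h : i.val < s then w ⟨i.val, h⟩ else 0)
        (fun i => if h : i.val < s then - w ⟨i.val, h⟩ else 0) :=
    ⟨{ toFun := fun w => Sum.elim (fun i => if h : i.val < s then w ⟨i.val, h⟩ else 0)
        (fun i => if h : i.val < s then - w ⟨i.val, h⟩ else 0)
       map_add' := by
        intro v w
        funext i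
        rcases i with i | i
        · by_cases h : i.val < s <;> simp [h]
        · by_cases h : i.val < s <;> simp [h, add_comm]
       map_smul' := by
        intro c v
        funext i
        rcases i with i | i
        · by_cases h : i.val < s <;> simp [h]
        · by_cases h : i.val < s <;> simp [h] }, fun w => rfl⟩
  have h := rank_eq_card_of_factor (swapM m F s - 1) π ι ?_ ?_ ?_
  · rw [h, Fintype.card_fin]
  · intro w
    refine ⟨Sum.elim 0 (fun i => if h : i.val < s then w ⟨i.val, h⟩ else 0), ?_⟩
    funext j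
    rw [hπ]
    simp
  · intro w w' hww
    funext j
    rw [hι, hι] at hww
    have := congrFun hww (Sum.inl (Fin.castLE hs j))
    simpa using this
  · intro v
    rw [Matrix.sub_mulVec, Matrix.one_mulVec, swapM_mulVec, hι]
    funext i
    rcases i with i | i
    · by_cases h : i.val < s
      · simp [swapFun, h, hπ]
      · simp [swapFun, h]
    · by_cases h : i.val < s
      · simp [swapFun, h, hπ]
      · simp [swapFun, h]

theorem swapM_type (hs1 : 1 ≤ s) (hs : s ≤ m) :
    ∃ v : Fin m ⊕ Fin m → F, Cfsg.quadFormPlus m F (v + swapM m F s *ᵥ v) ≠ 0 := by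
  classical
  have hm : 0 < m := by omega
  have hs0 : 0 < s := hs1
  refine ⟨Pi.single (Sum.inl ⟨0, hm⟩) 1, ?_⟩
  rw [swapM_mulVec]
  unfold Cfsg.quadFormPlus
  rw [Finset.sum_eq_single ⟨0, hm⟩]
  · simp [swapFun, hs0]
  · intro i _ hi
    by_cases h : i.val < s
    · simp [swapFun, h, hi]
    · simp [swapFun, h, hi]
  · intro h
    exact absurd (Finset.mem_univ _) h

end swap

section alt

variable (m : ℕ) (F : Type*) [Field F] (k : ℕ)

/-- The anti-diagonal matrix on the first `2k` coordinates. -/
def antiM : Matrix (Fin m) (Fin m) F :=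
  Matrix.of fun i l => if i.val + l.val + 1 = 2 * k then 1 else 0

theorem antiM_mulVec (hk : 2 * k ≤ m) (x : Fin m → F) (i : Fin m) :
    (antiM m F k *ᵥ x) i = if h : i.val < 2 * k then x ⟨2 * k - 1 - i.val, by omega⟩ else 0 := by
  classical
  simp only [antiM, Matrix.mulVec, dotProduct, Matrix.of_apply, ite_mul, one_mul, zero_mul]
  by_cases h : i.val < 2 * k
  · rw [dif_pos h, Finset.sum_eq_single ⟨2 * k - 1 - i.val, by omega⟩]
    · rw [if_pos]
      simp only
      omega
    · intro l _ hl
      rw [if_neg]
      intro hil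
      apply hl
      apply Fin.ext
      simp only
      omega
    · intro hn
      exact absurd (Finset.mem_univ _) hn
  · rw [dif_neg h]
    apply Finset.sum_eq_zero
    intro l _
    rw [if_neg]
    omega

/-- The anti-diagonal matrix is alternating in characteristic two. -/
theorem antiM_alt (h2 : (2 : F) = 0) (x : Fin m → F) : x ⬝ᵥ antiM m F k *ᵥ x = 0 := by
  classical
  simp only [antiM, Matrix.mulVec, dotProduct, Matrix.of_apply, Finset.mul_sum]
  rw [← Finset.sum_product']
  apply Finset.sum_involution (fun p _ => (p.2, p.1))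
  · intro p _
    simp only
    have e : p.2.val + p.1.val + 1 = 2 * k ↔ p.1.val + p.2.val + 1 = 2 * k := by omega
    by_cases h : p.1.val + p.2.val + 1 = 2 * k
    · rw [if_pos h, if_pos (e.mpr h)]
      linear_combination (x p.1 * x p.2) * h2
    · rw [if_neg h, if_neg (fun h' => h (e.mp h'))]
      ring
  · intro p _ hp hpp
    apply hp
    have h1 : p.2 = p.1 := congrArg Prod.fst hpp
    rw [if_neg]
    · ring
    · rw [h1]
      omega
  · intro p _
    exact Finset.mem_univ _
  · intro p _
    rfl

/-- The alternating-type representative. -/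
def altM : Matrix (Fin m ⊕ Fin m) (Fin m ⊕ Fin m) F :=
  Matrix.fromBlocks 1 0 (antiM m F k) 1

theorem altM_mulVec (v : Fin m ⊕ Fin m → F) :
    altM m F k *ᵥ v = Sum.elim (fun i => v (Sum.inl i))
      (fun i => v (Sum.inr i) + (antiM m F k *ᵥ (fun j => v (Sum.inl j))) i) := by
  have hv : v = Sum.elim (fun i => v (Sum.inl i)) (fun i => v (Sum.inr i)) := by
    funext i
    rcases i with i | i <;> rfl
  conv_lhs => rw [hv]
  rw [altM, Matrix.fromBlocks_mulVec]
  funext i
  rcases i with i | i
  · simp
  · simp [add_comm]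

theorem altM_quad (h2 : (2 : F) = 0) (v : Fin m ⊕ Fin m → F) :
    Cfsg.quadFormPlus m F (altM m F k *ᵥ v) = Cfsg.quadFormPlus m F v := by
  rw [altM_mulVec]
  unfold Cfsg.quadFormPlus
  have h := antiM_alt m F k h2 (fun j => v (Sum.inl j))
  simp only [dotProduct] at h
  simp only [Sum.elim_inl, Sum.elim_inr, mul_add, Finset.sum_add_distrib]
  rw [h, add_zero]

theorem altM_sq (h2 : (2 : F) = 0) : altM m F k * altM m F k = 1 := by
  rw [altM, Matrix.fromBlocks_multiply]
  simp only [Matrix.one_mul, Matrix.mul_one, Matrix.mul_zero, Matrix.zero_mul, add_zero, zero_add]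
  have e : antiM m F k + antiM m F k = 0 := by
    ext i l
    simp only [Matrix.add_apply, Matrix.zero_apply]
    linear_combination (antiM m F k i l) * h2
  rw [e, Matrix.fromBlocks_one]

theorem altM_rank (hk : 2 * k ≤ m) : (altM m F k - 1).rank = 2 * k := by
  classical
  obtain ⟨π, hπ⟩ : ∃ π : (Fin m ⊕ Fin m → F) →ₗ[F] (Fin (2 * k) → F), ∀ v j,
      π v j = v (Sum.inl (Fin.castLE hk j)) :=
    ⟨{ toFun := fun v j => v (Sum.inl (Fin.castLE hk j))
       map_add' := by
        intro v w
        rfl
       map_smul' := by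
        intro c v
        rfl }, fun v j => rfl⟩
  obtain ⟨ι, hι⟩ : ∃ ι : (Fin (2 * k) → F) →ₗ[F] (Fin m ⊕ Fin m → F), ∀ w,
      ι w = Sum.elim (fun _ => 0)
        (fun i => if h : i.val < 2 * k then w ⟨2 * k - 1 - i.val, by omega⟩ else 0) :=
    ⟨{ toFun := fun w => Sum.elim (fun _ => 0)
        (fun i => if h : i.val < 2 * k then w ⟨2 * k - 1 - i.val, by omega⟩ else 0)
       map_add' := by
        intro v w
        funext i
        rcases i with i | i
        · simp
        · by_cases h : i.val < 2 * k <;> simp [h]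
       map_smul' := by
        intro c v
        funext i
        rcases i with i | i
        · simp
        · by_cases h : i.val < 2 * k <;> simp [h] }, fun w => rfl⟩
  have h := rank_eq_card_of_factor (altM m F k - 1) π ι ?_ ?_ ?_
  · rw [h, Fintype.card_fin]
  · intro w
    refine ⟨Sum.elim (fun i => if h : i.val < 2 * k then w ⟨i.val, h⟩ else 0) 0, ?_⟩
    funext j
    rw [hπ]
    simp
  · intro w w' hww
    funext j
    rw [hι, hι] at hww
    have := congrFun hww (Sum.inr ⟨2 * k - 1 - j.val, by omega⟩)
    have hj : 2 * k - 1 - j.val < 2 * k := by omega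
    simp only [Sum.elim_inr, dif_pos hj] at this
    have e : (⟨2 * k - 1 - (2 * k - 1 - j.val), by omega⟩ : Fin (2 * k)) = j := by
      apply Fin.ext
      simp only
      omega
    rw [e] at this
    exact this
  · intro v
    rw [Matrix.sub_mulVec, Matrix.one_mulVec, altM_mulVec, hι]
    funext i
    rcases i with i | i
    · simp
    · simp only [Pi.sub_apply, Sum.elim_inr, add_sub_cancel_left, antiM_mulVec m F k hk]
      by_cases h : i.val < 2 * k
      · rw [dif_pos h, dif_pos h, hπ]
        rfl
      · rw [dif_neg h, dif_neg h]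

theorem altM_type (h2 : (2 : F) = 0) (v : Fin m ⊕ Fin m → F) :
    Cfsg.quadFormPlus m F (v + altM m F k *ᵥ v) = 0 := by
  rw [altM_mulVec]
  unfold Cfsg.quadFormPlus
  apply Finset.sum_eq_zero
  intro i _
  have : v (Sum.inl i) + v (Sum.inl i) = 0 := by linear_combination (v (Sum.inl i)) * h2
  simp only [Pi.add_apply, Sum.elim_inl, this, zero_mul]

end alt

end Cfsg.Agent.Lib.Helper8.InvReps
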