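import Mathlib
import Cfsg.Agent.Lib.Helper8.InvReps

set_option autoImplicit false

namespace Cfsg.Agent.Lib.Helper8.MinusReps

open Matrix Module

section rank

variable {F : Type*} [Field F]

/-- If `M` factors as an injective map after a surjective map through `W`, its rank is the
dimension of `W`. -/
theorem rank_eq_finrank_of_factor {n W : Type*} [Fintype n] [DecidableEq n] [AddCommGroup W]
    [Module F W] (M : Matrix n n F) (π : (n → F) →ₗ[F] W) (ι : W →ₗ[F] (n → F))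
    (hπ : Function.Surjective π) (hι : Function.Injective ι) (h : ∀ v, M *ᵥ v = ι (π v)) :
    M.rank = finrank F W := by
  unfold Matrix.rank
  have e : M.mulVecLin = ι ∘ₗ π := LinearMap.ext fun v => h v
  rw [e, LinearMap.range_comp_of_range_eq_top _ (LinearMap.range_eq_top.mpr hπ),
    LinearMap.finrank_range_of_inj hι]

/-- The rank of a block diagonal matrix is the sum of the ranks of the blocks. -/
theorem rank_fromBlocks_diag {n l : Type*} [Fintype n] [DecidableEq n] [Fintype l]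
    [DecidableEq l] (A : Matrix n n F) (D : Matrix l l F) :
    (Matrix.fromBlocks A 0 0 D).rank = A.rank + D.rank := by
  obtain ⟨π, hπ⟩ : ∃ π : (n ⊕ l → F) →ₗ[F]
      (LinearMap.range A.mulVecLin × LinearMap.range D.mulVecLin), ∀ v,
      π v = (A.mulVecLin.rangeRestrict (fun i => v (Sum.inl i)),
        D.mulVecLin.rangeRestrict (fun j => v (Sum.inr j))) :=
    ⟨(A.mulVecLin.rangeRestrict ∘ₗ LinearMap.funLeft F F Sum.inl).prod
      (D.mulVecLin.rangeRestrict ∘ₗ LinearMap.funLeft F F Sum.inr), fun v => rfl⟩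
  obtain ⟨ι, hι⟩ : ∃ ι : (LinearMap.range A.mulVecLin × LinearMap.range D.mulVecLin) →ₗ[F]
      (n ⊕ l → F), ∀ w, ι w = Sum.elim (w.1 : n → F) (w.2 : l → F) :=
    ⟨{ toFun := fun w => Sum.elim (w.1 : n → F) (w.2 : l → F)
       map_add' := by
        intro v w
        funext i
        rcases i with i | i <;> rfl
       map_smul' := by
        intro c v
        funext i
        rcases i with i | i <;> rfl }, fun w => rfl⟩
  have h := rank_eq_finrank_of_factor (Matrix.fromBlocks A 0 0 D) π ι ?_ ?_ ?_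
  · rw [h, Module.finrank_prod]
    rfl
  · rintro ⟨⟨w₁, v₁, rfl⟩, ⟨w₂, v₂, rfl⟩⟩
    refine ⟨Sum.elim v₁ v₂, ?_⟩
    rw [hπ]
    rfl
  · intro w w' hww
    rw [hι, hι] at hww
    apply Prod.ext
    · apply Subtype.ext
      funext i
      exact congrFun hww (Sum.inl i)
    · apply Subtype.ext
      funext i
      exact congrFun hww (Sum.inr i)
  · intro v
    rw [hι, hπ]
    have hv : v = Sum.elim (fun i => v (Sum.inl i)) (fun i => v (Sum.inr i)) := by
      funext i
      rcases i with i | i <;> rfl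
    conv_lhs => rw [hv]
    rw [Matrix.fromBlocks_mulVec]
    funext i
    rcases i with i | i
    · simp
    · simp

end rank

section blk

variable (k : ℕ) (F : Type*) [Field F]

/-- Block sum of a matrix on the hyperbolic part and a `2 × 2` matrix on the anisotropic
plane. -/
def blk (R : Matrix (Fin k ⊕ Fin k) (Fin k ⊕ Fin k) F) (P : Matrix (Fin 2) (Fin 2) F) :
    Matrix ((Fin k ⊕ Fin k) ⊕ Fin 2) ((Fin k ⊕ Fin k) ⊕ Fin 2) F :=
  Matrix.fromBlocks R 0 0 P

variable {k F}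

theorem blk_mulVec (R : Matrix (Fin k ⊕ Fin k) (Fin k ⊕ Fin k) F) (P : Matrix (Fin 2) (Fin 2) F)
    (v : (Fin k ⊕ Fin k) ⊕ Fin 2 → F) :
    blk k F R P *ᵥ v = Sum.elim (R *ᵥ (fun i => v (Sum.inl i))) (P *ᵥ (fun j => v (Sum.inr j))) := by
  have hv : v = Sum.elim (fun i => v (Sum.inl i)) (fun i => v (Sum.inr i)) := by
    funext i
    rcases i with i | i <;> rfl
  conv_lhs => rw [hv]
  rw [blk, Matrix.fromBlocks_mulVec]
  funext i
  rcases i with i | i
  · simp
  · simp

theorem quadFormMinus_eq (a b : F) (v : (Fin k ⊕ Fin k) ⊕ Fin 2 → F) :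
    Cfsg.quadFormMinus k F a b v = Cfsg.quadFormPlus k F (fun i => v (Sum.inl i)) +
      (v (Sum.inr 0) ^ 2 + a * v (Sum.inr 0) * v (Sum.inr 1) + b * v (Sum.inr 1) ^ 2) := rfl

theorem blk_quad (a b : F) (R : Matrix (Fin k ⊕ Fin k) (Fin k ⊕ Fin k) F)
    (P : Matrix (Fin 2) (Fin 2) F)
    (hR : ∀ w, Cfsg.quadFormPlus k F (R *ᵥ w) = Cfsg.quadFormPlus k F w)
    (hP : ∀ z : Fin 2 → F, (P *ᵥ z) 0 ^ 2 + a * (P *ᵥ z) 0 * (P *ᵥ z) 1 + b * (P *ᵥ z) 1 ^ 2 =
      z 0 ^ 2 + a * z 0 * z 1 + b * z 1 ^ 2) (v : (Fin k ⊕ Fin k) ⊕ Fin 2 → F) :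
    Cfsg.quadFormMinus k F a b (blk k F R P *ᵥ v) = Cfsg.quadFormMinus k F a b v := by
  rw [quadFormMinus_eq, quadFormMinus_eq, blk_mulVec]
  simp only [Sum.elim_inl, Sum.elim_inr]
  rw [hR, hP]

theorem blk_sq (R : Matrix (Fin k ⊕ Fin k) (Fin k ⊕ Fin k) F) (P : Matrix (Fin 2) (Fin 2) F)
    (hR2 : R * R = 1) (hP2 : P * P = 1) : blk k F R P * blk k F R P = 1 := by
  rw [blk, Matrix.fromBlocks_multiply]
  simp only [Matrix.mul_zero, Matrix.zero_mul, add_zero, zero_add, hR2, hP2]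
  exact Matrix.fromBlocks_one

theorem blk_rank (R : Matrix (Fin k ⊕ Fin k) (Fin k ⊕ Fin k) F) (P : Matrix (Fin 2) (Fin 2) F) :
    (blk k F R P - 1).rank = (R - 1).rank + (P - 1).rank := by
  have e : blk k F R P - 1 = Matrix.fromBlocks (R - 1) 0 0 (P - 1) := by
    rw [blk]
    ext i j
    rcases i with i | i <;> rcases j with j | j <;> simp [Matrix.one_apply]
  rw [e, rank_fromBlocks_diag]

/-- The type of a block sum. -/
theorem blk_type (a b : F) (R : Matrix (Fin k ⊕ Fin k) (Fin k ⊕ Fin k) F)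
    (P : Matrix (Fin 2) (Fin 2) F) (v : (Fin k ⊕ Fin k) ⊕ Fin 2 → F) :
    Cfsg.quadFormMinus k F a b (v + blk k F R P *ᵥ v) =
      Cfsg.quadFormPlus k F ((fun i => v (Sum.inl i)) + R *ᵥ (fun i => v (Sum.inl i))) +
      (((fun j => v (Sum.inr j)) + P *ᵥ (fun j => v (Sum.inr j))) 0 ^ 2 +
        a * ((fun j => v (Sum.inr j)) + P *ᵥ (fun j => v (Sum.inr j))) 0 *
          ((fun j => v (Sum.inr j)) + P *ᵥ (fun j => v (Sum.inr j))) 1 +
        b * ((fun j => v (Sum.inr j)) + P *ᵥ (fun j => v (Sum.inr j))) 1 ^ 2) := by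
  rw [quadFormMinus_eq, blk_mulVec]
  rfl

variable (F)

/-- The reflection in the first basis vector of the anisotropic plane. -/
def rho (a : F) : Matrix (Fin 2) (Fin 2) F := !![1, a; 0, 1]

variable {F}

theorem rho_mulVec (a : F) (z : Fin 2 → F) : rho F a *ᵥ z = ![z 0 + a * z 1, z 1] := by
  funext i
  fin_cases i <;> simp [rho, Matrix.mulVec, dotProduct, Fin.sum_univ_two]

theorem rho_sq (h2 : (2 : F) = 0) (a : F) : rho F a * rho F a = 1 := by
  ext i j
  fin_cases i <;> fin_cases j <;> simp [rho, Matrix.mul_apply, Fin.sum_univ_two]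
  linear_combination a * h2

theorem rho_norm (h2 : (2 : F) = 0) (a b : F) (z : Fin 2 → F) :
    (rho F a *ᵥ z) 0 ^ 2 + a * (rho F a *ᵥ z) 0 * (rho F a *ᵥ z) 1 + b * (rho F a *ᵥ z) 1 ^ 2 =
      z 0 ^ 2 + a * z 0 * z 1 + b * z 1 ^ 2 := by
  rw [rho_mulVec]
  simp only [Matrix.cons_val_zero, Matrix.cons_val_one, Matrix.cons_val_fin_one]
  linear_combination (a ^ 2 * z 1 ^ 2 + a * z 0 * z 1) * h2

theorem rho_rank (a : F) (ha : a ≠ 0) : (rho F a - 1).rank = 1 := by
  obtain ⟨π, hπ⟩ : ∃ π : (Fin 2 → F) →ₗ[F] (Fin 1 → F), ∀ z j, π z j = z 1 :=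
    ⟨{ toFun := fun z _ => z 1
       map_add' := by
        intro v w
        rfl
       map_smul' := by
        intro c v
        rfl }, fun z j => rfl⟩
  obtain ⟨ι, hι⟩ : ∃ ι : (Fin 1 → F) →ₗ[F] (Fin 2 → F), ∀ w, ι w = ![a * w 0, 0] :=
    ⟨{ toFun := fun w => ![a * w 0, 0]
       map_add' := by
        intro v w
        funext i
        fin_cases i <;> simp [mul_add]
       map_smul' := by
        intro c v
        funext i
        fin_cases i <;> simp [mul_left_comm] }, fun w => rfl⟩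
  have h := Cfsg.Agent.Lib.Helper8.InvReps.rank_eq_card_of_factor (rho F a - 1) π ι ?_ ?_ ?_
  · rw [h, Fintype.card_fin]
  · intro w
    refine ⟨![0, w 0], ?_⟩
    funext j
    rw [hπ]
    fin_cases j
    simp
  · intro w w' hww
    rw [hι, hι] at hww
    have h0 := congrFun hww 0
    simp only [Matrix.cons_val_zero] at h0
    funext j
    fin_cases j
    exact mul_left_cancel₀ ha h0
  · intro z
    rw [Matrix.sub_mulVec, Matrix.one_mulVec, rho_mulVec, hι, hπ]
    funext i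
    fin_cases i <;> simp

end blk

end Cfsg.Agent.Lib.Helper8.MinusReps
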