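import Mathlib
import Cfsg.Agent.Lib.Helper44.Dickson
import Cfsg.Agent.Lib.Helper44.Char2Forms
import Cfsg.Agent.Lib.Helper14.MaxTS6

set_option autoImplicit false

namespace Cfsg.Agent.Lib.Helper8.OmegaConj

open Matrix Module Cfsg.Agent.Lib.Helper14 Cfsg.Agent.Lib.Helper44

section general

variable {ι : Type} [Fintype ι] [DecidableEq ι] {F : Type*} [Field F] [Fintype F]

theorem mem_commutator_iff_dickson (h2 : (2 : F) = 0) (Q : QuadraticForm F (ι → F))
    (hQ : (QuadraticMap.polarBilin Q).Nondegenerate)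
    (hcard : Fintype.card F ≠ 2 ∨ Fintype.card ι ≠ 4) (g : ↥(Cfsg.isometryGroup F ⇑Q)) :
    g ∈ commutator ↥(Cfsg.isometryGroup F ⇑Q) ↔ dickson ⇑Q g = 1 := by
  rw [mem_commutator_iff_even_rank h2 Q hQ hcard, dickson_eq_one_iff]

/-- An involution (or any isometry) fixing a non-singular vector: conjugacy in `O` implies
conjugacy under `Ω`, in characteristic two. -/
theorem omega_conj_of_fixed (h2 : (2 : F) = 0) (Q : QuadraticForm F (ι → F))
    (hQ : (QuadraticMap.polarBilin Q).Nondegenerate)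
    (hcard : Fintype.card F ≠ 2 ∨ Fintype.card ι ≠ 4)
    (t s g : ↥(Cfsg.isometryGroup F ⇑Q)) (hg : g * t * g⁻¹ = s)
    (v : ι → F) (hv : Q v ≠ 0)
    (htv : ((t : Matrix.GeneralLinearGroup ι F) : Matrix ι ι F) *ᵥ v = v) :
    ∃ g' ∈ commutator ↥(Cfsg.isometryGroup F ⇑Q), g' * t * g'⁻¹ = s := by
  by_cases hgc : g ∈ commutator ↥(Cfsg.isometryGroup F ⇑Q)
  · exact ⟨g, hgc, hg⟩
  · obtain ⟨r, hr⟩ : ∃ r, r = reflElt Q hQ v hv := ⟨_, rfl⟩
    have hcomm : t * r * t⁻¹ = r := by
      rw [hr, conj_reflElt Q hQ t v hv]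
      apply isom_ext
      rw [reflElt_coe, reflElt_coe, htv]
    have hrt : r * t * r⁻¹ = t := by
      rw [mul_inv_eq_iff_eq_mul] at hcomm ⊢
      exact hcomm.symm
    refine ⟨g * r, ?_, ?_⟩
    · rw [mem_commutator_iff_dickson h2 Q hQ hcard,
        dickson_mul Q hQ (exists_eq_prodElt_char2 h2 Q hQ hcard), hr, dickson_reflElt]
      have : dickson ⇑Q g = -1 := by
        rcases Int.units_eq_one_or (dickson ⇑Q g) with h | h
        · exact absurd ((mem_commutator_iff_dickson h2 Q hQ hcard g).mpr h) hgc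
        · exact h
      rw [this]
      rfl
    · rw [← hg, _root_.mul_inv_rev]
      calc g * r * t * (r⁻¹ * g⁻¹) = g * (r * t * r⁻¹) * g⁻¹ := by group
        _ = g * t * g⁻¹ := by rw [hrt]

/-- Function-form version of `omega_conj_of_fixed`. -/
theorem omega_conj_of_fixed_fun (h2 : (2 : F) = 0) (Qf : (ι → F) → F)
    (Q : QuadraticForm F (ι → F)) (hQf : ⇑Q = Qf)
    (hQ : (QuadraticMap.polarBilin Q).Nondegenerate)
    (hcard : Fintype.card F ≠ 2 ∨ Fintype.card ι ≠ 4)
    (t s : ↥(Cfsg.isometryGroup F Qf)) (hconj : IsConj t s)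
    (hfix : ∃ v, Qf v ≠ 0 ∧ ((t : Matrix.GeneralLinearGroup ι F) : Matrix ι ι F) *ᵥ v = v) :
    ∃ g ∈ Cfsg.Omega F Qf, g * t * g⁻¹ = s := by
  subst hQf
  obtain ⟨g, hg⟩ := isConj_iff.mp hconj
  obtain ⟨v, hv, htv⟩ := hfix
  exact omega_conj_of_fixed h2 Q hQ hcard t s g hg v hv htv

omit [Fintype F] in
/-- For an involutory matrix in characteristic two: `im (T - 1) ≤ ker (T - 1)`. -/
theorem sub_one_sq (h2 : (2 : F) = 0) (T : Matrix ι ι F) (hT2 : T * T = 1) :
    (T - 1) * (T - 1) = 0 := by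
  have e : (T - 1) * (T - 1) = T * T - T - T + 1 := by noncomm_ring
  rw [e, hT2]
  ext i j
  simp only [Matrix.add_apply, Matrix.sub_apply, Matrix.zero_apply]
  linear_combination ((1 : Matrix ι ι F) i j - T i j) * h2

omit [Fintype F] in
theorem rank_le_finrank_ker (h2 : (2 : F) = 0) (T : Matrix ι ι F) (hT2 : T * T = 1) :
    (T - 1).rank ≤ finrank F (LinearMap.ker (T - 1).mulVecLin) ∧
      (T - 1).rank + finrank F (LinearMap.ker (T - 1).mulVecLin) = Fintype.card ι := by
  constructor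
  · unfold Matrix.rank
    apply Submodule.finrank_mono
    rintro _ ⟨y, rfl⟩
    rw [LinearMap.mem_ker, Matrix.mulVecLin_apply, Matrix.mulVecLin_apply, Matrix.mulVec_mulVec,
      sub_one_sq h2 T hT2, Matrix.zero_mulVec]
  · have := LinearMap.finrank_range_add_finrank_ker (T - 1).mulVecLin
    rw [Module.finrank_fintype_fun_eq_card] at this
    exact this

end general

section witt

variable {F : Type*} [Field F] {V : Type*} [AddCommGroup V] [Module F V] [FiniteDimensional F V]

/-- A totally singular subspace is no bigger than a maximal totally singular subspace. -/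
theorem finrank_ts_le_of_max (Q : QuadraticForm F V)
    (hQ : (QuadraticMap.polarBilin Q).Nondegenerate) (W₁ W₂ : Submodule F V)
    (h₁ : ∀ w ∈ W₁, Q w = 0) (h₂ : ∀ w ∈ W₂, Q w = 0)
    (hmax₂ : ∀ W : Submodule F V, W₂ ≤ W → (∀ w ∈ W, Q w = 0) → W = W₂) :
    finrank F W₁ ≤ finrank F W₂ := by
  classical
  obtain ⟨B, hB⟩ : ∃ B : LinearMap.BilinForm F V, B = QuadraticMap.polarBilin Q := ⟨_, rfl⟩
  have hBnd : B.Nondegenerate := by rw [hB]; exact hQ
  have Bpolar : ∀ x y, B x y = Q (x + y) - Q x - Q y := fun x y => by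
    simp [hB, QuadraticMap.polar]
  have hsub : W₁ ⊓ B.orthogonal W₂ ≤ W₁ ⊓ W₂ := by
    intro x hx
    obtain ⟨hx1, hx2⟩ := hx
    refine ⟨hx1, ?_⟩
    rw [SetLike.mem_coe, LinearMap.BilinForm.mem_orthogonal_iff] at hx2
    have hW : W₂ ⊔ Submodule.span F {x} = W₂ := by
      apply hmax₂ _ le_sup_left
      intro w hw
      obtain ⟨w2, hw2, y, hy, rfl⟩ := Submodule.mem_sup.mp hw
      obtain ⟨c, rfl⟩ := Submodule.mem_span_singleton.mp hy
      have : Q (w2 + c • x) = Q w2 + Q (c • x) + B w2 (c • x) := by rw [Bpolar]; ring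
      rw [this, h₂ w2 hw2, QuadraticMap.map_smul, h₁ x hx1, map_smul, hx2 w2 hw2]
      simp
    have : x ∈ W₂ ⊔ Submodule.span F {x} :=
      Submodule.mem_sup_right (Submodule.mem_span_singleton_self x)
    rw [hW] at this
    exact this
  have hsup : W₁ ⊔ B.orthogonal W₂ ≤ B.orthogonal (W₁ ⊓ W₂) := by
    apply sup_le
    · intro x hx
      rw [LinearMap.BilinForm.mem_orthogonal_iff]
      intro n hn
      rw [Bpolar, h₁ _ (W₁.add_mem hn.1 hx), h₁ n hn.1, h₁ x hx]; simp
    · exact LinearMap.BilinForm.orthogonal_le inf_le_right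
  have e1 := Submodule.finrank_sup_add_finrank_inf_eq W₁ (B.orthogonal W₂)
  have e2 := LinearMap.BilinForm.finrank_orthogonal hBnd W₂
  have e3 := LinearMap.BilinForm.finrank_orthogonal hBnd (W₁ ⊓ W₂)
  have l1 := Submodule.finrank_mono hsub
  have l2 := Submodule.finrank_mono hsup
  have l3 := Submodule.finrank_le W₂
  have l4 := Submodule.finrank_le (W₁ ⊓ W₂)
  omega

end witt

section minus

variable (k : ℕ) (F : Type*) [Field F]

/-- The coordinates vanishing on the standard maximal totally singular subspace of the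
minus-type form. -/
def minusIdx : Fin k ⊕ Fin 2 → (Fin k ⊕ Fin k) ⊕ Fin 2 :=
  Sum.elim (fun i => Sum.inl (Sum.inr i)) Sum.inr

theorem minusIdx_injective : Function.Injective (minusIdx k) := by
  rintro (i | i) (j | j) h
  · simp only [minusIdx, Sum.elim_inl, Sum.inl.injEq, Sum.inr.injEq] at h
    rw [h]
  · simp [minusIdx] at h
  · simp [minusIdx] at h
  · simp only [minusIdx, Sum.elim_inr, Sum.inr.injEq] at h
    rw [h]

/-- The standard totally singular subspace `{y = 0, z = 0}` of the minus-type form. -/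
abbrev minusE : Submodule F ((Fin k ⊕ Fin k) ⊕ Fin 2 → F) :=
  LinearMap.ker (LinearMap.funLeft F F (minusIdx k))

variable {k F}

theorem mem_minusE {v : (Fin k ⊕ Fin k) ⊕ Fin 2 → F} :
    v ∈ minusE k F ↔ (∀ i, v (Sum.inl (Sum.inr i)) = 0) ∧ ∀ j, v (Sum.inr j) = 0 := by
  rw [LinearMap.mem_ker]
  constructor
  · intro h
    exact ⟨fun i => congrFun h (Sum.inl i), fun j => congrFun h (Sum.inr j)⟩
  · rintro ⟨h1, h2⟩
    funext j
    rcases j with i | j
    · exact h1 i
    · exact h2 j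

variable (k F)

theorem finrank_minusE : finrank F (minusE k F) = k := by
  have h1 := LinearMap.finrank_range_add_finrank_ker (LinearMap.funLeft F F (minusIdx k))
  rw [LinearMap.range_eq_top.mpr
    (LinearMap.funLeft_surjective_of_injective F F _ (minusIdx_injective k)), finrank_top,
    Module.finrank_fintype_fun_eq_card, Module.finrank_fintype_fun_eq_card] at h1
  simp only [Fintype.card_sum, Fintype.card_fin] at h1
  show finrank F ↥(LinearMap.ker (LinearMap.funLeft F F (minusIdx k))) = k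
  omega

/-- Totally singular subspaces of the minus-type form have dimension at most `k`. -/
theorem minus_ts_finrank_le (c d : F)
    (hcd : ∀ z₁ z₂ : F, z₁ ^ 2 + c * z₁ * z₂ + d * z₂ ^ 2 = 0 → z₁ = 0 ∧ z₂ = 0)
    (hQ : (QuadraticMap.polarBilin (minusQF k F c d)).Nondegenerate)
    (U : Submodule F ((Fin k ⊕ Fin k) ⊕ Fin 2 → F))
    (hU : ∀ u ∈ U, Cfsg.quadFormMinus k F c d u = 0) : finrank F U ≤ k := by
  classical
  have hQc := minusQF_coe k F c d
  refine le_of_le_of_eq ?_ (finrank_minusE k F)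
  apply finrank_ts_le_of_max (minusQF k F c d) hQ
  · intro w hw
    rw [hQc]
    exact hU w hw
  · intro w hw
    rw [hQc]
    rw [mem_minusE] at hw
    simp [Cfsg.quadFormMinus, hw.1, hw.2]
  · intro W hW hWts
    apply le_antisymm _ hW
    intro w hw
    have h1 : ∀ i, w (Sum.inl (Sum.inr i)) = 0 := by
      intro i
      have hmem : (Pi.single (Sum.inl (Sum.inl i)) 1 : (Fin k ⊕ Fin k) ⊕ Fin 2 → F) ∈ W := by
        apply hW
        rw [mem_minusE]
        constructor
        · intro j; simp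
        · intro j; simp
      have := polar_eq_zero_of_ts hWts hmem hw
      rw [hQc, minus_polar_inl] at this
      exact this
    have h2 := hWts w hw
    rw [hQc] at h2
    simp only [Cfsg.quadFormMinus, h1, mul_zero, Finset.sum_const_zero, zero_add] at h2
    have h3 := hcd _ _ h2
    rw [mem_minusE]
    refine ⟨h1, ?_⟩
    intro j
    fin_cases j
    · exact h3.1
    · exact h3.2

/-- An involution of the minus-type orthogonal group in characteristic two fixes a
non-singular vector. -/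
theorem minus_exists_fixed [Fintype F] (h2 : (2 : F) = 0) (c d : F)
    (hcd : ∀ z₁ z₂ : F, z₁ ^ 2 + c * z₁ * z₂ + d * z₂ ^ 2 = 0 → z₁ = 0 ∧ z₂ = 0)
    (T : Matrix ((Fin k ⊕ Fin k) ⊕ Fin 2) ((Fin k ⊕ Fin k) ⊕ Fin 2) F) (hT2 : T * T = 1) :
    ∃ v, Cfsg.quadFormMinus k F c d v ≠ 0 ∧ T *ᵥ v = v := by
  by_contra hcon
  push Not at hcon
  have hQ := minusQF_nondegenerate_char2 k F h2 c d hcd
  have hts : ∀ u ∈ LinearMap.ker (T - 1).mulVecLin, Cfsg.quadFormMinus k F c d u = 0 := by
    intro u hu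
    by_contra hne
    apply hcon u hne
    rw [LinearMap.mem_ker, Matrix.mulVecLin_apply, Matrix.sub_mulVec, Matrix.one_mulVec,
      sub_eq_zero] at hu
    exact hu
  have h1 := minus_ts_finrank_le k F c d hcd hQ _ hts
  have h3 := rank_le_finrank_ker h2 T hT2
  simp only [Fintype.card_sum, Fintype.card_fin] at h3
  omega

end minus

section plus

variable (m : ℕ) (F : Type*) [Field F]

/-- An involution of the plus-type orthogonal group in characteristic two fixes a
non-singular vector, unless its commutator space is a maximal totally singular subspace. -/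
theorem plus_exists_fixed (h2 : (2 : F) = 0)
    (T : Matrix (Fin m ⊕ Fin m) (Fin m ⊕ Fin m) F) (hT2 : T * T = 1)
    (hnot : ¬ ((T - 1).rank = m ∧ ∀ v, Cfsg.quadFormPlus m F (v + T *ᵥ v) = 0)) :
    ∃ v, Cfsg.quadFormPlus m F v ≠ 0 ∧ T *ᵥ v = v := by
  by_contra hcon
  push Not at hcon
  have hQc := plusQF_coe m F
  have hts : ∀ u ∈ LinearMap.ker (T - 1).mulVecLin, plusQF m F u = 0 := by
    intro u hu
    rw [hQc]
    by_contra hne
    apply hcon u hne
    rw [LinearMap.mem_ker, Matrix.mulVecLin_apply, Matrix.sub_mulVec, Matrix.one_mulVec,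
      sub_eq_zero] at hu
    exact hu
  have h1 := finrank_le_of_ts (plusQF_nondegenerate m F) (finrank_plus m F) hts
  have h3 := rank_le_finrank_ker h2 T hT2
  simp only [Fintype.card_sum, Fintype.card_fin] at h3
  apply hnot
  refine ⟨by omega, ?_⟩
  intro v
  have e : v + T *ᵥ v = (T - 1) *ᵥ v := by
    rw [Matrix.sub_mulVec, Matrix.one_mulVec]
    funext i
    simp only [Pi.add_apply, Pi.sub_apply]
    linear_combination (v i) * h2
  rw [e, ← hQc]
  apply hts
  rw [LinearMap.mem_ker, Matrix.mulVecLin_apply, Matrix.mulVec_mulVec, sub_one_sq h2 T hT2,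
    Matrix.zero_mulVec]

end plus

section plus2

variable {ι : Type} [Fintype ι] [DecidableEq ι] {F : Type*} [Field F] [Fintype F]

/-- In characteristic two the character attached to a maximal totally singular subspace is the
Dickson invariant. -/
theorem mtsChar_eq_dickson (h2 : (2 : F) = 0) (Q : QuadraticForm F (ι → F))
    (hQ : (QuadraticMap.polarBilin Q).Nondegenerate)
    (hcard : Fintype.card F ≠ 2 ∨ Fintype.card ι ≠ 4) {m : ℕ}
    (hdim : finrank F (ι → F) = 2 * m) {U : Submodule F (ι → F)} (hU : IsMTS Q m U)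
    (g : ↥(Cfsg.isometryGroup F ⇑Q)) : mtsChar hQ hdim hU g = dickson ⇑Q g := by
  obtain ⟨l, hl, rfl⟩ := exists_eq_prodElt_char2 h2 Q hQ hcard g
  rw [mtsChar_prodElt, dickson_prodElt]

/-- Conjugating an involution whose commutator space `W` is a maximal totally singular
subspace: the conjugating element lies in `Ω` iff `W ∩ gW` has even dimension (for even `m`). -/
theorem mts_conj_iff (h2 : (2 : F) = 0) (Qf : (ι → F) → F) (Q : QuadraticForm F (ι → F))
    (hQf : ⇑Q = Qf) (hQ : (QuadraticMap.polarBilin Q).Nondegenerate)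
    (hcard : Fintype.card F ≠ 2 ∨ Fintype.card ι ≠ 4) {m : ℕ}
    (hdim : finrank F (ι → F) = 2 * m)
    (t s g : ↥(Cfsg.isometryGroup F Qf)) (hg : g * t * g⁻¹ = s)
    (hrank : (((t : Matrix.GeneralLinearGroup ι F) : Matrix ι ι F) - 1).rank = m)
    (hts : ∀ v, Qf (v + ((t : Matrix.GeneralLinearGroup ι F) : Matrix ι ι F) *ᵥ v) = 0)
    (hmeven : Even m) :
    g ∈ Cfsg.Omega F Qf ↔ Even (finrank F ↥(LinearMap.range (Matrix.toLin'
      (((t : Matrix.GeneralLinearGroup ι F) : Matrix ι ι F) - 1)) ⊓ LinearMap.range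
      (Matrix.toLin' (((s : Matrix.GeneralLinearGroup ι F) : Matrix ι ι F) - 1)))) := by
  subst hQf
  obtain ⟨T, hT⟩ : ∃ T : Matrix ι ι F, T = ((t : Matrix.GeneralLinearGroup ι F) : Matrix ι ι F) :=
    ⟨_, rfl⟩
  obtain ⟨S, hS⟩ : ∃ S : Matrix ι ι F, S = ((s : Matrix.GeneralLinearGroup ι F) : Matrix ι ι F) :=
    ⟨_, rfl⟩
  obtain ⟨G, hG⟩ : ∃ G : Matrix ι ι F, G = ((g : Matrix.GeneralLinearGroup ι F) : Matrix ι ι F) :=
    ⟨_, rfl⟩
  obtain ⟨Gi, hGi⟩ : ∃ Gi : Matrix ι ι F,
      Gi = (((g : Matrix.GeneralLinearGroup ι F)⁻¹ : Matrix.GeneralLinearGroup ι F) : Matrix ι ι F) :=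
    ⟨_, rfl⟩
  rw [← hT] at hrank hts
  rw [← hT, ← hS]
  have hGGi : G * Gi = 1 := by rw [hG, hGi]; exact Units.mul_inv _
  have hGiG : Gi * G = 1 := by rw [hG, hGi]; exact Units.inv_mul _
  have hS' : S = G * T * Gi := by
    rw [hS, ← hg, hG, hT, hGi]
    rfl
  obtain ⟨W, hWdef⟩ : ∃ W : Submodule F (ι → F), W = LinearMap.range (T - 1).mulVecLin :=
    ⟨_, rfl⟩
  have hW : IsMTS Q m W := by
    constructor
    · rw [hWdef]
      exact hrank
    · intro w hw
      rw [hWdef] at hw
      obtain ⟨v, rfl⟩ := hw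
      have e : (T - 1).mulVecLin v = v + T *ᵥ v := by
        rw [Matrix.mulVecLin_apply, Matrix.sub_mulVec, Matrix.one_mulVec]
        funext i
        simp only [Pi.add_apply, Pi.sub_apply]
        linear_combination (-(v i)) * h2
      rw [e]
      exact hts v
  have hWs : LinearMap.range (S - 1).mulVecLin = W.map G.mulVecLin := by
    have e : S - 1 = G * ((T - 1) * Gi) := by
      rw [hS', Matrix.sub_mul, Matrix.mul_sub, Matrix.one_mul, hGGi, Matrix.mul_assoc]
    have hsurj : LinearMap.range Gi.mulVecLin = ⊤ := by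
      rw [LinearMap.range_eq_top]
      intro x
      exact ⟨G *ᵥ x, by rw [Matrix.mulVecLin_apply, Matrix.mulVec_mulVec, hGiG,
        Matrix.one_mulVec]⟩
    rw [e, Matrix.mulVecLin_mul, Matrix.mulVecLin_mul, LinearMap.range_comp,
      LinearMap.range_comp_of_range_eq_top _ hsurj, hWdef]
  rw [Matrix.toLin'_apply', Matrix.toLin'_apply', hWs, ← hWdef]
  have hmem : g ∈ Cfsg.Omega F ⇑Q ↔ dickson ⇑Q g = 1 := mem_commutator_iff_dickson h2 Q hQ hcard g
  rw [hmem, ← mtsChar_eq_dickson h2 Q hQ hcard hdim hW, mtsChar_eq_one_iff, ← hG]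
  have hle := hW.inf_finrank_le (W := W.map G.mulVecLin)
  rw [Nat.even_sub hle]
  simp [hmeven]

end plus2

end Cfsg.Agent.Lib.Helper8.OmegaConj
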