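import Mathlib
import Cfsg.Agent.S0750

set_option autoImplicit false

namespace Cfsg.Agent.Lib.Helper8.OrthInv

open Matrix

variable {ι : Type} [Fintype ι] [DecidableEq ι] {F : Type*} [Field F] [Finite F]

/-- Two involutions of the isometry group of a quadratic form with non-degenerate polar form
over a finite field which are conjugate under an isometry of the polar form are conjugate under
an isometry of the quadratic form. -/
theorem exists_orth_conj (Q : QuadraticForm F (ι → F))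
    (hQ : (QuadraticMap.polarBilin Q).Nondegenerate)
    (T S : Matrix ι ι F) (g₀ : GL ι F)
    (hT : ∀ v, Q (T *ᵥ v) = Q v) (hS : ∀ v, Q (S *ᵥ v) = Q v) (hS2 : S * S = 1)
    (hg₀ : ∀ u v, QuadraticMap.polar Q ((g₀ : Matrix ι ι F) *ᵥ u) ((g₀ : Matrix ι ι F) *ᵥ v) =
      QuadraticMap.polar Q u v)
    (hconj : (g₀ : Matrix ι ι F) * T = S * (g₀ : Matrix ι ι F)) :
    ∃ g : GL ι F, (∀ v, Q ((g : Matrix ι ι F) *ᵥ v) = Q v) ∧
      (g : Matrix ι ι F) * T = S * (g : Matrix ι ι F) := by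
  classical
  obtain ⟨G0, hG0⟩ : ∃ G0 : Matrix ι ι F, G0 = (g₀ : Matrix ι ι F) := ⟨_, rfl⟩
  obtain ⟨G0i, hG0i⟩ : ∃ G0i : Matrix ι ι F, G0i = ((g₀⁻¹ : GL ι F) : Matrix ι ι F) := ⟨_, rfl⟩
  rw [← hG0] at hg₀ hconj
  have hGG : G0 * G0i = 1 := by
    rw [hG0, hG0i, ← Units.val_mul, mul_inv_cancel, Units.val_one]
  have hGG' : G0i * G0 = 1 := by
    rw [hG0, hG0i, ← Units.val_mul, inv_mul_cancel, Units.val_one]
  have hconj' : ∀ y, G0 *ᵥ ((T - 1) *ᵥ y) = (S - 1) *ᵥ (G0 *ᵥ y) := by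
    intro y
    rw [Matrix.mulVec_mulVec, Matrix.mulVec_mulVec, Matrix.mul_sub, Matrix.sub_mul, hconj,
      Matrix.mul_one, Matrix.one_mul]
  -- `Q` on the commutator space
  have hQN : ∀ u, Q ((S - 1) *ᵥ u) = - QuadraticMap.polar Q u ((S - 1) *ᵥ u) := by
    intro u
    have h := hS u
    have e : S *ᵥ u = u + (S - 1) *ᵥ u := by
      rw [Matrix.sub_mulVec, Matrix.one_mulVec]; abel
    rw [e] at h
    unfold QuadraticMap.polar
    linear_combination h
  have hQNT : ∀ u, Q ((T - 1) *ᵥ u) = - QuadraticMap.polar Q u ((T - 1) *ᵥ u) := by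
    intro u
    have h := hT u
    have e : T *ᵥ u = u + (T - 1) *ᵥ u := by
      rw [Matrix.sub_mulVec, Matrix.one_mulVec]; abel
    rw [e] at h
    unfold QuadraticMap.polar
    linear_combination h
  have hSpol : ∀ x y, QuadraticMap.polar Q (S *ᵥ x) (S *ᵥ y) = QuadraticMap.polar Q x y := by
    intro x y
    unfold QuadraticMap.polar
    rw [← Matrix.mulVec_add, hS, hS, hS]
  have hsa : ∀ x y, QuadraticMap.polar Q ((S - 1) *ᵥ x) y =
      QuadraticMap.polar Q x ((S - 1) *ᵥ y) := by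
    intro x y
    have h1 : QuadraticMap.polar Q (S *ᵥ x) y = QuadraticMap.polar Q x (S *ᵥ y) := by
      have := hSpol x (S *ᵥ y)
      rw [Matrix.mulVec_mulVec, hS2, Matrix.one_mulVec] at this
      exact this
    rw [Matrix.sub_mulVec, Matrix.sub_mulVec, Matrix.one_mulVec, Matrix.one_mulVec,
      QuadraticMap.polar_sub_left, QuadraticMap.polar_sub_right, h1]
  have hinj : Function.Injective G0.mulVecLin := by
    intro x y hxy
    have h : G0 *ᵥ x = G0 *ᵥ y := hxy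
    have := congrArg (fun v => G0i *ᵥ v) h
    simpa [Matrix.mulVec_mulVec, hGG'] using this
  obtain ⟨X, hX⟩ : ∃ X : Submodule F (ι → F), X = LinearMap.range (T - 1).mulVecLin :=
    ⟨_, rfl⟩
  obtain ⟨φ, hφdef⟩ : ∃ φ : X ≃ₗ[F] (X.map G0.mulVecLin),
      φ = Submodule.equivMapOfInjective G0.mulVecLin hinj X := ⟨_, rfl⟩
  have hφv : ∀ x : X, (φ x : ι → F) = G0 *ᵥ (x : ι → F) := by
    intro x
    rw [hφdef, Submodule.coe_equivMapOfInjective_apply]
    rfl
  have hφ : ∀ x : X, Q (φ x : ι → F) = Q (x : ι → F) := by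
    intro x
    have hx : (x : ι → F) ∈ LinearMap.range (T - 1).mulVecLin := by
      rw [← hX]
      exact x.2
    obtain ⟨y, hy⟩ := hx
    rw [hφv, ← hy, Matrix.mulVecLin_apply, hconj', hQN, ← hconj', hg₀, hQNT]
  obtain ⟨g, hg, hgφ⟩ := Cfsg.Agent.S0750.result Q hQ X _ φ hφ
  have hgX : ∀ y, g ((T - 1) *ᵥ y) = G0 *ᵥ ((T - 1) *ᵥ y) := by
    intro y
    have hmem : (T - 1) *ᵥ y ∈ X := by
      rw [hX]
      exact ⟨y, rfl⟩
    have := hgφ ⟨_, hmem⟩
    rw [hφv] at this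
    exact this
  have hgpol : ∀ x y, QuadraticMap.polar Q (g x) (g y) = QuadraticMap.polar Q x y := by
    intro x y
    unfold QuadraticMap.polar
    rw [← map_add, hg, hg, hg]
  have main : ∀ y, g ((T - 1) *ᵥ y) = (S - 1) *ᵥ (g y) := by
    intro y
    rw [hgX y, hconj']
    have h0 : (S - 1) *ᵥ (g y - G0 *ᵥ y) = 0 := by
      apply hQ.2
      intro z
      rw [QuadraticMap.polarBilin_apply_apply, ← hsa]
      obtain ⟨w, hw⟩ : ∃ w, w = (T - 1) *ᵥ (G0i *ᵥ z) := ⟨_, rfl⟩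
      have e1 : (S - 1) *ᵥ z = G0 *ᵥ w := by
        rw [hw, hconj', Matrix.mulVec_mulVec z G0 G0i, hGG, Matrix.one_mulVec]
      have e2 : G0 *ᵥ w = g w := by rw [hw, hgX]
      rw [QuadraticMap.polar_sub_right, e1, hg₀, e2, hgpol, sub_self]
    rw [Matrix.mulVec_sub, sub_eq_zero] at h0
    exact h0.symm
  obtain ⟨G, hGdef⟩ : ∃ G : GL ι F, G = ⟨LinearMap.toMatrix' (g : (ι → F) →ₗ[F] (ι → F)),
      LinearMap.toMatrix' (g.symm : (ι → F) →ₗ[F] (ι → F)),
      by rw [← LinearMap.toMatrix'_comp, LinearEquiv.comp_coe, LinearEquiv.symm_trans_self,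
        LinearEquiv.refl_toLinearMap, LinearMap.toMatrix'_id],
      by rw [← LinearMap.toMatrix'_comp, LinearEquiv.comp_coe, LinearEquiv.self_trans_symm,
        LinearEquiv.refl_toLinearMap, LinearMap.toMatrix'_id]⟩ := ⟨_, rfl⟩
  have hGv : ∀ v, (G : Matrix ι ι F) *ᵥ v = g v := by
    intro v
    rw [hGdef]
    show LinearMap.toMatrix' (g : (ι → F) →ₗ[F] (ι → F)) *ᵥ v = g v
    rw [← Matrix.toLin'_apply, Matrix.toLin'_toMatrix']
    rfl
  refine ⟨G, fun v => by rw [hGv, hg], ?_⟩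
  apply Matrix.mulVec_injective
  funext v
  rw [← Matrix.mulVec_mulVec, ← Matrix.mulVec_mulVec, hGv, hGv]
  have := main v
  rw [Matrix.sub_mulVec, Matrix.sub_mulVec, Matrix.one_mulVec, Matrix.one_mulVec, map_sub] at this
  exact sub_left_injective this

end Cfsg.Agent.Lib.Helper8.OrthInv
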