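import Mathlib
import Cfsg.Agent.Lib.Helper14.Spinor2

set_option autoImplicit false

namespace Cfsg.Agent.Lib.Helper8.ReflClass

open Matrix Module Cfsg.Agent.Lib.Helper14

section general

variable {F : Type*} [Field F] {V : Type*} [AddCommGroup V] [Module F V]

/-- A non-degenerate binary form over a finite field of odd characteristic is universal. -/
theorem exists_binary_eq [Fintype F] (h2 : (2 : F) ≠ 0) {p q b : F} (hp : p ≠ 0)
    (hd : b ^ 2 ≠ 4 * p * q) (c : F) : ∃ α β : F, α ^ 2 * p + α * β * b + β ^ 2 * q = c := by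
  have hF : ringChar F ≠ 2 := by
    intro h
    apply h2
    have := CharP.cast_eq_zero F (ringChar F)
    rw [h] at this
    exact_mod_cast this
  have hodd := FiniteField.odd_card_of_char_ne_two hF
  have h4 : (4 : F) ≠ 0 := by
    have : (4 : F) = 2 * 2 := by norm_num
    rw [this]; exact mul_ne_zero h2 h2
  have hq' : q - b ^ 2 / (4 * p) ≠ 0 := by
    intro h
    apply hd
    field_simp at h
    linear_combination -h
  obtain ⟨s, t, hst⟩ := FiniteField.exists_root_sum_quadratic
    (f := Polynomial.C p * Polynomial.X ^ 2 + Polynomial.C 0 * Polynomial.X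
      + Polynomial.C (-c))
    (g := Polynomial.C (q - b ^ 2 / (4 * p)) * Polynomial.X ^ 2 + Polynomial.C 0 * Polynomial.X
      + Polynomial.C 0)
    (Polynomial.degree_quadratic hp) (Polynomial.degree_quadratic hq') hodd
  simp only [Polynomial.eval_add, Polynomial.eval_mul, Polynomial.eval_C, Polynomial.eval_pow,
    Polynomial.eval_X, zero_mul, add_zero] at hst
  refine ⟨s - t * b / (2 * p), t, ?_⟩
  field_simp
  field_simp at hst
  linear_combination hst

/-- The value of `Q` on a linear combination of two vectors. -/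
theorem quad_comb (Q : QuadraticForm F V) (u w : V) (α β : F) :
    Q (α • u + β • w) = α ^ 2 * Q u + α * β * QuadraticMap.polar ⇑Q u w + β ^ 2 * Q w := by
  rw [QuadraticMap.map_add (⇑Q), QuadraticMap.map_smul, QuadraticMap.map_smul,
    QuadraticMap.polar_smul_left, QuadraticMap.polar_smul_right]
  simp only [smul_eq_mul]
  ring

/-- The product of three coplanar reflections is a reflection. -/
theorem reflLin_three (Q : QuadraticForm F V) (u w : V) (α β : F) (hu : Q u ≠ 0) (hw : Q w ≠ 0)
    (hx : Q (α • u + β • w) ≠ 0) :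
    Q ((α * Q u + β * QuadraticMap.polar ⇑Q u w) • w - (β * Q w) • u) =
        Q u * Q w * Q (α • u + β • w) ∧
    ∀ v, reflLin Q (α • u + β • w) (reflLin Q u (reflLin Q w v)) =
      reflLin Q ((α * Q u + β * QuadraticMap.polar ⇑Q u w) • w - (β * Q w) • u) v := by
  have hy : Q ((α * Q u + β * QuadraticMap.polar ⇑Q u w) • w - (β * Q w) • u) =
        Q u * Q w * Q (α • u + β • w) := by
    rw [quad_comb, quad_sub_smul, QuadraticMap.map_smul, QuadraticMap.polar_smul_left]
    simp only [smul_eq_mul]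
    rw [QuadraticMap.polar_comm (⇑Q) w u]
    ring
  refine ⟨hy, fun v => ?_⟩
  have hy0 : Q ((α * Q u + β * QuadraticMap.polar ⇑Q u w) • w - (β * Q w) • u) ≠ 0 := by
    rw [hy]; exact mul_ne_zero (mul_ne_zero hu hw) hx
  rw [quad_comb] at hx
  simp only [reflLin_apply, hy, quad_comb, QuadraticMap.polar_sub_right,
    QuadraticMap.polar_sub_left, QuadraticMap.polar_add_left,
    QuadraticMap.polar_smul_right, QuadraticMap.polar_smul_left, polar_self_eq, smul_eq_mul,
    QuadraticMap.polar_comm (⇑Q) w u]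
  obtain ⟨N, hN⟩ : ∃ N, N = α ^ 2 * Q u + α * β * QuadraticMap.polar ⇑Q u w + β ^ 2 * Q w :=
    ⟨_, rfl⟩
  rw [← hN] at hx ⊢
  match_scalars
  · field_simp
  · field_simp
    rw [hN]
    ring
  · field_simp
    rw [hN]
    ring

/-- An anisotropic vector in the image of an "orthogonal projection" away from a small
subspace. -/
theorem exists_proj_quad_ne_zero [FiniteDimensional F V] (Q : QuadraticForm F V)
    (hQ : (QuadraticMap.polarBilin Q).Nondegenerate) (P : V →ₗ[F] V) (U : Submodule F V)
    (hPU : ∀ v, ∀ e ∈ U, QuadraticMap.polar ⇑Q (P v) e = 0) (hU : ∀ v, v - P v ∈ U)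
    (hlt : finrank F U < finrank F V) : ∃ v, Q (P v) ≠ 0 := by
  by_contra hcon
  push Not at hcon
  have h1 : ∀ v v', QuadraticMap.polar ⇑Q (P v) (P v') = 0 := by
    intro v v'
    unfold QuadraticMap.polar
    rw [← map_add, hcon, hcon, hcon]
    simp
  have h2 : ∀ v, P v = 0 := by
    intro v
    apply hQ.1
    intro v'
    have e : v' = P v' + (v' - P v') := by abel
    change QuadraticMap.polar ⇑Q (P v) v' = 0
    rw [e, QuadraticMap.polar_add_right, h1, hPU v _ (hU v'), add_zero]
  have h3 : U = ⊤ := by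
    rw [eq_top_iff]
    intro v _
    have := hU v
    rwa [h2, sub_zero] at this
  rw [h3, finrank_top] at hlt
  exact lt_irrefl _ hlt

/-- Connecting two vectors of the same norm spanning a degenerate plane through a third
vector of the same square class. -/
theorem exists_connect [Fintype F] [FiniteDimensional F V] (h2 : (2 : F) ≠ 0)
    (Q : QuadraticForm F V) (hQ : (QuadraticMap.polarBilin Q).Nondegenerate)
    (heven : Even (finrank F V)) (h43 : ¬ (finrank F V = 4 ∧ Fintype.card F = 3)) {u w : V}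
    {κ : F} (hκ : κ ≠ 0) (hu : Q u = κ) (hw : Q w = κ)
    (huw : QuadraticMap.polar ⇑Q u w = 2 * κ) (hne : w ≠ u) :
    ∃ (z : V) (s : F), s ≠ 0 ∧ Q z = s ^ 2 * κ ∧
      QuadraticMap.polar ⇑Q u z ^ 2 ≠ 4 * Q u * Q z ∧
      QuadraticMap.polar ⇑Q z w ^ 2 ≠ 4 * Q z * Q w := by
  have h4 : (4 : F) ≠ 0 := by
    have : (4 : F) = 2 * 2 := by norm_num
    rw [this]; exact mul_ne_zero h2 h2
  obtain ⟨r, hr⟩ : ∃ r, r = w - u := ⟨_, rfl⟩
  have hwr : w = u + r := by rw [hr]; abel
  have hr0 : r ≠ 0 := by rw [hr]; exact sub_ne_zero.mpr hne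
  have hur : QuadraticMap.polar ⇑Q u r = 0 := by
    rw [hr, QuadraticMap.polar_sub_right, huw, polar_self_eq, hu]; ring
  have hQr : Q r = 0 := by
    have e := QuadraticMap.map_add (⇑Q) u r
    rw [← hwr, hw, hu, hur] at e
    linear_combination -e
  obtain ⟨y0, hy0⟩ : ∃ y0, QuadraticMap.polar ⇑Q r y0 ≠ 0 := by
    by_contra hcon
    push Not at hcon
    exact hr0 (hQ.1 r hcon)
  obtain ⟨y, hy⟩ : ∃ y, y = (QuadraticMap.polar ⇑Q r y0)⁻¹ • y0 := ⟨_, rfl⟩
  have hry : QuadraticMap.polar ⇑Q r y = 1 := by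
    rw [hy, QuadraticMap.polar_smul_right, smul_eq_mul, inv_mul_cancel₀ hy0]
  obtain ⟨y1, hy1⟩ : ∃ y1, y1 = y - ((2 * κ)⁻¹ * QuadraticMap.polar ⇑Q u y) • u := ⟨_, rfl⟩
  have huy1 : QuadraticMap.polar ⇑Q u y1 = 0 := by
    rw [hy1, QuadraticMap.polar_sub_right, QuadraticMap.polar_smul_right, polar_self_eq, hu,
      smul_eq_mul]
    field_simp
    ring
  have hry1 : QuadraticMap.polar ⇑Q r y1 = 1 := by
    rw [hy1, QuadraticMap.polar_sub_right, QuadraticMap.polar_smul_right,
      QuadraticMap.polar_comm (⇑Q) r u, hur, hry]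
    simp
  obtain ⟨r', hr'⟩ : ∃ r', r' = y1 - Q y1 • r := ⟨_, rfl⟩
  have hQr' : Q r' = 0 := by
    rw [hr', quad_sub_smul, hQr, QuadraticMap.polar_comm (⇑Q) y1 r, hry1]; ring
  have hur' : QuadraticMap.polar ⇑Q u r' = 0 := by
    rw [hr', QuadraticMap.polar_sub_right, QuadraticMap.polar_smul_right, huy1, hur]; simp
  have hrr' : QuadraticMap.polar ⇑Q r r' = 1 := by
    rw [hr', QuadraticMap.polar_sub_right, QuadraticMap.polar_smul_right, hry1, polar_self_eq,
      hQr]
    simp
  by_cases hs : ∃ s : F, s ≠ 0 ∧ s ^ 2 ≠ 4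
  · obtain ⟨s, hs0, hs4⟩ := hs
    have hQz : Q ((s ^ 2 * κ) • r' + r) = s ^ 2 * κ := by
      rw [QuadraticMap.map_add (⇑Q), QuadraticMap.map_smul, hQr', hQr,
        QuadraticMap.polar_smul_left, QuadraticMap.polar_comm (⇑Q) r' r, hrr']
      simp
    refine ⟨(s ^ 2 * κ) • r' + r, s, hs0, hQz, ?_, ?_⟩
    · rw [QuadraticMap.polar_add_right, QuadraticMap.polar_smul_right, hur', hur, hu, hQz]
      simp only [smul_eq_mul, mul_zero, add_zero, ne_eq]
      intro h
      have : 4 * κ * (s ^ 2 * κ) ≠ 0 :=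
        mul_ne_zero (mul_ne_zero h4 hκ) (mul_ne_zero (pow_ne_zero 2 hs0) hκ)
      apply this
      rw [← h]
      ring
    · rw [hwr, QuadraticMap.polar_add_right, QuadraticMap.polar_add_left,
        QuadraticMap.polar_add_left, QuadraticMap.polar_smul_left, QuadraticMap.polar_smul_left,
        QuadraticMap.polar_comm (⇑Q) r' u, hur', QuadraticMap.polar_comm (⇑Q) r u, hur,
        QuadraticMap.polar_comm (⇑Q) r' r, hrr', polar_self_eq, hQr, hQz, ← hwr, hw]
      simp only [smul_eq_mul, mul_zero, add_zero, mul_one, zero_add]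
      intro h
      apply hs4
      have hne : s ^ 2 * κ ^ 2 ≠ 0 := mul_ne_zero (pow_ne_zero 2 hs0) (pow_ne_zero 2 hκ)
      apply mul_right_cancel₀ hne
      linear_combination h
  · push Not at hs
    have h3 : (3 : F) = 0 := by
      have := hs 1 one_ne_zero
      linear_combination -this
    have hall : ∀ s : F, s = 0 ∨ s = 1 ∨ s = -1 := by
      intro s
      by_cases h0 : s = 0
      · left; exact h0
      · right
        have := hs s h0
        have e : (s - 1) * (s + 1) = 0 := by linear_combination this + h3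
        rcases mul_eq_zero.mp e with h | h
        · left; exact sub_eq_zero.mp h
        · right; exact eq_neg_of_add_eq_zero_left h
    have hcard : Fintype.card F = 3 := by
      classical
      have huniv : (Finset.univ : Finset F) = {0, 1, -1} := by
        ext s
        simp only [Finset.mem_univ, Finset.mem_insert, Finset.mem_singleton, true_iff]
        exact hall s
      rw [← Finset.card_univ, huniv, Finset.card_insert_of_notMem, Finset.card_insert_of_notMem,
        Finset.card_singleton]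
      · simp only [Finset.mem_singleton]
        intro h
        apply h2
        linear_combination h
      · simp only [Finset.mem_insert, Finset.mem_singleton, not_or]
        exact ⟨zero_ne_one, by simp⟩
    have hn4 : finrank F V ≠ 4 := fun h => h43 ⟨h, hcard⟩
    have hli : LinearIndependent F ![u, r, r'] := by
      rw [Fintype.linearIndependent_iff]
      intro g hg
      rw [Fin.sum_univ_three] at hg
      simp only [Matrix.cons_val_zero, Matrix.cons_val_one, Matrix.cons_val_two,
        Matrix.head_cons, Matrix.tail_cons] at hg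
      have e0 : g 0 = 0 := by
        have := congrArg (fun x => QuadraticMap.polar ⇑Q u x) hg
        simp only [QuadraticMap.polar_add_right, QuadraticMap.polar_smul_right, polar_self_eq,
          hur, hur', hu, QuadraticMap.polar_zero_right, smul_eq_mul, mul_zero, add_zero] at this
        rcases mul_eq_zero.mp this with h | h
        · exact h
        · exact absurd h (mul_ne_zero h2 hκ)
      have e2 : g 2 = 0 := by
        have := congrArg (fun x => QuadraticMap.polar ⇑Q r x) hg
        simp only [QuadraticMap.polar_add_right, QuadraticMap.polar_smul_right, polar_self_eq,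
          QuadraticMap.polar_comm (⇑Q) r u, hur, hrr', hQr, QuadraticMap.polar_zero_right,
          smul_eq_mul, mul_zero, add_zero, zero_add, mul_one] at this
        exact this
      have e1 : g 1 = 0 := by
        have := congrArg (fun x => QuadraticMap.polar ⇑Q r' x) hg
        simp only [QuadraticMap.polar_add_right, QuadraticMap.polar_smul_right, polar_self_eq,
          QuadraticMap.polar_comm (⇑Q) r' u, hur', QuadraticMap.polar_comm (⇑Q) r' r, hrr', hQr',
          QuadraticMap.polar_zero_right, smul_eq_mul, mul_zero, add_zero, zero_add, mul_one]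
          at this
        exact this
      intro i
      fin_cases i
      · exact e0
      · exact e1
      · exact e2
    have hn3 : 3 ≤ finrank F V := by simpa using hli.fintype_card_le_finrank
    have hn5 : 5 ≤ finrank F V := by
      obtain ⟨k, hk⟩ := heven
      omega
    -- first anisotropic vector orthogonal to u, r, r'
    obtain ⟨P1, hP1⟩ : ∃ P1 : V →ₗ[F] V, P1 = LinearMap.id
        - (((2 * κ)⁻¹ • QuadraticMap.polarBilin Q u).smulRight u
          + (QuadraticMap.polarBilin Q r').smulRight r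
          + (QuadraticMap.polarBilin Q r).smulRight r') := ⟨_, rfl⟩
    have hP1a : ∀ v, P1 v = v - (((2 * κ)⁻¹ * QuadraticMap.polar ⇑Q u v) • u
        + QuadraticMap.polar ⇑Q r' v • r + QuadraticMap.polar ⇑Q r v • r') := by
      intro v
      rw [hP1]
      simp
    have hP1u : ∀ v, QuadraticMap.polar ⇑Q (P1 v) u = 0 := by
      intro v
      rw [hP1a]
      simp only [QuadraticMap.polar_sub_left, QuadraticMap.polar_add_left,
        QuadraticMap.polar_smul_left, polar_self_eq, hu, QuadraticMap.polar_comm (⇑Q) r u, hur,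
        QuadraticMap.polar_comm (⇑Q) r' u, hur', smul_eq_mul, mul_zero, add_zero,
        QuadraticMap.polar_comm (⇑Q) v u]
      field_simp
      ring
    have hP1r : ∀ v, QuadraticMap.polar ⇑Q (P1 v) r = 0 := by
      intro v
      rw [hP1a]
      simp only [QuadraticMap.polar_sub_left, QuadraticMap.polar_add_left,
        QuadraticMap.polar_smul_left, polar_self_eq, hQr, hur,
        QuadraticMap.polar_comm (⇑Q) r' r, hrr', smul_eq_mul, mul_zero, add_zero, zero_add,
        mul_one, QuadraticMap.polar_comm (⇑Q) v r, sub_self]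
    have hP1r' : ∀ v, QuadraticMap.polar ⇑Q (P1 v) r' = 0 := by
      intro v
      rw [hP1a]
      simp only [QuadraticMap.polar_sub_left, QuadraticMap.polar_add_left,
        QuadraticMap.polar_smul_left, polar_self_eq, hQr', hur', hrr', smul_eq_mul, mul_zero,
        add_zero, zero_add, mul_one, QuadraticMap.polar_comm (⇑Q) v r', sub_self]
    obtain ⟨v1, hv1⟩ := exists_proj_quad_ne_zero Q hQ P1 (Submodule.span F {u, r, r'})
      (by
        intro v e he
        have hle : Submodule.span F {u, r, r'} ≤ LinearMap.ker (QuadraticMap.polarBilin Q (P1 v)) := by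
          rw [Submodule.span_le]
          intro e he
          simp only [Set.mem_insert_iff, Set.mem_singleton_iff] at he
          rcases he with rfl | rfl | rfl
          · exact hP1u v
          · exact hP1r v
          · exact hP1r' v
        exact hle he)
      (by
        intro v
        rw [hP1a, sub_sub_cancel]
        refine Submodule.add_mem _ (Submodule.add_mem _ ?_ ?_) ?_
        · exact Submodule.smul_mem _ _ (Submodule.subset_span (by simp))
        · exact Submodule.smul_mem _ _ (Submodule.subset_span (by simp))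
        · exact Submodule.smul_mem _ _ (Submodule.subset_span (by simp)))
      (by
        classical
        have := finrank_span_finset_le_card (R := F) ({u, r, r'} : Finset V)
        have h3' : ({u, r, r'} : Finset V).card ≤ 3 := Finset.card_le_three
        have hcoe : ((({u, r, r'} : Finset V)) : Set V) = {u, r, r'} := by simp
        rw [hcoe] at this
        unfold Set.finrank at this
        omega)
    obtain ⟨x1, hx1⟩ : ∃ x1, x1 = P1 v1 := ⟨_, rfl⟩
    rw [← hx1] at hv1
    have hx1u : QuadraticMap.polar ⇑Q x1 u = 0 := by rw [hx1]; exact hP1u v1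
    have hx1r : QuadraticMap.polar ⇑Q x1 r = 0 := by rw [hx1]; exact hP1r v1
    have hx1r' : QuadraticMap.polar ⇑Q x1 r' = 0 := by rw [hx1]; exact hP1r' v1
    -- second anisotropic vector
    obtain ⟨P2, hP2⟩ : ∃ P2 : V →ₗ[F] V, P2 = P1
        - (((2 * Q x1)⁻¹ • QuadraticMap.polarBilin Q x1).smulRight x1) ∘ₗ P1 := ⟨_, rfl⟩
    have hP2a : ∀ v, P2 v = P1 v - ((2 * Q x1)⁻¹ * QuadraticMap.polar ⇑Q x1 (P1 v)) • x1 := by
      intro v
      rw [hP2]
      simp
    have hP2u : ∀ v, QuadraticMap.polar ⇑Q (P2 v) u = 0 := by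
      intro v
      rw [hP2a, QuadraticMap.polar_sub_left, QuadraticMap.polar_smul_left, hP1u, hx1u]
      simp
    have hP2r : ∀ v, QuadraticMap.polar ⇑Q (P2 v) r = 0 := by
      intro v
      rw [hP2a, QuadraticMap.polar_sub_left, QuadraticMap.polar_smul_left, hP1r, hx1r]
      simp
    have hP2r' : ∀ v, QuadraticMap.polar ⇑Q (P2 v) r' = 0 := by
      intro v
      rw [hP2a, QuadraticMap.polar_sub_left, QuadraticMap.polar_smul_left, hP1r', hx1r']
      simp
    have hP2x : ∀ v, QuadraticMap.polar ⇑Q (P2 v) x1 = 0 := by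
      intro v
      rw [hP2a, QuadraticMap.polar_sub_left, QuadraticMap.polar_smul_left, polar_self_eq,
        QuadraticMap.polar_comm (⇑Q) x1 (P1 v), smul_eq_mul]
      field_simp
      ring
    obtain ⟨v2, hv2⟩ := exists_proj_quad_ne_zero Q hQ P2 (Submodule.span F {u, r, r', x1})
      (by
        intro v e he
        have hle : Submodule.span F {u, r, r', x1} ≤
            LinearMap.ker (QuadraticMap.polarBilin Q (P2 v)) := by
          rw [Submodule.span_le]
          intro e he
          simp only [Set.mem_insert_iff, Set.mem_singleton_iff] at he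
          rcases he with rfl | rfl | rfl | rfl
          · exact hP2u v
          · exact hP2r v
          · exact hP2r' v
          · exact hP2x v
        exact hle he)
      (by
        intro v
        have e : v - P2 v = (((2 * κ)⁻¹ * QuadraticMap.polar ⇑Q u v) • u
            + QuadraticMap.polar ⇑Q r' v • r + QuadraticMap.polar ⇑Q r v • r')
            + ((2 * Q x1)⁻¹ * QuadraticMap.polar ⇑Q x1 (P1 v)) • x1 := by
          rw [hP2a, hP1a]
          abel
        rw [e]
        refine Submodule.add_mem _ (Submodule.add_mem _ (Submodule.add_mem _ ?_ ?_) ?_) ?_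
        · exact Submodule.smul_mem _ _ (Submodule.subset_span (by simp))
        · exact Submodule.smul_mem _ _ (Submodule.subset_span (by simp))
        · exact Submodule.smul_mem _ _ (Submodule.subset_span (by simp))
        · exact Submodule.smul_mem _ _ (Submodule.subset_span (by simp)))
      (by
        classical
        have := finrank_span_finset_le_card (R := F) ({u, r, r', x1} : Finset V)
        have h4' : ({u, r, r', x1} : Finset V).card ≤ 4 := Finset.card_le_four
        have hcoe : ((({u, r, r', x1} : Finset V)) : Set V) = {u, r, r', x1} := by simp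
        rw [hcoe] at this
        unfold Set.finrank at this
        omega)
    obtain ⟨x2, hx2⟩ : ∃ x2, x2 = P2 v2 := ⟨_, rfl⟩
    rw [← hx2] at hv2
    have hx2u : QuadraticMap.polar ⇑Q x2 u = 0 := by rw [hx2]; exact hP2u v2
    have hx2r : QuadraticMap.polar ⇑Q x2 r = 0 := by rw [hx2]; exact hP2r v2
    have hx2x : QuadraticMap.polar ⇑Q x2 x1 = 0 := by rw [hx2]; exact hP2x v2
    obtain ⟨α, β, hαβ⟩ := exists_binary_eq h2 (p := Q x1) (q := Q x2) (b := 0) hv1
      (by
        intro h
        have : 4 * Q x1 * Q x2 ≠ 0 := mul_ne_zero (mul_ne_zero h4 hv1) hv2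
        apply this
        rw [← h]; ring) κ
    have hQz : Q (α • x1 + β • x2) = κ := by
      rw [quad_comb, QuadraticMap.polar_comm (⇑Q) x1 x2, hx2x]
      linear_combination hαβ
    have hκ4 : 4 * κ * κ ≠ 0 := mul_ne_zero (mul_ne_zero h4 hκ) hκ
    refine ⟨α • x1 + β • x2, 1, one_ne_zero, by rw [hQz]; ring, ?_, ?_⟩
    · rw [QuadraticMap.polar_add_right, QuadraticMap.polar_smul_right,
        QuadraticMap.polar_smul_right, QuadraticMap.polar_comm (⇑Q) u x1, hx1u,
        QuadraticMap.polar_comm (⇑Q) u x2, hx2u, hu, hQz]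
      simp only [smul_eq_mul, mul_zero, add_zero, ne_eq]
      intro h
      apply hκ4
      rw [← h]; ring
    · rw [hwr, QuadraticMap.polar_add_right, QuadraticMap.polar_add_left,
        QuadraticMap.polar_add_left, QuadraticMap.polar_smul_left, QuadraticMap.polar_smul_left,
        QuadraticMap.polar_smul_left, QuadraticMap.polar_smul_left, hx1u, hx2u, hx1r, hx2r,
        hQz, ← hwr, hw]
      simp only [smul_eq_mul, mul_zero, add_zero, ne_eq]
      intro h
      apply hκ4
      rw [← h]; ring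


end general

section group

variable {ι : Type} [Fintype ι] [DecidableEq ι] {F : Type*} [Field F]

theorem reflMat_mulVec_eq (Q : QuadraticForm F (ι → F)) (a v : ι → F) :
    Cfsg.reflectionMatrix ⇑Q a *ᵥ v = reflLin Q a v := by
  rw [← Matrix.mulVecLin_apply, reflectionMatrix_mulVecLin]

theorem reflElt_mul_self (Q : QuadraticForm F (ι → F))
    (hQ : (QuadraticMap.polarBilin Q).Nondegenerate) (v : ι → F) (hv : Q v ≠ 0) :
    reflElt Q hQ v hv * reflElt Q hQ v hv = 1 := by
  apply isom_ext
  simp only [Subgroup.coe_mul, Units.val_mul, reflElt, mkIsom_coe, Subgroup.coe_one,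
    Units.val_one]
  exact reflectionMatrix_mul_self Q hv

theorem reflElt_smul (Q : QuadraticForm F (ι → F))
    (hQ : (QuadraticMap.polarBilin Q).Nondegenerate) (v : ι → F) (hv : Q v ≠ 0) {s : F}
    (hs : s ≠ 0) (hsv : Q (s • v) ≠ 0) : reflElt Q hQ (s • v) hsv = reflElt Q hQ v hv :=
  isom_ext (reflectionMatrix_smul Q v hs)

theorem reflElt_eq_of_coe (Q : QuadraticForm F (ι → F))
    (hQ : (QuadraticMap.polarBilin Q).Nondegenerate) (v : ι → F) (hv : Q v ≠ 0)
    (g : ↥(Cfsg.isometryGroup F ⇑Q))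
    (hg : ((g : Matrix.GeneralLinearGroup ι F) : Matrix ι ι F) = Cfsg.reflectionMatrix ⇑Q v) :
    g = reflElt Q hQ v hv :=
  isom_ext hg

/-- Conjugating a reflection by a reflection. -/
theorem reflElt_conj_refl (Q : QuadraticForm F (ι → F))
    (hQ : (QuadraticMap.polarBilin Q).Nondegenerate) (u a : ι → F) (hu : Q u ≠ 0) (ha : Q a ≠ 0)
    (ha' : Q (Cfsg.reflectionMatrix ⇑Q u *ᵥ a) ≠ 0) :
    reflElt Q hQ u hu * reflElt Q hQ a ha * reflElt Q hQ u hu =
      reflElt Q hQ (Cfsg.reflectionMatrix ⇑Q u *ᵥ a) ha' := by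
  apply isom_ext
  simp only [Subgroup.coe_mul, Units.val_mul, reflElt, mkIsom_coe]
  rw [refl_conj_matrix Q _ (reflectionMatrix_isometry Q hu) a, mul_assoc,
    reflectionMatrix_mul_self Q hu, mul_one]

/-- The product of three coplanar reflections, as group elements. -/
theorem reflElt_three (Q : QuadraticForm F (ι → F))
    (hQ : (QuadraticMap.polarBilin Q).Nondegenerate) (u w : ι → F) (α β : F) (hu : Q u ≠ 0)
    (hw : Q w ≠ 0) (hx : Q (α • u + β • w) ≠ 0)
    (hy : Q ((α * Q u + β * QuadraticMap.polar ⇑Q u w) • w - (β * Q w) • u) ≠ 0) :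
    reflElt Q hQ u hu * reflElt Q hQ w hw = reflElt Q hQ (α • u + β • w) hx *
      reflElt Q hQ ((α * Q u + β * QuadraticMap.polar ⇑Q u w) • w - (β * Q w) • u) hy := by
  have h3 : reflElt Q hQ (α • u + β • w) hx * (reflElt Q hQ u hu * reflElt Q hQ w hw) =
      reflElt Q hQ ((α * Q u + β * QuadraticMap.polar ⇑Q u w) • w - (β * Q w) • u) hy := by
    apply isom_ext
    simp only [Subgroup.coe_mul, Units.val_mul, reflElt, mkIsom_coe]
    rw [ext_iff_mulVec]
    intro v
    rw [← mulVec_mulVec, ← mulVec_mulVec, reflMat_mulVec_eq, reflMat_mulVec_eq,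
      reflMat_mulVec_eq, reflMat_mulVec_eq]
    exact (reflLin_three Q u w α β hu hw hx).2 v
  rw [← h3, ← mul_assoc, reflElt_mul_self, one_mul]

variable [Fintype F]

/-- Two reflections whose vectors span a non-degenerate plane and have norms in the same
square class: the product lies in any subgroup containing the reflections of a fixed class. -/
theorem refl_mul_refl_mem_of_plane (h2 : (2 : F) ≠ 0) (Q : QuadraticForm F (ι → F))
    (hQ : (QuadraticMap.polarBilin Q).Nondegenerate) {c : F} (hc : c ≠ 0)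
    (H : Subgroup ↥(Cfsg.isometryGroup F ⇑Q))
    (hH : ∀ v (hv : Q v ≠ 0), (∃ t : F, t ≠ 0 ∧ Q v = c * t ^ 2) → reflElt Q hQ v hv ∈ H)
    {u w : ι → F} (hu : Q u ≠ 0) (hw : Q w ≠ 0) (hsq : ∃ t : F, t ≠ 0 ∧ Q u * Q w = t ^ 2)
    (hd : QuadraticMap.polar ⇑Q u w ^ 2 ≠ 4 * Q u * Q w) :
    reflElt Q hQ u hu * reflElt Q hQ w hw ∈ H := by
  obtain ⟨α, β, hαβ⟩ := exists_binary_eq h2 hu hd c
  obtain ⟨t, ht0, ht⟩ := hsq
  have hQx : Q (α • u + β • w) = c := by rw [quad_comb]; exact hαβ
  have hx : Q (α • u + β • w) ≠ 0 := by rw [hQx]; exact hc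
  have hQy := (reflLin_three Q u w α β hu hw hx).1
  have hy : Q ((α * Q u + β * QuadraticMap.polar ⇑Q u w) • w - (β * Q w) • u) ≠ 0 := by
    rw [hQy]; exact mul_ne_zero (mul_ne_zero hu hw) hx
  rw [reflElt_three Q hQ u w α β hu hw hx hy]
  refine H.mul_mem (hH _ hx ⟨1, one_ne_zero, by rw [hQx]; ring⟩) (hH _ hy ⟨t, ht0, ?_⟩)
  rw [hQy, hQx, ht]
  ring

/-- The product of two reflections with norms in the same square class lies in any subgroup
containing the reflections of a fixed class (equal norms, polar value `2κ`). -/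
theorem refl_mul_refl_mem_aux (h2 : (2 : F) ≠ 0) (Q : QuadraticForm F (ι → F))
    (hQ : (QuadraticMap.polarBilin Q).Nondegenerate) (heven : Even (Fintype.card ι))
    (h43 : ¬ (Fintype.card ι = 4 ∧ Fintype.card F = 3)) {c : F} (hc : c ≠ 0)
    (H : Subgroup ↥(Cfsg.isometryGroup F ⇑Q))
    (hH : ∀ v (hv : Q v ≠ 0), (∃ t : F, t ≠ 0 ∧ Q v = c * t ^ 2) → reflElt Q hQ v hv ∈ H)
    {u w : ι → F} {κ : F} (hκ : κ ≠ 0) (hu : Q u = κ) (hw : Q w = κ)
    (huw : QuadraticMap.polar ⇑Q u w = 2 * κ) :
    reflElt Q hQ u (by rw [hu]; exact hκ) * reflElt Q hQ w (by rw [hw]; exact hκ) ∈ H := by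
  by_cases hne : w = u
  · subst hne
    rw [reflElt_mul_self]
    exact H.one_mem
  · have hfr : finrank F (ι → F) = Fintype.card ι := Module.finrank_fintype_fun_eq_card F
    obtain ⟨z, s, hs0, hQz, hd1, hd2⟩ := exists_connect h2 Q hQ (by rw [hfr]; exact heven)
      (by rw [hfr]; exact h43) hκ hu hw huw hne
    have hu' : Q u ≠ 0 := by rw [hu]; exact hκ
    have hw' : Q w ≠ 0 := by rw [hw]; exact hκ
    have hz' : Q z ≠ 0 := by rw [hQz]; exact mul_ne_zero (pow_ne_zero 2 hs0) hκ
    have h1 := refl_mul_refl_mem_of_plane h2 Q hQ hc H hH hu' hz'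
      ⟨s * κ, mul_ne_zero hs0 hκ, by rw [hu, hQz]; ring⟩ hd1
    have h2' := refl_mul_refl_mem_of_plane h2 Q hQ hc H hH hz' hw'
      ⟨s * κ, mul_ne_zero hs0 hκ, by rw [hw, hQz]; ring⟩ hd2
    have e : reflElt Q hQ u hu' * reflElt Q hQ w hw' =
        (reflElt Q hQ u hu' * reflElt Q hQ z hz') * (reflElt Q hQ z hz' * reflElt Q hQ w hw') := by
      rw [mul_assoc, ← mul_assoc (reflElt Q hQ z hz'), reflElt_mul_self, one_mul]
    rw [e]
    exact H.mul_mem h1 h2'

/-- The product of two reflections with norms in the same square class lies in any subgroup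
containing the reflections of a fixed class. -/
theorem refl_mul_refl_mem (h2 : (2 : F) ≠ 0) (Q : QuadraticForm F (ι → F))
    (hQ : (QuadraticMap.polarBilin Q).Nondegenerate) (heven : Even (Fintype.card ι))
    (h43 : ¬ (Fintype.card ι = 4 ∧ Fintype.card F = 3)) {c : F} (hc : c ≠ 0)
    (H : Subgroup ↥(Cfsg.isometryGroup F ⇑Q))
    (hH : ∀ v (hv : Q v ≠ 0), (∃ t : F, t ≠ 0 ∧ Q v = c * t ^ 2) → reflElt Q hQ v hv ∈ H)
    {u w : ι → F} (hu : Q u ≠ 0) (hw : Q w ≠ 0) (hsq : ∃ t : F, t ≠ 0 ∧ Q w = t ^ 2 * Q u) :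
    reflElt Q hQ u hu * reflElt Q hQ w hw ∈ H := by
  obtain ⟨t, ht0, ht⟩ := hsq
  have h4 : (4 : F) ≠ 0 := by
    have : (4 : F) = 2 * 2 := by norm_num
    rw [this]; exact mul_ne_zero h2 h2
  -- normalise `w`
  have hw1 : Q (t⁻¹ • w) = Q u := by
    rw [QuadraticMap.map_smul, ht, smul_eq_mul]
    field_simp
  have hw1' : Q (t⁻¹ • w) ≠ 0 := by rw [hw1]; exact hu
  rw [← reflElt_smul Q hQ w hw (inv_ne_zero ht0) hw1']
  obtain ⟨w1, hw1def⟩ : ∃ w1, w1 = t⁻¹ • w := ⟨_, rfl⟩
  simp only [← hw1def] at hw1 hw1' ⊢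
  by_cases hd : QuadraticMap.polar ⇑Q u w1 ^ 2 = 4 * Q u * Q w1
  · have e : (QuadraticMap.polar ⇑Q u w1 - 2 * Q u) * (QuadraticMap.polar ⇑Q u w1 + 2 * Q u) = 0 := by
      rw [hw1] at hd
      linear_combination hd
    rcases mul_eq_zero.mp e with h | h
    · exact refl_mul_refl_mem_aux h2 Q hQ heven h43 hc H hH hu rfl hw1 (sub_eq_zero.mp h)
    · have hn1 : Q ((-1 : F) • w1) = Q u := by
        rw [QuadraticMap.map_smul, hw1]; simp
      have hn1' : Q ((-1 : F) • w1) ≠ 0 := by rw [hn1]; exact hu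
      rw [← reflElt_smul Q hQ w1 hw1' (neg_ne_zero.mpr one_ne_zero) hn1']
      refine refl_mul_refl_mem_aux h2 Q hQ heven h43 hc H hH hu rfl hn1 ?_
      rw [QuadraticMap.polar_smul_right, smul_eq_mul]
      linear_combination -h
  · exact refl_mul_refl_mem_of_plane h2 Q hQ hc H hH hu hw1'
      ⟨Q u, hu, by rw [hw1]; ring⟩ hd

/-- The reflections with norm in a fixed square class generate a subgroup of index 2. -/
theorem index_closure_refl_class (h2 : (2 : F) ≠ 0) (Q : QuadraticForm F (ι → F))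
    (hQ : (QuadraticMap.polarBilin Q).Nondegenerate) (hn : 2 ≤ Fintype.card ι)
    (heven : Even (Fintype.card ι)) (h43 : ¬ (Fintype.card ι = 4 ∧ Fintype.card F = 3))
    (c : F) (hc : c ≠ 0) :
    (Subgroup.closure {g : ↥(Cfsg.isometryGroup F ⇑Q) | ∃ (v : ι → F) (t : F), t ≠ 0 ∧
      Q v = c * t ^ 2 ∧ ((g : Matrix.GeneralLinearGroup ι F) : Matrix ι ι F) =
        Cfsg.reflectionMatrix ⇑Q v}).index = 2 := by
  obtain ⟨b, hb⟩ := exists_not_isSquare h2
  have hb0 : b ≠ 0 := fun h => hb ⟨0, by simp [h]⟩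
  have hbc : b * c ≠ 0 := mul_ne_zero hb0 hc
  obtain ⟨H, hHdef⟩ : ∃ H : Subgroup ↥(Cfsg.isometryGroup F ⇑Q), H =
      Subgroup.closure {g : ↥(Cfsg.isometryGroup F ⇑Q) | ∃ (v : ι → F) (t : F), t ≠ 0 ∧
      Q v = c * t ^ 2 ∧ ((g : Matrix.GeneralLinearGroup ι F) : Matrix ι ι F) =
        Cfsg.reflectionMatrix ⇑Q v} := ⟨_, rfl⟩
  rw [← hHdef]
  obtain ⟨χ, hχ⟩ : ∃ χ : ↥(Cfsg.isometryGroup F ⇑Q) →* ℤˣ, χ = signChar (⇑Q) (b * c) :=
    ⟨_, rfl⟩
  have hH : ∀ v (hv : Q v ≠ 0), (∃ t : F, t ≠ 0 ∧ Q v = c * t ^ 2) →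
      reflElt Q hQ v hv ∈ H := by
    intro v hv ⟨t, ht0, ht⟩
    rw [hHdef]
    exact Subgroup.subset_closure ⟨v, t, ht0, ht, rfl⟩
  have hχc : ∀ v (hv : Q v ≠ 0), (∃ t : F, t ≠ 0 ∧ Q v = c * t ^ 2) →
      χ (reflElt Q hQ v hv) = 1 := by
    intro v hv ⟨t, ht0, ht⟩
    rw [hχ]
    apply (signChar_reflElt h2 Q hQ hbc v hv).2
    rw [ht]
    have e : b * c * (c * t ^ 2) = (c * t) * (c * t) * b := by ring
    rw [e]
    exact not_isSquare_mul_of_isSquare ⟨c * t, rfl⟩
      (mul_ne_zero (mul_ne_zero hc ht0) (mul_ne_zero hc ht0)) hb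
  have hχc' : ∀ v (hv : Q v ≠ 0), (∃ t : F, t ≠ 0 ∧ Q v = b * c * t ^ 2) →
      χ (reflElt Q hQ v hv) = -1 := by
    intro v hv ⟨t, ht0, ht⟩
    rw [hχ]
    apply (signChar_reflElt h2 Q hQ hbc v hv).1
    rw [ht]
    exact ⟨b * c * t, by ring⟩
  have hdich : ∀ v, Q v ≠ 0 → (∃ t : F, t ≠ 0 ∧ Q v = c * t ^ 2) ∨
      (∃ t : F, t ≠ 0 ∧ Q v = b * c * t ^ 2) := by
    intro v hv
    by_cases hsq : IsSquare (c * Q v)
    · left
      obtain ⟨m, hm⟩ := hsq
      have hm0 : m ≠ 0 := by
        rintro rfl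
        rw [mul_zero] at hm
        exact mul_ne_zero hc hv hm
      refine ⟨m / c, div_ne_zero hm0 hc, ?_⟩
      field_simp
      linear_combination hm
    · right
      obtain ⟨m, hm⟩ := isSquare_mul_of_not_isSquare hb hsq
      have hm0 : m ≠ 0 := by
        rintro rfl
        rw [mul_zero] at hm
        exact mul_ne_zero hb0 (mul_ne_zero hc hv) hm
      refine ⟨m / (b * c), div_ne_zero hm0 hbc, ?_⟩
      field_simp
      linear_combination hm
  have hle : H ≤ χ.ker := by
    rw [hHdef, Subgroup.closure_le]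
    rintro g ⟨v, t, ht0, ht, hg⟩
    have hv : Q v ≠ 0 := by rw [ht]; exact mul_ne_zero hc (pow_ne_zero 2 ht0)
    rw [reflElt_eq_of_coe Q hQ v hv g hg]
    exact MonoidHom.mem_ker.mpr (hχc v hv ⟨t, ht0, ht⟩)
  have hclaim : ∀ (l : List (ι → F)) (hl : ∀ u ∈ l, Q u ≠ 0), prodElt Q hQ l hl ∈ H ∨
      ∀ u (hu : Q u ≠ 0), (∃ t : F, t ≠ 0 ∧ Q u = b * c * t ^ 2) →
        reflElt Q hQ u hu * prodElt Q hQ l hl ∈ H := by
    intro l
    induction l with
    | nil =>
      intro hl
      left
      rw [prodElt_nil]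
      exact H.one_mem
    | cons a l ih =>
      intro hl
      have ha : Q a ≠ 0 := hl a (List.mem_cons_self ..)
      have hl' : ∀ u ∈ l, Q u ≠ 0 := fun u hu => hl u (List.mem_cons_of_mem _ hu)
      have e0 := prodElt_cons Q hQ a l hl
      rw [e0]
      rcases hdich a ha with hac | hac
      · rcases ih hl' with h | h
        · left
          exact H.mul_mem (hH a ha hac) h
        · right
          intro u hu huc
          have ha' : Q (Cfsg.reflectionMatrix ⇑Q u *ᵥ a) ≠ 0 := by
            rw [reflectionMatrix_isometry Q hu]; exact ha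
          have e : reflElt Q hQ u hu * (reflElt Q hQ a ha * prodElt Q hQ l hl') =
              (reflElt Q hQ u hu * reflElt Q hQ a ha * reflElt Q hQ u hu) *
                (reflElt Q hQ u hu * prodElt Q hQ l hl') := by
            have e1 := reflElt_mul_self Q hQ u hu
            calc reflElt Q hQ u hu * (reflElt Q hQ a ha * prodElt Q hQ l hl')
                = reflElt Q hQ u hu * reflElt Q hQ a ha * 1 * prodElt Q hQ l hl' := by group
              _ = reflElt Q hQ u hu * reflElt Q hQ a ha *
                    (reflElt Q hQ u hu * reflElt Q hQ u hu) * prodElt Q hQ l hl' := by rw [e1]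
              _ = _ := by group
          rw [e, reflElt_conj_refl Q hQ u a hu ha ha']
          refine H.mul_mem (hH _ ha' ?_) (h u hu huc)
          obtain ⟨t, ht0, ht⟩ := hac
          exact ⟨t, ht0, by rw [reflectionMatrix_isometry Q hu]; exact ht⟩
      · rcases ih hl' with h | h
        · right
          intro u hu huc
          rw [← mul_assoc]
          refine H.mul_mem (refl_mul_refl_mem h2 Q hQ heven h43 hc H hH hu ha ?_) h
          obtain ⟨ta, hta0, hta⟩ := hac
          obtain ⟨tu, htu0, htu⟩ := huc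
          refine ⟨ta / tu, div_ne_zero hta0 htu0, ?_⟩
          rw [hta, htu]
          field_simp
        · left
          exact h a ha hac
  obtain ⟨u0, hu0⟩ := exists_vec_quad_eq h2 Q hQ hn (b * c)
  have hu0' : Q u0 ≠ 0 := by rw [hu0]; exact hbc
  have hu0c : ∃ t : F, t ≠ 0 ∧ Q u0 = b * c * t ^ 2 := ⟨1, one_ne_zero, by rw [hu0]; ring⟩
  have hχu0 := hχc' u0 hu0' hu0c
  have hne : (-1 : ℤˣ) ≠ 1 := by decide
  have heq : H = χ.ker := by
    apply le_antisymm hle
    intro g hg
    obtain ⟨l, hl, rfl⟩ := exists_eq_prodElt h2 Q hQ g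
    rcases hclaim l hl with h | h
    · exact h
    · exfalso
      have h1 := hle (h u0 hu0' hu0c)
      rw [MonoidHom.mem_ker, map_mul, hχu0, MonoidHom.mem_ker.mp hg] at h1
      simp at h1
  rw [heq]
  have hsurj : Function.Surjective χ := by
    intro e
    rcases Int.units_eq_one_or e with rfl | rfl
    · exact ⟨1, map_one χ⟩
    · exact ⟨_, hχu0⟩
  rw [Subgroup.index_ker, MonoidHom.range_eq_top.mpr hsurj, Subgroup.card_top,
    Nat.card_eq_fintype_card, Fintype.card_units_int]

end group

end Cfsg.Agent.Lib.Helper8.ReflClass
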