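import Mathlib
import Cfsg.Agent.S0751
import Cfsg.Agent.Lib.Helper13.HermBasis
import Cfsg.Agent.Lib.Helper44.UnitaryTransv

set_option autoImplicit false

namespace Cfsg.Agent.Lib.Helper8.UnitaryInv

open Module

section abstract

variable {F : Type*} {V : Type*} [Field F] [Finite F] [AddCommGroup V] [Module F V]
  [FiniteDimensional F V]

/-- The Hermitian form induced on the image of a self-adjoint map. -/
theorem exists_section_form (σ : F →+* F) (B : V →ₛₗ[σ] V →ₗ[F] F) (hS : B.IsSymm)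
    (hB : B.Nondegenerate) (N : V →ₗ[F] V) (hN : ∀ x y, B (N x) y = B x (N y)) :
    ∃ (s : LinearMap.range N →ₗ[F] V) (β : LinearMap.range N →ₛₗ[σ] LinearMap.range N →ₗ[F] F),
      (∀ w, N (s w) = (w : V)) ∧ (∀ w w', β w w' = B (s w) (w' : V)) ∧ β.IsSymm ∧
        β.Nondegenerate := by
  obtain ⟨s, hs⟩ := N.rangeRestrict.exists_rightInverse_of_surjective
    (LinearMap.range_rangeRestrict N)
  have hNs : ∀ w, N (s w) = (w : V) := by
    intro w
    have := congrArg (fun f : LinearMap.range N →ₗ[F] LinearMap.range N => (f w : V)) hs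
    simpa using this
  obtain ⟨β, hβ⟩ : ∃ β : LinearMap.range N →ₛₗ[σ] LinearMap.range N →ₗ[F] F,
      β = (B.comp s).compl₂ (LinearMap.range N).subtype := ⟨_, rfl⟩
  have hβa : ∀ w w', β w w' = B (s w) (w' : V) := by
    intro w w'
    rw [hβ]
    rfl
  have hsymm : β.IsSymm := by
    constructor
    intro w w'
    rw [hβa, hβa]
    have e1 : B (s w) (w' : V) = B (w : V) (s w') := by
      calc B (s w) (w' : V) = B (s w) (N (s w')) := by rw [hNs w']
        _ = B (N (s w)) (s w') := (hN _ _).symm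
        _ = B (w : V) (s w') := by rw [hNs w]
    rw [e1]
    exact hS.eq (w : V) (s w')
  have hleft : ∀ w, (∀ w', β w w' = 0) → w = 0 := by
    intro w hw
    have h0 : N (s w) = 0 := by
      apply hB.1
      intro y
      rw [hN]
      have := hw ⟨N y, LinearMap.mem_range_self N y⟩
      rw [hβa] at this
      exact this
    apply Subtype.ext
    rw [← hNs w, h0]
    rfl
  refine ⟨s, β, hNs, hβa, hsymm, hleft, ?_⟩
  intro w hw
  apply hleft
  intro w'
  rw [← hsymm.eq w' w, hw w', map_zero]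

/-- Two self-adjoint square-zero maps with images of the same dimension are conjugate under an
isometry. -/
theorem exists_isometry_conj (σ : F →+* F) (hσ : σ ≠ RingHom.id F) (hσ2 : ∀ a : F, σ (σ a) = a)
    (B : V →ₛₗ[σ] V →ₗ[F] F) (hS : B.IsSymm) (hB : B.Nondegenerate)
    (N M : V →ₗ[F] V) (hN : ∀ x y, B (N x) y = B x (N y)) (hM : ∀ x y, B (M x) y = B x (M y))
    (hN2 : ∀ x, N (N x) = 0) (hM2 : ∀ x, M (M x) = 0)
    (hr : finrank F (LinearMap.range N) = finrank F (LinearMap.range M)) :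
    ∃ g : V ≃ₗ[F] V, (∀ u v : V, B (g u) (g v) = B u v) ∧ ∀ x, g (N x) = M (g x) := by
  obtain ⟨s, β, hNs, hβ, hβS, hβN⟩ := exists_section_form σ B hS hB N hN
  obtain ⟨s', β', hMs, hβ', hβS', hβN'⟩ := exists_section_form σ B hS hB M hM
  obtain ⟨b, hb⟩ := Cfsg.Agent.Lib.Helper13.herm_orthonormal_basis σ hσ hσ2 β hβS hβN
  obtain ⟨b', hb'⟩ := Cfsg.Agent.Lib.Helper13.herm_orthonormal_basis σ hσ hσ2 β' hβS' hβN'
  obtain ⟨φ, hφ⟩ : ∃ φ : LinearMap.range N ≃ₗ[F] LinearMap.range M,
      ∀ i, φ (b i) = b' (finCongr hr i) := ⟨b.equiv b' (finCongr hr), fun i => by simp⟩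
  have hφβ : ∀ w w', β' (φ w) (φ w') = β w w' := by
    have e : (β'.comp (φ : LinearMap.range N →ₗ[F] LinearMap.range M)).compl₂
        (φ : LinearMap.range N →ₗ[F] LinearMap.range M) = β := by
      apply LinearMap.ext_basis b b
      intro i j
      simp only [LinearMap.compl₂_apply, LinearMap.comp_apply, LinearEquiv.coe_coe, hφ, hb, hb']
      simp [(finCongr hr).injective.eq_iff]
    intro w w'
    rw [← e]
    rfl
  have hiso : ∀ x y, B (N x) (N y) = 0 := fun x y => by rw [hN, hN2, map_zero]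
  have hiso' : ∀ x y, B (M x) (M y) = 0 := fun x y => by rw [hM, hM2, map_zero]
  obtain ⟨g, hg, hgφ⟩ := Cfsg.Agent.S0751.result σ hσ hσ2 B hS hB _ _ φ (by
    intro x x'
    obtain ⟨y, hy⟩ := x.2
    obtain ⟨y', hy'⟩ := x'.2
    obtain ⟨z, hz⟩ := (φ x).2
    obtain ⟨z', hz'⟩ := (φ x').2
    rw [← hy, ← hy', ← hz, ← hz', hiso, hiso'])
  refine ⟨g, hg, ?_⟩
  intro y
  have hgN : ∀ x, g (N x) = (φ ⟨N x, LinearMap.mem_range_self N x⟩ : V) :=
    fun x => hgφ ⟨N x, LinearMap.mem_range_self N x⟩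
  obtain ⟨t, ht⟩ : ∃ t, t = s' (φ ⟨N y, LinearMap.mem_range_self N y⟩) := ⟨_, rfl⟩
  have hMt : M t = g (N y) := by rw [ht, hMs, hgN y]
  have key : ∀ x, B (g (N x)) (t - g y) = 0 := by
    intro x
    have h1 : β' (φ ⟨N x, LinearMap.mem_range_self N x⟩)
        (φ ⟨N y, LinearMap.mem_range_self N y⟩) = B (g (N x)) t := by
      rw [hβ', ← hgN y, ← hMt, ← hM, hMs, ← hgN x]
    have h2 : β ⟨N x, LinearMap.mem_range_self N x⟩ ⟨N y, LinearMap.mem_range_self N y⟩ =
        B (g (N x)) (g y) := by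
      rw [hβ]
      change B (s ⟨N x, LinearMap.mem_range_self N x⟩) (N y) = _
      rw [← hN, hNs, hg]
    rw [map_sub, ← h1, ← h2, hφβ, sub_self]
  have h0 : M (t - g y) = 0 := by
    apply hB.2
    intro z
    rw [← hM]
    obtain ⟨w, hw⟩ := φ.surjective ⟨M z, LinearMap.mem_range_self M z⟩
    obtain ⟨x, hx⟩ := w.2
    have e : M z = g (N x) := by
      rw [hgN x]
      have e1 : (⟨N x, LinearMap.mem_range_self N x⟩ : LinearMap.range N) = w := Subtype.ext hx
      rw [e1, hw]
    rw [e]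
    exact key x
  rw [map_sub, sub_eq_zero] at h0
  rw [← h0, hMt]

end abstract

section concrete

open Matrix Cfsg.Agent.Lib.Helper45 Cfsg.Agent.Lib.Helper44

variable {K : Type*} [Field K] [Fintype K] {q : ℕ}

/-- An isometric involution is self-adjoint. -/
theorem herm_selfadjoint_of_sq {n : ℕ} {B : Matrix (Fin n) (Fin n) K}
    (hB : IsHermIso n K q B) (hB2 : B * B = 1) (u v : Fin n → K) :
    Cfsg.hermForm n K q (B *ᵥ u) v = Cfsg.hermForm n K q u (B *ᵥ v) := by
  have := hB u (B *ᵥ v)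
  rw [Matrix.mulVec_mulVec, hB2, Matrix.one_mulVec] at this
  exact this

theorem exists_herm_ne_zero (hK : Fintype.card K = q ^ 2) {n : ℕ} {B : Matrix (Fin n) (Fin n) K}
    (hB : IsHermIso n K q B) (hB2 : B * B = 1) (hB1 : B ≠ 1) :
    ∃ x : Fin n → K, Cfsg.hermForm n K q (B *ᵥ x - x) x ≠ 0 := by
  classical
  by_contra hcon
  push Not at hcon
  have hsa := herm_selfadjoint_of_sq hB hB2
  have h1 : ∀ x y, Cfsg.hermForm n K q (B *ᵥ x - x) y +
      Cfsg.hermForm n K q (B *ᵥ y - y) x = 0 := by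
    intro x y
    have := hcon (x + y)
    rw [Matrix.mulVec_add] at this
    have e : B *ᵥ x + B *ᵥ y - (x + y) = (B *ᵥ x - x) + (B *ᵥ y - y) := by abel
    rw [e, herm_add_left, herm_add_right hK, herm_add_right hK, hcon x, hcon y] at this
    linear_combination this
  have h2 : ∀ x y, Cfsg.hermForm n K q (B *ᵥ y - y) x =
      (Cfsg.hermForm n K q (B *ᵥ x - x) y) ^ q := by
    intro x y
    rw [herm_conj hK, herm_sub_left, herm_sub_right hK, hsa]
  have h3 : ∀ x y, Cfsg.hermForm n K q (B *ᵥ x - x) y = 0 := by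
    intro x y
    obtain ⟨c, hc⟩ : ∃ c : K, c ^ q ≠ c := by
      by_contra hall
      push Not at hall
      exact sigmaQ_ne_id hK (RingHom.ext fun c => by rw [sigmaQ_apply, hall]; rfl)
    have ha := h1 x y
    have hb := h1 x (c • y)
    rw [h2 x y] at ha
    rw [h2 x (c • y), herm_smul_right, mul_pow, conj_conj hK] at hb
    have : (c ^ q - c) * Cfsg.hermForm n K q (B *ᵥ x - x) y = 0 := by
      linear_combination hb - c * ha
    rcases mul_eq_zero.mp this with h | h
    · exact absurd (sub_eq_zero.mp h) hc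
    · exact h
  apply hB1
  apply Matrix.mulVec_injective
  funext x
  rw [Matrix.one_mulVec]
  have hq : q ≠ 0 := by have := two_le_q hK; omega
  have : B *ᵥ x - x = 0 := by
    funext i
    have := h3 x (Pi.single i 1)
    rw [herm_single_right hq] at this
    exact this
  exact sub_eq_zero.mp this

/-- For an isometric involution `B ≠ 1` in characteristic two there are isometries commuting
with `B` whose determinant is any prescribed square of a norm-one scalar. -/
theorem exists_hermIso_commute (hK : Fintype.card K = q ^ 2) [CharP K 2] {n : ℕ}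
    {B : Matrix (Fin n) (Fin n) K} (hB : IsHermIso n K q B) (hB2 : B * B = 1) (hB1 : B ≠ 1)
    (α : K) (hα : α ^ (q + 1) = 1) :
    ∃ C : Matrix (Fin n) (Fin n) K, IsHermIso n K q C ∧ C * B = B * C ∧ C.det = α ^ 2 := by
  classical
  have hsa := herm_selfadjoint_of_sq hB hB2
  obtain ⟨x, hx⟩ := exists_herm_ne_zero hK hB hB2 hB1
  obtain ⟨w, hw⟩ : ∃ w, w = B *ᵥ x - x := ⟨_, rfl⟩
  obtain ⟨e, he⟩ : ∃ e, e = Cfsg.hermForm n K q w x := ⟨_, rfl⟩
  obtain ⟨p, hp⟩ : ∃ p, p = Cfsg.hermForm n K q x x := ⟨_, rfl⟩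
  rw [← hw, ← he] at hx
  have hBx : B *ᵥ x = x + w := by rw [hw]; abel
  have hBw : B *ᵥ w = w := by
    rw [hw, Matrix.mulVec_sub, Matrix.mulVec_mulVec, hB2, Matrix.one_mulVec]
    funext i
    simp only [Pi.sub_apply]
    rw [← neg_sub, CharTwo.neg_eq]
  have hxw : Cfsg.hermForm n K q x w = e := by
    rw [he, hw, herm_sub_left, herm_sub_right hK, hsa]
  have hww : Cfsg.hermForm n K q w w = 0 := by
    have : Cfsg.hermForm n K q w (B *ᵥ x - x) = 0 := by
      rw [herm_sub_right hK, ← hsa, hBw, sub_self]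
    rw [← hw] at this
    exact this
  have hpq : p ^ q = p := by rw [hp, herm_conj hK]
  have heq : e ^ q = e := by
    rw [he, herm_conj hK, hxw]
    exact he
  obtain ⟨β, hβ⟩ : ∃ β, β = α ^ q := ⟨_, rfl⟩
  have hαβ : α * β = 1 := by rw [hβ, ← pow_succ']; exact hα
  obtain ⟨c, hc⟩ : ∃ c : K, c = (α - 1) / e := ⟨_, rfl⟩
  have hcq : c ^ q = (β - 1) / e := by
    rw [hc, div_pow, conj_sub hK, one_pow, heq, hβ]
  obtain ⟨U, hU⟩ : ∃ U : Matrix (Fin n) (Fin 2) K, U = Matrix.of fun i j => ![x i, w i] j :=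
    ⟨_, rfl⟩
  obtain ⟨V, hV⟩ : ∃ V : Matrix (Fin 2) (Fin n) K,
      V = Matrix.of fun j k => ![c * w k ^ q, c * (x k ^ q - (p / e) * w k ^ q)] j := ⟨_, rfl⟩
  have hVv : ∀ v : Fin n → K, V *ᵥ v = ![c * Cfsg.hermForm n K q v w,
      c * (Cfsg.hermForm n K q v x - (p / e) * Cfsg.hermForm n K q v w)] := by
    intro v
    funext j
    fin_cases j
    · simp only [hV, Matrix.mulVec, dotProduct, herm_def, Matrix.of_apply, Fin.zero_eta,
        Matrix.cons_val_zero, Finset.mul_sum]
      apply Finset.sum_congr rfl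
      intro k _
      ring
    · simp only [hV, Matrix.mulVec, dotProduct, herm_def, Matrix.of_apply, Fin.mk_one,
        Matrix.cons_val_one, Matrix.cons_val_fin_one, Finset.mul_sum, ← Finset.sum_sub_distrib]
      apply Finset.sum_congr rfl
      intro k _
      ring
  have hUv : ∀ a b : K, U *ᵥ ![a, b] = a • x + b • w := by
    intro a b
    funext i
    simp only [hU, Matrix.mulVec, dotProduct, Fin.sum_univ_two, Matrix.of_apply,
      Matrix.cons_val_zero, Matrix.cons_val_one, Pi.add_apply, Pi.smul_apply, smul_eq_mul]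
    ring
  have hC : ∀ v : Fin n → K, (1 + U * V) *ᵥ v = v + (c * Cfsg.hermForm n K q v w) • x +
      (c * (Cfsg.hermForm n K q v x - (p / e) * Cfsg.hermForm n K q v w)) • w := by
    intro v
    rw [Matrix.add_mulVec, Matrix.one_mulVec, ← Matrix.mulVec_mulVec, hVv, hUv, add_assoc]
  have hα0 : α ≠ 0 := by
    rintro rfl
    rw [zero_mul] at hαβ
    exact zero_ne_one hαβ
  have hβα : β = α⁻¹ := eq_inv_of_mul_eq_one_right hαβ
  refine ⟨1 + U * V, ?_, ?_, ?_⟩
  · intro u v
    rw [hC u, hC v]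
    simp only [herm_add_left, herm_add_right hK, herm_smul_left, herm_smul_right, mul_pow,
      conj_sub hK, div_pow, herm_conj hK, hpq, heq, hcq, hxw, hww, ← he, ← hp]
    rw [hβα, hc]
    field_simp
    ring
  · apply Matrix.mulVec_injective
    funext v
    rw [← Matrix.mulVec_mulVec, ← Matrix.mulVec_mulVec, hC, hC, Matrix.mulVec_add,
      Matrix.mulVec_add, Matrix.mulVec_smul, Matrix.mulVec_smul, hBx, hBw, hsa v w, hsa v x,
      hBx, hBw, herm_add_right hK]
    module
  · rw [Matrix.det_one_add_mul_comm]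
    have h00 : (V * U) 0 0 = α - 1 := by
      have : (V * U) 0 0 = (V *ᵥ x) 0 := by rw [hU]; rfl
      rw [this, hVv, Matrix.cons_val_zero, hxw, hc]
      field_simp
    have h01 : (V * U) 0 1 = 0 := by
      have : (V * U) 0 1 = (V *ᵥ w) 0 := by rw [hU]; rfl
      rw [this, hVv, Matrix.cons_val_zero, hww, mul_zero]
    have h10 : (V * U) 1 0 = 0 := by
      have : (V * U) 1 0 = (V *ᵥ x) 1 := by rw [hU]; rfl
      rw [this, hVv, Matrix.cons_val_one, hxw, ← hp]
      simp only [Matrix.cons_val_zero]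
      field_simp
      ring
    have h11 : (V * U) 1 1 = α - 1 := by
      have : (V * U) 1 1 = (V *ᵥ w) 1 := by rw [hU]; rfl
      rw [this, hVv, Matrix.cons_val_one, hww, ← he]
      simp only [Matrix.cons_val_zero]
      rw [hc]
      field_simp
      ring
    rw [Matrix.det_fin_two]
    simp only [Matrix.add_apply, Matrix.one_apply_eq, h00, h01, h10, h11]
    simp
    ring

/-- Two isometric involutions in characteristic two whose commutator spaces have the same
dimension are conjugate under an isometry of determinant one. -/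
theorem exists_su_conj (hK : Fintype.card K = q ^ 2) [CharP K 2] {n : ℕ}
    (A B : Matrix (Fin n) (Fin n) K) (hA : IsHermIso n K q A) (hB : IsHermIso n K q B)
    (hA2 : A * A = 1) (hB2 : B * B = 1) (hB1 : B ≠ 1)
    (hr : (A - 1).rank = (B - 1).rank) :
    ∃ G : Matrix (Fin n) (Fin n) K, IsHermIso n K q G ∧ G.det = 1 ∧ G * A = B * G := by
  classical
  have h2 : (2 : K) = 0 := by
    have := CharP.cast_eq_zero K 2
    exact_mod_cast this
  have hsq : ∀ M : Matrix (Fin n) (Fin n) K, M * M = 1 → (M - 1) * (M - 1) = 0 := by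
    intro M hM
    have e : (M - 1) * (M - 1) = M * M - M - M + 1 := by noncomm_ring
    rw [e, hM]
    ext i j
    simp only [Matrix.add_apply, Matrix.sub_apply, Matrix.zero_apply]
    linear_combination ((1 : Matrix (Fin n) (Fin n) K) i j - M i j) * h2
  have hN : ∀ (M : Matrix (Fin n) (Fin n) K), IsHermIso n K q M → M * M = 1 → ∀ x y,
      hermB hK n ((M - 1).mulVecLin x) y = hermB hK n x ((M - 1).mulVecLin y) := by
    intro M hM hM2 x y
    rw [hermB_apply, hermB_apply, Matrix.mulVecLin_apply, Matrix.mulVecLin_apply,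
      Matrix.sub_mulVec, Matrix.sub_mulVec, Matrix.one_mulVec, Matrix.one_mulVec,
      herm_sub_right hK, herm_sub_left, herm_selfadjoint_of_sq hM hM2]
  have hN2 : ∀ (M : Matrix (Fin n) (Fin n) K), M * M = 1 → ∀ x,
      (M - 1).mulVecLin ((M - 1).mulVecLin x) = 0 := by
    intro M hM2 x
    rw [Matrix.mulVecLin_apply, Matrix.mulVecLin_apply, Matrix.mulVec_mulVec, hsq M hM2,
      Matrix.zero_mulVec]
  obtain ⟨g, hg, hgN⟩ := exists_isometry_conj (sigmaQ hK) (sigmaQ_ne_id hK)
    (fun a => conj_conj hK a) (hermB hK n) (hermB_isSymm hK n) (hermB_nondegenerate hK n)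
    (A - 1).mulVecLin (B - 1).mulVecLin (hN A hA hA2) (hN B hB hB2) (hN2 A hA2) (hN2 B hB2) hr
  obtain ⟨G0, hG0⟩ : ∃ G0 : Matrix (Fin n) (Fin n) K,
      G0 = LinearMap.toMatrix' (g : (Fin n → K) →ₗ[K] (Fin n → K)) := ⟨_, rfl⟩
  have hG0v : ∀ v, G0 *ᵥ v = g v := by
    intro v
    rw [hG0, ← Matrix.toLin'_apply, Matrix.toLin'_toMatrix']
    rfl
  have hG0iso : IsHermIso n K q G0 := by
    intro x y
    rw [hG0v, hG0v]
    have := hg y x
    rw [hermB_apply, hermB_apply] at this
    exact this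
  have hG0A : G0 * A = B * G0 := by
    apply Matrix.mulVec_injective
    funext v
    rw [← Matrix.mulVec_mulVec, ← Matrix.mulVec_mulVec, hG0v, hG0v]
    have := hgN v
    rw [Matrix.mulVecLin_apply, Matrix.mulVecLin_apply, Matrix.sub_mulVec, Matrix.sub_mulVec,
      Matrix.one_mulVec, Matrix.one_mulVec, map_sub] at this
    exact sub_left_injective this
  obtain ⟨δ, hδdef⟩ : ∃ δ : K, δ = G0.det := ⟨_, rfl⟩
  have hδ : δ ^ (q + 1) = 1 := by rw [hδdef]; exact isHermIso_det hK hG0iso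
  obtain ⟨m, hm⟩ : ∃ m, q = 2 * m := by
    have h : (2 : ℕ) ∣ Fintype.card K :=
      (CharP.cast_eq_zero_iff K 2 _).mp (Nat.cast_card_eq_zero K)
    rw [hK] at h
    exact Nat.prime_two.dvd_of_dvd_pow h
  have hα : (δ ^ m) ^ (q + 1) = 1 := by rw [← pow_mul, mul_comm, pow_mul, hδ, one_pow]
  obtain ⟨C, hC, hCB, hCdet⟩ := exists_hermIso_commute hK hB hB2 hB1 (δ ^ m) hα
  refine ⟨C * G0, isHermIso_mul hC hG0iso, ?_, ?_⟩
  · rw [Matrix.det_mul, hCdet, ← hδdef, ← pow_mul, mul_comm m 2, ← hm, ← pow_succ]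
    exact hδ
  · rw [Matrix.mul_assoc, hG0A, ← Matrix.mul_assoc, hCB, Matrix.mul_assoc]

end concrete

end Cfsg.Agent.Lib.Helper8.UnitaryInv
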