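import Mathlib
import Cfsg.Agent.S0749
import Cfsg.Agent.Lib.Helper13.HermBasis
import Cfsg.Agent.Lib.Helper99.AltBasis
import Cfsg.Agent.Lib.Helper8.UnitaryInv
import Cfsg.Agent.Lib.Helper13.SpParab

set_option autoImplicit false

namespace Cfsg.Agent.Lib.Helper8.SympInv

open Module

section ext

variable {F : Type*} {V : Type*} [Field F] [AddCommGroup V] [Module F V]

/-- If an isometry `g` extends an isometry `φ` between the images of two self-adjoint maps
`N`, `M` (for the induced forms), then `g` intertwines `N` and `M`. -/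
theorem conj_of_extension {σ : F →+* F} (B : V →ₛₗ[σ] V →ₗ[F] F) (hB : B.Nondegenerate)
    (N M : V →ₗ[F] V) (hN : ∀ x y, B (N x) y = B x (N y)) (hM : ∀ x y, B (M x) y = B x (M y))
    (s : LinearMap.range N →ₗ[F] V) (s' : LinearMap.range M →ₗ[F] V)
    (hNs : ∀ w, N (s w) = (w : V)) (hMs : ∀ w, M (s' w) = (w : V))
    (φ : LinearMap.range N ≃ₗ[F] LinearMap.range M)
    (hφ : ∀ w w', B (s' (φ w)) (φ w' : V) = B (s w) (w' : V))
    (g : V ≃ₗ[F] V) (hg : ∀ u v, B (g u) (g v) = B u v)
    (hgφ : ∀ x : LinearMap.range N, g (x : V) = (φ x : V)) (y : V) : g (N y) = M (g y) := by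
  have hgN : ∀ x, g (N x) = (φ ⟨N x, LinearMap.mem_range_self N x⟩ : V) :=
    fun x => hgφ ⟨N x, LinearMap.mem_range_self N x⟩
  obtain ⟨t, ht⟩ : ∃ t, t = s' (φ ⟨N y, LinearMap.mem_range_self N y⟩) := ⟨_, rfl⟩
  have hMt : M t = g (N y) := by rw [ht, hMs, hgN y]
  have key : ∀ x, B (g (N x)) (t - g y) = 0 := by
    intro x
    have h1 : B (s' (φ ⟨N x, LinearMap.mem_range_self N x⟩))
        (φ ⟨N y, LinearMap.mem_range_self N y⟩ : V) = B (g (N x)) t := by
      rw [← hgN y, ← hMt, ← hM, hMs, ← hgN x]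
    have h2 : B (s ⟨N x, LinearMap.mem_range_self N x⟩) (N y) = B (g (N x)) (g y) := by
      rw [← hN, hNs, hg]
    rw [map_sub, ← h1, ← h2, hφ, sub_self]
  have h0 : M (t - g y) = 0 := by
    apply hB.2
    intro z
    rw [← hM]
    obtain ⟨w, hw⟩ := φ.surjective ⟨M z, LinearMap.mem_range_self M z⟩
    obtain ⟨x, hx⟩ := w.2
    have e : M z = g (N x) := by
      rw [hgN x]
      have e1 : (⟨N x, LinearMap.mem_range_self N x⟩ : LinearMap.range N) = w := Subtype.ext hx
      rw [e1, hw]
    rw [e]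
    exact key x
  rw [map_sub, sub_eq_zero] at h0
  rw [← h0, hMt]

end ext

section ortho

variable {F : Type*} {W : Type*} [Field F] [AddCommGroup W] [Module F W]

theorem exists_sqrt_char2 [Finite F] (h2 : (2 : F) = 0) (a : F) : ∃ c : F, c * c = a := by
  have : CharP F 2 := CharTwo.of_one_ne_zero_of_two_eq_zero one_ne_zero h2
  obtain ⟨c, hc⟩ := FiniteField.isSquare_of_char_two (ringChar.eq F 2) a
  exact ⟨c, hc.symm⟩

/-- Extending an orthonormal family in characteristic two, keeping a non-isotropic vector in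
the orthogonal complement. -/
theorem symm_extend [Finite F] [FiniteDimensional F W] (h2 : (2 : F) = 0)
    (β : LinearMap.BilinForm F W) (hS : ∀ x y, β x y = β y x) (hN : β.Nondegenerate)
    {k : ℕ} (w : Fin k → W) (hw : ∀ i j, β (w i) (w j) = if i = j then 1 else 0)
    (x : W) (hxw : ∀ i, β (w i) x = 0) (hxx : β x x ≠ 0) :
    ∃ u : W, (∀ i, β (w i) u = 0) ∧ β u u = 1 ∧
      (k + 1 < finrank F W → ∃ x' : W, (∀ i, β (w i) x' = 0) ∧ β u x' = 0 ∧ β x' x' ≠ 0) := by
  obtain ⟨c, hc⟩ := exists_sqrt_char2 h2 (β x x)⁻¹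
  obtain ⟨u₀, hu₀⟩ : ∃ u₀, u₀ = c • x := ⟨_, rfl⟩
  have hu₀w : ∀ i, β (w i) u₀ = 0 := by
    intro i
    rw [hu₀, map_smul, hxw i, smul_zero]
  have hu₀u₀ : β u₀ u₀ = 1 := by
    rw [hu₀]
    simp only [map_smul, LinearMap.smul_apply, smul_eq_mul]
    rw [← mul_assoc, hc]
    exact inv_mul_cancel₀ hxx
  by_cases hk : k + 1 < finrank F W
  swap
  · exact ⟨u₀, hu₀w, hu₀u₀, fun h => absurd h hk⟩
  -- the orthonormal family extended by `u₀`
  obtain ⟨w', hw'def⟩ : ∃ w' : Fin (k + 1) → W, w' = Fin.cons u₀ w := ⟨_, rfl⟩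
  have hw' : ∀ i j, β (w' i) (w' j) = if i = j then 1 else 0 := by
    intro i j
    rw [hw'def]
    induction i using Fin.cases with
    | zero =>
      induction j using Fin.cases with
      | zero =>
        rw [Fin.cons_zero, if_pos rfl]
        exact hu₀u₀
      | succ j =>
        rw [Fin.cons_zero, Fin.cons_succ, if_neg (Fin.succ_ne_zero j).symm, hS, hu₀w j]
    | succ i =>
      induction j using Fin.cases with
      | zero =>
        rw [Fin.cons_zero, Fin.cons_succ, if_neg (Fin.succ_ne_zero i)]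
        exact hu₀w i
      | succ j =>
        rw [Fin.cons_succ, Fin.cons_succ, hw i j]
        simp only [Fin.succ_inj]
  have hperp : ∀ v : W, (∀ i, β (w' i) v = 0) ↔ (β u₀ v = 0 ∧ ∀ i, β (w i) v = 0) := by
    intro v
    rw [hw'def]
    constructor
    · intro h
      refine ⟨by simpa using h 0, fun i => by simpa using h i.succ⟩
    · rintro ⟨h0, h1⟩ i
      induction i using Fin.cases with
      | zero => simpa using h0
      | succ i => simpa using h1 i
  -- a nonzero vector orthogonal to the extended family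
  have hex : ∃ e : W, e ≠ 0 ∧ ∀ i, β (w' i) e = 0 := by
    by_contra hcon
    push Not at hcon
    have hall : ∀ v : W, v ∈ Submodule.span F (Set.range w') := by
      intro v
      have h0 : v - ∑ i, β (w' i) v • w' i = 0 := by
        by_contra hne
        obtain ⟨i, hi⟩ := hcon _ hne
        exact hi (Cfsg.Agent.Lib.Helper13.herm_proj_mem β w' hw' v i)
      rw [sub_eq_zero.mp h0]
      apply Submodule.sum_mem
      intro i _
      exact Submodule.smul_mem _ _ (Submodule.subset_span ⟨i, rfl⟩)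
    have htop : Submodule.span F (Set.range w') = ⊤ := by
      rw [eq_top_iff]
      intro v _
      exact hall v
    have h1 := finrank_range_le_card (R := F) w'
    rw [Set.finrank, htop, finrank_top, Fintype.card_fin] at h1
    omega
  obtain ⟨e, he0, hew'⟩ := hex
  obtain ⟨y, hy⟩ : ∃ y, β e y ≠ 0 := by
    by_contra hcon
    push Not at hcon
    exact he0 (hN.1 e hcon)
  obtain ⟨y', hy'def⟩ : ∃ y', y' = y - ∑ i, β (w' i) y • w' i := ⟨_, rfl⟩
  have hy'w' : ∀ i, β (w' i) y' = 0 := by
    intro i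
    rw [hy'def]
    exact Cfsg.Agent.Lib.Helper13.herm_proj_mem β w' hw' y i
  have hey' : β e y' ≠ 0 := by
    rw [hy'def, map_sub, map_sum]
    have : ∑ i, β e (β (w' i) y • w' i) = 0 := by
      apply Finset.sum_eq_zero
      intro i _
      rw [map_smul, hS e (w' i), hew' i, smul_zero]
    rw [this, sub_zero]
    exact hy
  have he := (hperp e).mp hew'
  have hy' := (hperp y').mp hy'w'
  by_cases hee : β e e = 0
  swap
  · exact ⟨u₀, hu₀w, hu₀u₀, fun _ => ⟨e, he.2, he.1, hee⟩⟩
  by_cases hyy : β y' y' = 0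
  swap
  · exact ⟨u₀, hu₀w, hu₀u₀, fun _ => ⟨y', hy'.2, hy'.1, hyy⟩⟩
  obtain ⟨f, hf⟩ : ∃ f, f = (β e y')⁻¹ • y' := ⟨_, rfl⟩
  have hfw : ∀ i, β (w i) f = 0 := by
    intro i
    rw [hf, map_smul, hy'.2 i, smul_zero]
  have hu₀f : β u₀ f = 0 := by rw [hf, map_smul, hy'.1, smul_zero]
  have hef : β e f = 1 := by
    rw [hf, map_smul, smul_eq_mul]
    exact inv_mul_cancel₀ hey'
  have hff : β f f = 0 := by
    rw [hf]
    simp only [map_smul, LinearMap.smul_apply, smul_eq_mul, hyy, mul_zero]
  refine ⟨u₀ + e, ?_, ?_, fun _ => ⟨u₀ + f, ?_, ?_, ?_⟩⟩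
  · intro i
    rw [map_add, hu₀w i, he.2 i, add_zero]
  · simp only [map_add, LinearMap.add_apply, hu₀u₀, hee, hS e u₀, he.1]
    ring
  · intro i
    rw [map_add, hu₀w i, hfw i, add_zero]
  · simp only [map_add, LinearMap.add_apply, hu₀u₀, hu₀f, hS e u₀, he.1, hef]
    linear_combination h2
  · simp only [map_add, LinearMap.add_apply, hu₀u₀, hu₀f, hS f u₀, hff]
    simp

theorem symm_family [Finite F] [FiniteDimensional F W] (h2 : (2 : F) = 0)
    (β : LinearMap.BilinForm F W) (hS : ∀ x y, β x y = β y x) (hN : β.Nondegenerate)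
    (hna : ∃ x, β x x ≠ 0) (k : ℕ) (hk : k ≤ finrank F W) :
    ∃ w : Fin k → W, (∀ i j, β (w i) (w j) = if i = j then 1 else 0) ∧
      (k < finrank F W → ∃ x, (∀ i, β (w i) x = 0) ∧ β x x ≠ 0) := by
  induction k with
  | zero =>
    obtain ⟨x, hx⟩ := hna
    exact ⟨fun i => i.elim0, fun i => i.elim0, fun _ => ⟨x, fun i => i.elim0, hx⟩⟩
  | succ k ih =>
    obtain ⟨w, hw, hx⟩ := ih (by omega)
    obtain ⟨x, hxw, hxx⟩ := hx (by omega)
    obtain ⟨u, huw, huu, hnext⟩ := symm_extend h2 β hS hN w hw x hxw hxx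
    refine ⟨Fin.cons u w, ?_, ?_⟩
    · intro i j
      induction i using Fin.cases with
      | zero =>
        induction j using Fin.cases with
        | zero =>
          rw [Fin.cons_zero, if_pos rfl]
          exact huu
        | succ j =>
          rw [Fin.cons_zero, Fin.cons_succ, if_neg (Fin.succ_ne_zero j).symm, hS, huw j]
      | succ i =>
        induction j using Fin.cases with
        | zero =>
          rw [Fin.cons_zero, Fin.cons_succ, if_neg (Fin.succ_ne_zero i)]
          exact huw i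
        | succ j =>
          rw [Fin.cons_succ, Fin.cons_succ, hw i j]
          simp only [Fin.succ_inj]
    · intro hlt
      obtain ⟨x', hx'w, hux', hx'x'⟩ := hnext hlt
      refine ⟨x', ?_, hx'x'⟩
      intro i
      induction i using Fin.cases with
      | zero => simpa using hux'
      | succ i => simpa using hx'w i

/-- A non-degenerate, non-alternating symmetric bilinear form over a finite field of
characteristic two has an orthonormal basis. -/
theorem symm_orthonormal_basis [Finite F] [FiniteDimensional F W] (h2 : (2 : F) = 0)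
    (β : LinearMap.BilinForm F W) (hS : ∀ x y, β x y = β y x) (hN : β.Nondegenerate)
    (hna : ∃ x, β x x ≠ 0) :
    ∃ b : Module.Basis (Fin (finrank F W)) F W, ∀ i j, β (b i) (b j) = if i = j then 1 else 0 := by
  obtain ⟨w, hw, -⟩ := symm_family h2 β hS hN hna (finrank F W) le_rfl
  have hli : LinearIndependent F w := by
    apply LinearMap.linearIndependent_of_isOrthoᵢ (B := β)
    · intro i j hij
      change β (w i) (w j) = 0
      rw [hw i j, if_neg hij]
    · intro i
      rw [hw i i, if_pos rfl]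
      exact one_ne_zero
  refine ⟨basisOfLinearIndependentOfCardEqFinrank' w hli (by rw [Fintype.card_fin]), ?_⟩
  rw [coe_basisOfLinearIndependentOfCardEqFinrank']
  exact hw

end ortho

section classify

variable {F : Type*} {W W' : Type*} [Field F] [AddCommGroup W] [Module F W]
  [AddCommGroup W'] [Module F W'] [FiniteDimensional F W] [FiniteDimensional F W']

/-- Non-degenerate alternating forms of the same dimension are isometric. -/
theorem alt_isometry (β : LinearMap.BilinForm F W) (β' : LinearMap.BilinForm F W')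
    (hA : β.IsAlt) (hA' : β'.IsAlt) (hN : β.Nondegenerate) (hN' : β'.Nondegenerate)
    (hr : finrank F W = finrank F W') :
    ∃ φ : W ≃ₗ[F] W', ∀ w w', β' (φ w) (φ w') = β w w' := by
  obtain ⟨m, k, b, hef, hee, hff, hrad⟩ := Cfsg.Agent.Lib.Helper99.alt_basis β hA
  obtain ⟨m', k', b', hef', hee', hff', hrad'⟩ := Cfsg.Agent.Lib.Helper99.alt_basis β' hA'
  have hk : k = 0 := by
    by_contra hk
    exact b.ne_zero (Sum.inr ⟨0, by omega⟩) (hN.1 _ (hrad ⟨0, by omega⟩))
  have hk' : k' = 0 := by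
    by_contra hk'
    exact b'.ne_zero (Sum.inr ⟨0, by omega⟩) (hN'.1 _ (hrad' ⟨0, by omega⟩))
  subst hk
  subst hk'
  have hm : m = m' := by
    have h1 := Module.finrank_eq_card_basis b
    have h2 := Module.finrank_eq_card_basis b'
    simp only [Fintype.card_sum, Fintype.card_fin] at h1 h2
    omega
  subst hm
  obtain ⟨φ, hφ⟩ : ∃ φ : W ≃ₗ[F] W', ∀ i, φ (b i) = b' i :=
    ⟨b.equiv b' (Equiv.refl _), fun i => by simp⟩
  refine ⟨φ, ?_⟩
  have e : LinearMap.compl₂ (LinearMap.comp β' (φ : W →ₗ[F] W')) (φ : W →ₗ[F] W') = β := by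
    apply LinearMap.ext_basis b b
    intro i j
    simp only [LinearMap.compl₂_apply, LinearMap.comp_apply, LinearEquiv.coe_coe, hφ]
    rcases i with (i | i) | i
    · rcases j with (j | j) | j
      · rw [hee, hee']
      · rw [hef, hef']
      · exact j.elim0
    · rcases j with (j | j) | j
      · rw [← LinearMap.IsAlt.neg hA, ← LinearMap.IsAlt.neg hA', hef, hef']
      · rw [hff, hff']
      · exact j.elim0
    · exact i.elim0
  intro w w'
  rw [← e]
  rfl

/-- Classification of non-degenerate symmetric bilinear forms over a finite field of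
characteristic two: dimension and whether the form is alternating. -/
theorem symm_isometry_char2 [Finite F] (h2 : (2 : F) = 0)
    (β : LinearMap.BilinForm F W) (β' : LinearMap.BilinForm F W')
    (hS : ∀ x y, β x y = β y x) (hS' : ∀ x y, β' x y = β' y x)
    (hN : β.Nondegenerate) (hN' : β'.Nondegenerate)
    (hr : finrank F W = finrank F W')
    (htype : (∀ w, β w w = 0) ↔ (∀ w, β' w w = 0)) :
    ∃ φ : W ≃ₗ[F] W', ∀ w w', β' (φ w) (φ w') = β w w' := by
  by_cases hA : ∀ w, β w w = 0
  · exact alt_isometry β β' hA (htype.mp hA) hN hN' hr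
  · have hA' : ¬ ∀ w, β' w w = 0 := fun h => hA (htype.mpr h)
    push Not at hA hA'
    obtain ⟨b, hb⟩ := symm_orthonormal_basis h2 β hS hN hA
    obtain ⟨b', hb'⟩ := symm_orthonormal_basis h2 β' hS' hN' hA'
    obtain ⟨φ, hφ⟩ : ∃ φ : W ≃ₗ[F] W', ∀ i, φ (b i) = b' (finCongr hr i) :=
      ⟨b.equiv b' (finCongr hr), fun i => by simp⟩
    refine ⟨φ, ?_⟩
    have e : LinearMap.compl₂ (LinearMap.comp β' (φ : W →ₗ[F] W')) (φ : W →ₗ[F] W') = β := by
      apply LinearMap.ext_basis b b
      intro i j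
      simp only [LinearMap.compl₂_apply, LinearMap.comp_apply, LinearEquiv.coe_coe, hφ, hb, hb']
      simp
    intro w w'
    rw [← e]
    rfl

end classify

section main

variable {F : Type*} {V : Type*} [Field F] [Finite F] [AddCommGroup V] [Module F V]
  [FiniteDimensional F V]

/-- Two square-zero maps, self-adjoint for a non-degenerate alternating form in characteristic
two, with images of the same dimension and of the same type, are conjugate under an isometry. -/
theorem exists_alt_isometry_conj (h2 : (2 : F) = 0) (B : LinearMap.BilinForm F V)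
    (hB : B.Nondegenerate) (hA : B.IsAlt)
    (N M : V →ₗ[F] V) (hN : ∀ x y, B (N x) y = B x (N y)) (hM : ∀ x y, B (M x) y = B x (M y))
    (hN2 : ∀ x, N (N x) = 0) (hM2 : ∀ x, M (M x) = 0)
    (hr : finrank F (LinearMap.range N) = finrank F (LinearMap.range M))
    (htype : (∀ x, B x (N x) = 0) ↔ (∀ x, B x (M x) = 0)) :
    ∃ g : V ≃ₗ[F] V, (∀ u v : V, B (g u) (g v) = B u v) ∧ ∀ x, g (N x) = M (g x) := by
  have hsymm : ∀ x y, B x y = B y x := by
    intro x y
    have h := LinearMap.IsAlt.neg hA x y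
    rw [← h]
    linear_combination (B x y) * h2
  have hS : LinearMap.IsSymm B := ⟨fun x y => hsymm x y⟩
  obtain ⟨s, β, hNs, hβ, hβS, hβN⟩ :=
    Cfsg.Agent.Lib.Helper8.UnitaryInv.exists_section_form (RingHom.id F) B hS hB N hN
  obtain ⟨s', β', hMs, hβ', hβS', hβN'⟩ :=
    Cfsg.Agent.Lib.Helper8.UnitaryInv.exists_section_form (RingHom.id F) B hS hB M hM
  have halt : ∀ (K : V →ₗ[F] V) (hK : ∀ x y, B (K x) y = B x (K y))
      (t : LinearMap.range K →ₗ[F] V) (γ : LinearMap.BilinForm F (LinearMap.range K))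
      (hKt : ∀ w, K (t w) = (w : V)) (hγ : ∀ w w', γ w w' = B (t w) (w' : V)),
      (∀ w, γ w w = 0) ↔ (∀ x, B x (K x) = 0) := by
    intro K hK t γ hKt hγ
    have key : ∀ x, γ ⟨K x, LinearMap.mem_range_self K x⟩ ⟨K x, LinearMap.mem_range_self K x⟩ =
        B x (K x) := by
      intro x
      rw [hγ]
      change B (t ⟨K x, LinearMap.mem_range_self K x⟩) (K x) = _
      rw [← hK, hKt, hsymm]
    constructor
    · intro h x
      rw [← key x]
      exact h _
    · intro h w
      obtain ⟨x, hx⟩ := w.2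
      have e1 : (⟨K x, LinearMap.mem_range_self K x⟩ : LinearMap.range K) = w := Subtype.ext hx
      rw [← e1, key x]
      exact h x
  obtain ⟨φ, hφ⟩ := symm_isometry_char2 h2 β β' (fun x y => (hβS.eq y x).symm)
    (fun x y => (hβS'.eq y x).symm) hβN hβN' hr
    ((halt N hN s β hNs hβ).trans (htype.trans (halt M hM s' β' hMs hβ').symm))
  obtain ⟨g, hg, hgφ⟩ := Cfsg.Agent.S0749.result B hB hA _ _ φ (by
    intro x x'
    obtain ⟨y, hy⟩ := x.2
    obtain ⟨y', hy'⟩ := x'.2
    obtain ⟨z, hz⟩ := (φ x).2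
    obtain ⟨z', hz'⟩ := (φ x').2
    rw [← hy, ← hy', ← hz, ← hz', hN, hN2, map_zero, hM, hM2, map_zero])
  refine ⟨g, hg, fun y => conj_of_extension B hB N M hN hM s s' hNs hMs φ ?_ g hg hgφ y⟩
  intro w w'
  rw [← hβ', ← hβ, hφ]

omit [Finite F] in
/-- A non-degenerate alternating form lives on a space of even dimension. -/
theorem even_finrank_of_alt_nondeg (β : LinearMap.BilinForm F V) (hA : β.IsAlt)
    (hN : β.Nondegenerate) : Even (finrank F V) := by
  obtain ⟨m, k, b, hef, hee, hff, hrad⟩ := Cfsg.Agent.Lib.Helper99.alt_basis β hA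
  have hk : k = 0 := by
    by_contra hk
    exact b.ne_zero (Sum.inr ⟨0, by omega⟩) (hN.1 _ (hrad ⟨0, by omega⟩))
  subst hk
  have h1 := Module.finrank_eq_card_basis b
  simp only [Fintype.card_sum, Fintype.card_fin] at h1
  exact ⟨m, by omega⟩

/-- If `B (x, N x) = 0` for all `x` then the image of `N` has even dimension. -/
theorem even_finrank_range_of_alt_type (h2 : (2 : F) = 0) (B : LinearMap.BilinForm F V)
    (hB : B.Nondegenerate) (hA : B.IsAlt)
    (N : V →ₗ[F] V) (hN : ∀ x y, B (N x) y = B x (N y)) (h0 : ∀ x, B x (N x) = 0) :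
    Even (finrank F (LinearMap.range N)) := by
  have hsymm : ∀ x y, B x y = B y x := by
    intro x y
    have h := LinearMap.IsAlt.neg hA x y
    rw [← h]
    linear_combination (B x y) * h2
  have hS : LinearMap.IsSymm B := ⟨fun x y => hsymm x y⟩
  obtain ⟨s, β, hNs, hβ, hβS, hβN⟩ :=
    Cfsg.Agent.Lib.Helper8.UnitaryInv.exists_section_form (RingHom.id F) B hS hB N hN
  apply even_finrank_of_alt_nondeg β _ hβN
  intro w
  obtain ⟨x, hx⟩ := w.2
  have e1 : (⟨N x, LinearMap.mem_range_self N x⟩ : LinearMap.range N) = w := Subtype.ext hx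
  rw [← e1, hβ]
  change B (s ⟨N x, LinearMap.mem_range_self N x⟩) (N x) = 0
  rw [← hN, hNs, hsymm]
  exact h0 x

end main

section concrete

open Matrix Cfsg.Agent.Lib.Helper13

variable {F : Type*} [Field F] {m : ℕ}

theorem sub_one_sq' {ι : Type*} [Fintype ι] [DecidableEq ι] (h2 : (2 : F) = 0)
    (T : Matrix ι ι F) (hT2 : T * T = 1) : (T - 1) * (T - 1) = 0 := by
  have e : (T - 1) * (T - 1) = T * T - T - T + 1 := by noncomm_ring
  rw [e, hT2]
  ext i j
  simp only [Matrix.add_apply, Matrix.sub_apply, Matrix.zero_apply]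
  linear_combination ((1 : Matrix ι ι F) i j - T i j) * h2

theorem symp_selfadjoint {A : Matrix (Fin m ⊕ Fin m) (Fin m ⊕ Fin m) F}
    (hA : A ∈ Matrix.symplecticGroup (Fin m) F) (hA2 : A * A = 1) (x y : Fin m ⊕ Fin m → F) :
    sympBilin m F ((A - 1).mulVecLin x) y = sympBilin m F x ((A - 1).mulVecLin y) := by
  have h1 : Cfsg.sympForm m F (A *ᵥ x) y = Cfsg.sympForm m F x (A *ᵥ y) := by
    have := sympForm_mulVec_of_mem m hA x (A *ᵥ y)
    rw [Matrix.mulVec_mulVec, hA2, Matrix.one_mulVec] at this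
    exact this
  rw [sympBilin_apply, sympBilin_apply, Matrix.mulVecLin_apply, Matrix.mulVecLin_apply,
    Matrix.sub_mulVec, Matrix.sub_mulVec, Matrix.one_mulVec, Matrix.one_mulVec,
    sympForm_sub_left, sympForm_sub_right, h1]

theorem symp_type_iff (A : Matrix (Fin m ⊕ Fin m) (Fin m ⊕ Fin m) F) :
    (∀ x, sympBilin m F x ((A - 1).mulVecLin x) = 0) ↔
      (∀ v, Cfsg.sympForm m F v (A *ᵥ v) = 0) := by
  have key : ∀ x, sympBilin m F x ((A - 1).mulVecLin x) = Cfsg.sympForm m F x (A *ᵥ x) := by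
    intro x
    rw [sympBilin_apply, Matrix.mulVecLin_apply, Matrix.sub_mulVec, Matrix.one_mulVec,
      sympForm_sub_right, sympForm_self, sub_zero]
  constructor
  · intro h v
    rw [← key]
    exact h v
  · intro h v
    rw [key]
    exact h v

/-- Two symplectic involutions in characteristic two with the same rank of `t - 1` and the same
type are conjugate in the symplectic group. -/
theorem exists_sp_conj [Finite F] (h2 : (2 : F) = 0)
    (A B : Matrix (Fin m ⊕ Fin m) (Fin m ⊕ Fin m) F)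
    (hA : A ∈ Matrix.symplecticGroup (Fin m) F) (hB : B ∈ Matrix.symplecticGroup (Fin m) F)
    (hA2 : A * A = 1) (hB2 : B * B = 1) (hr : (A - 1).rank = (B - 1).rank)
    (htype : (∀ v, Cfsg.sympForm m F v (A *ᵥ v) = 0) ↔ (∀ v, Cfsg.sympForm m F v (B *ᵥ v) = 0)) :
    ∃ G ∈ Matrix.symplecticGroup (Fin m) F, G * A = B * G := by
  classical
  have hN2 : ∀ (T : Matrix (Fin m ⊕ Fin m) (Fin m ⊕ Fin m) F), T * T = 1 → ∀ x,
      (T - 1).mulVecLin ((T - 1).mulVecLin x) = 0 := by
    intro T hT2 x
    rw [Matrix.mulVecLin_apply, Matrix.mulVecLin_apply, Matrix.mulVec_mulVec, sub_one_sq' h2 T hT2,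
      Matrix.zero_mulVec]
  obtain ⟨g, hg, hgN⟩ := exists_alt_isometry_conj h2 (sympBilin m F) sympBilin_nondegenerate
    sympBilin_isAlt (A - 1).mulVecLin (B - 1).mulVecLin (symp_selfadjoint hA hA2)
    (symp_selfadjoint hB hB2) (hN2 A hA2) (hN2 B hB2) hr
    ((symp_type_iff A).trans (htype.trans (symp_type_iff B).symm))
  obtain ⟨G, hG⟩ : ∃ G : Matrix (Fin m ⊕ Fin m) (Fin m ⊕ Fin m) F,
      G = LinearMap.toMatrix' (g : (Fin m ⊕ Fin m → F) →ₗ[F] (Fin m ⊕ Fin m → F)) := ⟨_, rfl⟩
  have hGv : ∀ v, G *ᵥ v = g v := by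
    intro v
    rw [hG, ← Matrix.toLin'_apply, Matrix.toLin'_toMatrix']
    rfl
  refine ⟨G, ?_, ?_⟩
  · apply mem_symplecticGroup_of_sympForm m
    intro u v
    rw [hGv, hGv, ← sympBilin_apply, hg, sympBilin_apply]
  · apply Matrix.mulVec_injective
    funext v
    rw [← Matrix.mulVec_mulVec, ← Matrix.mulVec_mulVec, hGv, hGv]
    have := hgN v
    rw [Matrix.mulVecLin_apply, Matrix.mulVecLin_apply, Matrix.sub_mulVec, Matrix.sub_mulVec,
      Matrix.one_mulVec, Matrix.one_mulVec, map_sub] at this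
    exact sub_left_injective this

/-- A predicate on a finite type holds everywhere iff its subtype has full cardinality. -/
theorem forall_iff_card {α : Type*} [Finite α] (p : α → Prop) :
    (∀ v, p v) ↔ Nat.card {v // p v} = Nat.card α := by
  classical
  have := Fintype.ofFinite α
  constructor
  · intro h
    exact Nat.card_congr (Equiv.subtypeUnivEquiv h)
  · intro h
    by_contra hcon
    push Not at hcon
    obtain ⟨v, hv⟩ := hcon
    have := Fintype.card_subtype_lt hv
    rw [Nat.card_eq_fintype_card, Nat.card_eq_fintype_card] at h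
    omega

end concrete

end Cfsg.Agent.Lib.Helper8.SympInv
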