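import Mathlib
import Cfsg.Agent.Lib.Helper44.Wall

set_option autoImplicit false

/-! Variants of the characteristic-two Cartan–Dieudonné development of `Helper44.Wall`, with the
exceptional hypothesis weakened: dimension four over the field of two elements is allowed when
the form has no totally singular plane (the minus-type form). The proofs are those of
`Helper44.Wall` with the two uses of the hypothesis adapted. -/

namespace Cfsg.Agent.Lib.Helper8.WallGen

open Module Cfsg.Agent.Lib.Helper14 Cfsg.Agent.Lib.Helper44

section char2cd2

variable {F : Type*} [Field F] {V : Type*} [AddCommGroup V] [Module F V]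
variable (Q : QuadraticForm F V)

/-- L5b: existence of a good pair in the totally singular case. -/
theorem exists_good_pair_gen (h2 : (2 : F) = 0) [Fintype F] [FiniteDimensional F V]
    (hQ : (QuadraticMap.polarBilin Q).Nondegenerate)
    (hcard : Fintype.card F ≠ 2 ∨ finrank F V ≠ 4 ∨
      ∀ U : Submodule F V, (∀ u ∈ U, Q u = 0) → finrank F U ≤ 1) {g : V →ₗ[F] V}
    (hg : ∀ x, Q (g x) = Q x) (hts : ∀ y ∈ moved g, Q y = 0) (hne : moved g ≠ ⊥) :
    ∃ v u₀, Q v ≠ 0 ∧ QuadraticMap.polar ⇑Q u₀ v ≠ 0 ∧ QuadraticMap.polar ⇑Q u₀ (g v) ≠ 0 ∧
      ∀ c : F, u₀ - g u₀ ≠ c • (v - g v) := by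
  by_cases hA : ∃ z ∈ fixed g, Q z ≠ 0
  · obtain ⟨z, hz, hQz⟩ := hA
    have hgz := (mem_fixed_iff g z).mp hz
    obtain ⟨u₀, -, hu1, hu2⟩ := exists_mem_notMem_notMem ⊤ (fixed g)
      (LinearMap.ker (QuadraticMap.polarBilin Q z))
      (fun hle => fixed_ne_top hne (top_le_iff.mp hle))
      (polar_ker_ne_top Q hQ (ne_zero_of_quad_ne_zero Q hQz))
    rw [LinearMap.mem_ker, QuadraticMap.polarBilin_apply_apply, QuadraticMap.polar_comm] at hu2
    refine ⟨z, u₀, hQz, hu2, by rw [hgz]; exact hu2, ?_⟩
    intro c hc
    rw [hgz, sub_self, smul_zero] at hc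
    apply hu1
    rw [mem_fixed_iff]
    exact (sub_eq_zero.mp hc).symm
  · push Not at hA
    have hfm : fixed g ≤ moved g := by
      rw [moved_eq_orth_fixed Q hQ hg]
      intro x hx
      rw [mem_orth_iff]
      intro y hy
      exact polar_eq_zero_of_singular Q (fixed g) hA hy hx
    have hmf : moved g ≤ fixed g := by
      rw [fixed_eq_orth_moved Q hQ hg]
      intro x hx
      rw [mem_orth_iff]
      intro y hy
      exact polar_eq_zero_of_singular Q (moved g) hts hy hx
    have heq : fixed g = moved g := le_antisymm hfm hmf
    have hdim := finrank_moved_add_fixed g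
    rw [heq] at hdim
    have hm0 : finrank F (moved g) ≠ 0 := by
      intro h0
      exact hne (Submodule.finrank_eq_zero.mp h0)
    have hm1 := finrank_moved_ne_one_of_singular Q hQ hg hts
    obtain ⟨x₀, hx₀m, hx₀⟩ := Submodule.exists_mem_ne_zero_of_ne_bot hne
    obtain ⟨v, hv⟩ := exists_quad_ne_zero_of_ne_bot Q hQ hx₀
    have hv0 := ne_zero_of_quad_ne_zero Q hv
    have hgv : Q (g v) ≠ 0 := by rw [hg]; exact hv
    have hgv0 := ne_zero_of_quad_ne_zero Q hgv
    have hvm : v ∉ moved g := fun h => hv (hts v h)
    set S₁ : Submodule F V := fixed g ⊔ (F ∙ v) with hS₁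
    have hS₁dim : finrank F S₁ ≤ finrank F (moved g) + 1 := by
      have a1 : finrank F S₁ ≤ finrank F (fixed g) + finrank F (F ∙ v) :=
        Submodule.finrank_add_le_finrank_add_finrank (fixed g) (F ∙ v)
      have a2 := finrank_span_singleton_le_one (F := F) v
      have a3 : finrank F (fixed g) = finrank F (moved g) := by rw [heq]
      omega
    have hS₁top : S₁ ≠ ⊤ := by
      intro htop
      rw [htop, finrank_top] at hS₁dim
      omega
    have hf₂ : QuadraticMap.polarBilin Q v ≠ 0 := by
      intro h0
      obtain ⟨u, hu⟩ := exists_polar_ne_zero Q hQ hv0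
      apply hu
      rw [← QuadraticMap.polarBilin_apply_apply, h0]; rfl
    have hf₃ : QuadraticMap.polarBilin Q (g v) ≠ 0 := by
      intro h0
      obtain ⟨u, hu⟩ := exists_polar_ne_zero Q hQ hgv0
      apply hu
      rw [← QuadraticMap.polarBilin_apply_apply, h0]; rfl
    have hcond : 4 ≤ Fintype.card F ∨ ∃ b, b ∉ S₁ ∧ QuadraticMap.polarBilin Q v b = 0 ∧
        QuadraticMap.polarBilin Q (g v) b = 0 := by
      by_cases hc2 : Fintype.card F = 2
      · right
        have hn4 : finrank F V ≠ 4 := by
          rcases hcard with h | h | h
          · exact absurd hc2 h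
          · exact h
          · exfalso
            have := h (moved g) hts
            omega
        set T : Submodule F V := orth Q ((F ∙ v) ⊔ (F ∙ g v)) with hT
        have hTdim : finrank F V ≤ finrank F T + 2 := by
          rw [hT, finrank_orth Q hQ]
          have a1 := Submodule.finrank_add_le_finrank_add_finrank (F ∙ v) (F ∙ g v)
          have a2 := finrank_span_singleton_le_one (F := F) v
          have a3 := finrank_span_singleton_le_one (F := F) (g v)
          omega
        have hTv : ∀ b ∈ T, QuadraticMap.polar ⇑Q v b = 0 := by
          intro b hb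
          rw [hT, mem_orth_iff] at hb
          exact hb v (Submodule.mem_sup_left (Submodule.mem_span_singleton_self v))
        have hTgv : ∀ b ∈ T, QuadraticMap.polar ⇑Q (g v) b = 0 := by
          intro b hb
          rw [hT, mem_orth_iff] at hb
          exact hb (g v) (Submodule.mem_sup_right (Submodule.mem_span_singleton_self (g v)))
        have hTS : ¬ T ≤ S₁ := by
          intro hle
          have hle2 : T ≤ S₁ ⊓ LinearMap.ker (QuadraticMap.polarBilin Q v) := by
            intro b hb
            exact ⟨hle hb, LinearMap.mem_ker.mpr (hTv b hb)⟩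
          have hlt : S₁ ⊓ LinearMap.ker (QuadraticMap.polarBilin Q v) < S₁ := by
            refine lt_of_le_of_ne inf_le_left ?_
            intro heq2
            have hvm' := hvm
            rw [moved_eq_orth_fixed Q hQ hg, mem_orth_iff] at hvm'
            push Not at hvm'
            obtain ⟨y, hy, hyv⟩ := hvm'
            have hy1 : y ∈ S₁ := Submodule.mem_sup_left hy
            rw [← heq2] at hy1
            have := LinearMap.mem_ker.mp hy1.2
            rw [QuadraticMap.polarBilin_apply_apply, QuadraticMap.polar_comm] at this
            exact hyv this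
          have a1 := Submodule.finrank_mono hle2
          have a2 := Submodule.finrank_lt_finrank_of_lt hlt
          omega
        obtain ⟨b, hbT, hbS⟩ := SetLike.not_le_iff_exists.mp hTS
        exact ⟨b, hbS, hTv b hbT, hTgv b hbT⟩
      · left
        exact four_le_card_of_two_eq_zero h2 hc2
    obtain ⟨u₀, hu1, hu2, hu3⟩ := exists_avoid_three S₁ _ _ hf₂ hf₃ hS₁top hcond
    rw [QuadraticMap.polarBilin_apply_apply, QuadraticMap.polar_comm] at hu2 hu3
    refine ⟨v, u₀, hv, hu2, hu3, ?_⟩
    intro c hc
    apply hu1
    have hk : u₀ - c • v ∈ fixed g := by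
      rw [mem_fixed_iff, map_sub, map_smul]
      rw [smul_sub] at hc
      have : g u₀ - c • g v = u₀ - (u₀ - g u₀) - c • g v := by abel
      rw [this, hc]; abel
    have : u₀ = (u₀ - c • v) + c • v := by abel
    rw [this]
    exact Submodule.add_mem _ (Submodule.mem_sup_left hk)
      (Submodule.mem_sup_right (Submodule.smul_mem _ _ (Submodule.mem_span_singleton_self v)))

/-- Cartan–Dieudonné in characteristic two: every isometry of a quadratic space with
non-degenerate polar form over a finite field of characteristic two is a product of orthogonal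
transvections, except possibly in dimension four over the field of two elements. -/
theorem cartan_dieudonne_char2_gen (h2 : (2 : F) = 0) [Fintype F] [FiniteDimensional F V]
    (hQ : (QuadraticMap.polarBilin Q).Nondegenerate)
    (hcard : Fintype.card F ≠ 2 ∨ finrank F V ≠ 4 ∨
      ∀ U : Submodule F V, (∀ u ∈ U, Q u = 0) → finrank F U ≤ 1) (n : ℕ) :
    ∀ g : V →ₗ[F] V, (∀ x, Q (g x) = Q x) → finrank F (moved g) = n →
      ∃ l : List V, (∀ u ∈ l, Q u ≠ 0) ∧ g = (l.map (reflLin Q)).prod := by
  induction n using Nat.strong_induction_on with
  | _ n ih =>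
    intro g hg hn
    by_cases hbot : moved g = ⊥
    · refine ⟨[], by simp, ?_⟩
      rw [(moved_eq_bot_iff g).mp hbot]
      simp
    by_cases hns : ∃ v ∈ moved g, Q v ≠ 0
    · obtain ⟨v, hvm, hv⟩ := hns
      have hlt := finrank_moved_mul_refl_lt Q hg hv hvm
      rw [hn] at hlt
      obtain ⟨l, hl, hgl⟩ := ih _ hlt (g * reflLin Q v) (mul_refl_isom Q hg hv) rfl
      refine ⟨l ++ [v], ?_, ?_⟩
      · intro u hu
        rcases List.mem_append.mp hu with hu | hu
        · exact hl u hu
        · rw [List.mem_singleton] at hu
          rw [hu]; exact hv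
      · rw [List.map_append, List.prod_append, ← hgl, List.map_cons, List.map_nil,
          List.prod_cons, List.prod_nil, mul_one, mul_refl_mul_refl Q g hv]
    · push Not at hns
      obtain ⟨v, u₀, hv, h1, h1', h3⟩ := exists_good_pair_gen Q h2 hQ hcard hg hns hbot
      obtain ⟨w, x, hw, hx, hlt⟩ := exists_two_refl_drop Q h2 hQ hg hns hv h1 h1' h3
      rw [hn] at hlt
      have hiso : ∀ y, Q ((g * reflLin Q v * reflLin Q w * reflLin Q x) y) = Q y :=
        mul_refl_isom Q (mul_refl_isom Q (mul_refl_isom Q hg hv) hw) hx
      obtain ⟨l, hl, hgl⟩ := ih _ hlt _ hiso rfl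
      refine ⟨l ++ [x, w, v], ?_, ?_⟩
      · intro u hu
        rcases List.mem_append.mp hu with hu | hu
        · exact hl u hu
        · simp only [List.mem_cons, List.not_mem_nil, or_false] at hu
          rcases hu with rfl | rfl | rfl
          · exact hx
          · exact hw
          · exact hv
      · rw [List.map_append, List.prod_append, ← hgl]
        simp only [List.map_cons, List.map_nil, List.prod_cons, List.prod_nil, mul_one]
        rw [← mul_assoc, ← mul_assoc, mul_refl_mul_refl Q _ hx, mul_refl_mul_refl Q _ hw,
          mul_refl_mul_refl Q _ hv]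

end char2cd2

section char2trans

variable {F : Type*} [Field F] {V : Type*} [AddCommGroup V] [Module F V]
variable (Q : QuadraticForm F V)

/-- In characteristic two the group generated by reflections is transitive on the vectors of a
given non-zero norm (outside dimension four over the field of two elements). -/
theorem exists_refl_map_char2_gen (h2 : (2 : F) = 0) [Fintype F] [FiniteDimensional F V]
    (hQ : (QuadraticMap.polarBilin Q).Nondegenerate)
    (hcard : Fintype.card F ≠ 2 ∨ finrank F V ≠ 4 ∨
      ∀ U : Submodule F V, (∀ u ∈ U, Q u = 0) → finrank F U ≤ 1) {u v : V} (hu : Q u ≠ 0) (hv : Q v = Q u) :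
    ∃ l : List V, (∀ x ∈ l, Q x ≠ 0) ∧ ((l.map (reflLin Q)).prod) u = v := by
  by_cases hp : QuadraticMap.polar ⇑Q u v ≠ 0
  · obtain ⟨e1, e2⟩ := refl_add_apply Q h2 hv hp
    refine ⟨[u + v], ?_, ?_⟩
    · intro x hx
      rw [List.mem_singleton] at hx
      rw [hx]; exact e1
    · simpa using e2
  rw [not_not] at hp
  by_cases huv : u = v
  · exact ⟨[], by simp, by simpa using huv⟩
  have hv' : Q v ≠ 0 := by rw [hv]; exact hu
  have hu0 := ne_zero_of_quad_ne_zero Q hu
  have hv0 := ne_zero_of_quad_ne_zero Q hv'
  -- a non-singular vector not orthogonal to `u` nor to `v`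
  have key : ∃ w₀, Q w₀ ≠ 0 ∧ QuadraticMap.polar ⇑Q u w₀ ≠ 0 ∧ QuadraticMap.polar ⇑Q v w₀ ≠ 0 := by
    obtain ⟨a, -, ha1, ha2⟩ := exists_mem_notMem_notMem ⊤
      (LinearMap.ker (QuadraticMap.polarBilin Q u)) (LinearMap.ker (QuadraticMap.polarBilin Q v))
      (polar_ker_ne_top Q hQ hu0) (polar_ker_ne_top Q hQ hv0)
    rw [LinearMap.mem_ker, QuadraticMap.polarBilin_apply_apply] at ha1 ha2
    by_cases hQa : Q a ≠ 0
    · exact ⟨a, hQa, ha1, ha2⟩
    rw [not_not] at hQa
    by_cases hc2 : Fintype.card F = 2
    · have hn4 : finrank F V ≠ 4 ∨
          ∀ U : Submodule F V, (∀ u ∈ U, Q u = 0) → finrank F U ≤ 1 := by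
        rcases hcard with h | h | h
        · exact absurd hc2 h
        · exact Or.inl h
        · exact Or.inr h
      set S : Submodule F V := (F ∙ u) ⊔ (F ∙ v) with hS
      set T : Submodule F V := orth Q S with hT
      have hTu : ∀ b ∈ T, QuadraticMap.polar ⇑Q u b = 0 := by
        intro b hb
        rw [hT, mem_orth_iff] at hb
        exact hb u (Submodule.mem_sup_left (Submodule.mem_span_singleton_self u))
      have hTv : ∀ b ∈ T, QuadraticMap.polar ⇑Q v b = 0 := by
        intro b hb
        rw [hT, mem_orth_iff] at hb
        exact hb v (Submodule.mem_sup_right (Submodule.mem_span_singleton_self v))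
      by_cases hb : ∃ b ∈ T, Q b + QuadraticMap.polar ⇑Q a b ≠ 0
      · obtain ⟨b, hbT, hb⟩ := hb
        refine ⟨a + b, ?_, ?_, ?_⟩
        · have := QuadraticMap.map_add (⇑Q) a b
          rw [this, hQa, zero_add]; exact hb
        · rw [QuadraticMap.polar_add_right, hTu b hbT, add_zero]; exact ha1
        · rw [QuadraticMap.polar_add_right, hTv b hbT, add_zero]; exact ha2
      · exfalso
        push Not at hb
        -- T is totally isotropic
        have hTT : T ≤ orth Q T := by
          intro x hx
          rw [mem_orth_iff]
          intro y hy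
          have e1 := hb x hx
          have e2 := hb y hy
          have e3 := hb (y + x) (T.add_mem hy hx)
          have e4 := QuadraticMap.map_add (⇑Q) y x
          rw [QuadraticMap.polar_add_right] at e3
          linear_combination e3 - e1 - e2 - e4
        rw [hT, orth_orth Q hQ] at hTT
        rw [← hT] at hTT
        -- S is totally isotropic
        have hST : S ≤ T := by
          rw [hS]
          refine sup_le ?_ ?_
          · rw [Submodule.span_singleton_le_iff_mem, hT, mem_orth_iff]
            intro y hy
            obtain ⟨y1, hy1, y2, hy2, rfl⟩ := Submodule.mem_sup.mp hy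
            obtain ⟨c1, rfl⟩ := Submodule.mem_span_singleton.mp hy1
            obtain ⟨c2, rfl⟩ := Submodule.mem_span_singleton.mp hy2
            rw [QuadraticMap.polar_add_left, QuadraticMap.polar_smul_left,
              QuadraticMap.polar_smul_left, polar_self_char2 Q h2,
              QuadraticMap.polar_comm (⇑Q) v u, hp]
            simp
          · rw [Submodule.span_singleton_le_iff_mem, hT, mem_orth_iff]
            intro y hy
            obtain ⟨y1, hy1, y2, hy2, rfl⟩ := Submodule.mem_sup.mp hy
            obtain ⟨c1, rfl⟩ := Submodule.mem_span_singleton.mp hy1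
            obtain ⟨c2, rfl⟩ := Submodule.mem_span_singleton.mp hy2
            rw [QuadraticMap.polar_add_left, QuadraticMap.polar_smul_left,
              QuadraticMap.polar_smul_left, polar_self_char2 Q h2, hp]
            simp
        have hST' : S = T := le_antisymm hST hTT
        have d1 : finrank F T = finrank F V - finrank F S := finrank_orth Q hQ S
        have d2 : finrank F S ≤ finrank F V := Submodule.finrank_le S
        have d3 : finrank F S ≤ finrank F (F ∙ u) + finrank F (F ∙ v) :=
          Submodule.finrank_add_le_finrank_add_finrank (F ∙ u) (F ∙ v)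
        have d4 := finrank_span_singleton (K := F) hu0
        have d5 := finrank_span_singleton (K := F) hv0
        have d6 : finrank F S = finrank F T := by rw [← hST']
        have d7 : finrank F (F ∙ u) ≤ finrank F S :=
          Submodule.finrank_mono le_sup_left
        have d8 : finrank F S = 1 := by
          rcases hn4 with hn4 | hW
          · omega
          · exfalso
            have huT : u ∈ T := hST (Submodule.mem_sup_left (Submodule.mem_span_singleton_self u))
            have hvT : v ∈ T := hST (Submodule.mem_sup_right (Submodule.mem_span_singleton_self v))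
            have e1 := hb u huT
            have e2 := hb v hvT
            have hw0 : Q (u + v) = 0 := by
              have := QuadraticMap.map_add (⇑Q) u v
              rw [this, hv, hp]
              linear_combination (Q u) * h2
            have hwa : QuadraticMap.polar ⇑Q a (u + v) = 0 := by
              rw [QuadraticMap.polar_add_right]
              linear_combination e1 + e2 - hv - (Q u) * h2
            have hUts : ∀ x ∈ (F ∙ a) ⊔ (F ∙ (u + v)), Q x = 0 := by
              intro x hx
              obtain ⟨y1, hy1, y2, hy2, rfl⟩ := Submodule.mem_sup.mp hx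
              obtain ⟨c1, rfl⟩ := Submodule.mem_span_singleton.mp hy1
              obtain ⟨c2, rfl⟩ := Submodule.mem_span_singleton.mp hy2
              have := QuadraticMap.map_add (⇑Q) (c1 • a) (c2 • (u + v))
              rw [this, QuadraticMap.map_smul, QuadraticMap.map_smul, hQa, hw0,
                QuadraticMap.polar_smul_left, QuadraticMap.polar_smul_right, hwa]
              simp
            have hU1 := hW _ hUts
            have hw_ne : u + v ≠ 0 := by
              intro h0
              apply huv
              have := neg_eq_self_char2 (F := F) h2 v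
              rw [← this]
              exact eq_neg_of_add_eq_zero_left h0
            have hspan : F ∙ (u + v) = (F ∙ a) ⊔ (F ∙ (u + v)) := by
              apply Submodule.eq_of_le_of_finrank_le le_sup_right
              rw [finrank_span_singleton (K := F) hw_ne]
              exact hU1
            have haw : a ∈ F ∙ (u + v) := by
              rw [hspan]
              exact Submodule.mem_sup_left (Submodule.mem_span_singleton_self a)
            obtain ⟨c, rfl⟩ := Submodule.mem_span_singleton.mp haw
            apply ha1
            rw [QuadraticMap.polar_smul_right, QuadraticMap.polar_add_right,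
              polar_self_char2 Q h2, hp]
            simp
        have hSu : F ∙ u = S := by
          apply Submodule.eq_of_le_of_finrank_eq le_sup_left
          rw [d4, d8]
        have hvS : v ∈ F ∙ u := by
          rw [hSu]
          exact Submodule.mem_sup_right (Submodule.mem_span_singleton_self v)
        obtain ⟨c, rfl⟩ := Submodule.mem_span_singleton.mp hvS
        rw [QuadraticMap.map_smul, smul_eq_mul] at hv
        have hc : c * c + 1 * 1 = 0 := by
          have e : (c * c - 1) * Q u = 0 := by linear_combination hv
          rcases mul_eq_zero.mp e with h | h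
          · have h11 : (1 : F) + 1 = 0 := by rw [one_add_one_eq_two]; exact h2
            linear_combination h + h11
          · exact absurd h hu
        have hc1 := sq_eq_of_char2 h2 hc
        apply huv
        rw [hc1, one_smul]
    · have h4 := four_le_card_of_two_eq_zero h2 hc2
      classical
      obtain ⟨t, ht⟩ : ∃ t : F, t ∉ ({0, -QuadraticMap.polar ⇑Q a u / Q u} : Finset F) := by
        by_contra hcon
        push Not at hcon
        have h1 : (Finset.univ : Finset F) ⊆ {0, -QuadraticMap.polar ⇑Q a u / Q u} :=
          fun x _ => hcon x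
        have h2 := Finset.card_le_card h1
        have h3 := Finset.card_le_two (a := (0 : F)) (b := -QuadraticMap.polar ⇑Q a u / Q u)
        rw [Finset.card_univ] at h2
        omega
      simp only [Finset.mem_insert, Finset.mem_singleton, not_or] at ht
      obtain ⟨ht0, ht1⟩ := ht
      refine ⟨a + t • u, ?_, ?_, ?_⟩
      · have e := QuadraticMap.map_add (⇑Q) a (t • u)
        rw [e, hQa, zero_add, QuadraticMap.map_smul, QuadraticMap.polar_smul_right, smul_eq_mul,
          smul_eq_mul]
        intro h0
        apply ht1
        field_simp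
        have h5 : t * (t * Q u + QuadraticMap.polar ⇑Q a u) = 0 := by linear_combination h0
        rcases mul_eq_zero.mp h5 with h | h
        · exact absurd h ht0
        · linear_combination h
      · rw [QuadraticMap.polar_add_right, QuadraticMap.polar_smul_right, polar_self_char2 Q h2,
          smul_zero, add_zero]
        exact ha1
      · rw [QuadraticMap.polar_add_right, QuadraticMap.polar_smul_right,
          QuadraticMap.polar_comm (⇑Q) v u, hp, smul_zero, add_zero]
        exact ha2
  obtain ⟨w₀, hw₀, hw₀u, hw₀v⟩ := key
  have : CharP F 2 := CharTwo.of_one_ne_zero_of_two_eq_zero one_ne_zero h2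
  obtain ⟨t, ht⟩ := FiniteField.isSquare_of_char_two (ringChar.eq F 2) (Q u / Q w₀)
  have ht0 : t ≠ 0 := by
    rintro rfl
    rw [mul_zero] at ht
    exact (div_ne_zero hu hw₀) ht
  set w : V := t • w₀ with hw
  have hQw : Q w = Q u := by
    rw [hw, QuadraticMap.map_smul, smul_eq_mul, ← ht]
    field_simp
  have hwu : QuadraticMap.polar ⇑Q u w ≠ 0 := by
    rw [hw, QuadraticMap.polar_smul_right]
    exact mul_ne_zero ht0 hw₀u
  have hwv : QuadraticMap.polar ⇑Q w v ≠ 0 := by
    rw [hw, QuadraticMap.polar_smul_left, QuadraticMap.polar_comm]
    exact mul_ne_zero ht0 hw₀v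
  obtain ⟨e1, e2⟩ := refl_add_apply Q h2 hQw hwu
  obtain ⟨e3, e4⟩ := refl_add_apply Q h2 (hv.trans hQw.symm) hwv
  refine ⟨[w + v, u + w], ?_, ?_⟩
  · intro x hx
    simp only [List.mem_cons, List.not_mem_nil, or_false] at hx
    rcases hx with rfl | rfl
    · exact e3
    · exact e1
  · simp only [List.map_cons, List.map_nil, List.prod_cons, List.prod_nil, mul_one,
      Module.End.mul_apply]
    rw [e2, e4]

end char2trans

end Cfsg.Agent.Lib.Helper8.WallGen
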